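import Mathlib

/-!
Homogeneous and multiply transitive permutation groups: basic definitions in terms of the
permutations induced on finite sets.
-/

namespace CfsgLib.Homog

open Equiv

variable {α : Type*} [DecidableEq α] {G : Subgroup (Perm α)}

omit [DecidableEq α] in
theorem inv_apply_self (σ : Perm α) (x : α) : σ⁻¹ (σ x) = x := σ.symm_apply_apply x

omit [DecidableEq α] in
theorem apply_inv_self (σ : Perm α) (x : α) : σ (σ⁻¹ x) = x := σ.apply_symm_apply x

/-- `σ` moves only points of `s`. -/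
def SuppIn (s : Finset α) (σ : Perm α) : Prop := ∀ x ∉ s, σ x = x

/-- Some element of `G` agrees with `σ` on `s`. -/
def Ind (G : Subgroup (Perm α)) (s : Finset α) (σ : Perm α) : Prop :=
  ∃ g ∈ G, ∀ x ∈ s, g x = σ x

/-- `G` is transitive on the sets of size `k`. -/
def Homog (G : Subgroup (Perm α)) (k : ℕ) : Prop :=
  ∀ s t : Finset α, s.card = k → t.card = k → ∃ g ∈ G, s.image g = t

/-- `G` is `k`-fold transitive: every permutation is realised on every set of size at most `k`. -/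
def Trans (G : Subgroup (Perm α)) (k : ℕ) : Prop :=
  ∀ (σ : Perm α) (s : Finset α), s.card ≤ k → Ind G s σ

theorem SuppIn.one (s : Finset α) : SuppIn s (1 : Perm α) := fun _ _ => rfl

theorem SuppIn.mul {s : Finset α} {σ τ : Perm α} (hσ : SuppIn s σ) (hτ : SuppIn s τ) :
    SuppIn s (σ * τ) := fun x hx => by rw [Perm.mul_apply, hτ x hx, hσ x hx]

theorem SuppIn.inv {s : Finset α} {σ : Perm α} (hσ : SuppIn s σ) : SuppIn s σ⁻¹ := fun x hx => by
  rw [Perm.inv_eq_iff_eq]; exact (hσ x hx).symm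

theorem SuppIn.mem_iff {s : Finset α} {σ : Perm α} (hσ : SuppIn s σ) (x : α) :
    σ x ∈ s ↔ x ∈ s := by
  constructor
  · intro h
    by_contra hx
    exact hx (hσ x hx ▸ h)
  · intro h
    by_contra hx
    have h1 := hσ (σ x) hx
    rw [σ.injective h1] at hx
    exact hx h

theorem SuppIn.image_eq {s : Finset α} {σ : Perm α} (hσ : SuppIn s σ) : s.image σ = s :=
  Finset.eq_of_subset_of_card_le (fun y hy => by
    obtain ⟨x, hx, rfl⟩ := Finset.mem_image.1 hy
    exact (hσ.mem_iff x).2 hx) (by rw [Finset.card_image_of_injective _ σ.injective])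

theorem SuppIn.mono {s t : Finset α} {σ : Perm α} (hσ : SuppIn s σ) (h : s ⊆ t) : SuppIn t σ :=
  fun x hx => hσ x fun h' => hx (h h')

theorem SuppIn.ext {s : Finset α} {σ τ : Perm α} (hσ : SuppIn s σ) (hτ : SuppIn s τ)
    (h : ∀ x ∈ s, σ x = τ x) : σ = τ := Equiv.ext fun x => by
  by_cases hx : x ∈ s
  · exact h x hx
  · rw [hσ x hx, hτ x hx]

theorem SuppIn.conj {s : Finset α} {σ : Perm α} (hσ : SuppIn s σ) (g : Perm α) :
    SuppIn (s.image g) (g * σ * g⁻¹) := fun x hx => by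
  have : g⁻¹ x ∉ s := fun h => hx (Finset.mem_image.2 ⟨_, h, apply_inv_self g x⟩)
  rw [Perm.mul_apply, Perm.mul_apply, hσ _ this, apply_inv_self]

theorem suppIn_swap {s : Finset α} {a b : α} (ha : a ∈ s) (hb : b ∈ s) : SuppIn s (swap a b) :=
  fun x hx => swap_apply_of_ne_of_ne (fun h => hx (h ▸ ha)) (fun h => hx (h ▸ hb))

/-- A permutation of `s` agreeing with an injective map of `s` into itself. -/
theorem exists_suppIn (s : Finset α) (f : α → α) (hf : ∀ x ∈ s, f x ∈ s)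
    (hinj : Set.InjOn f (s : Set α)) : ∃ σ : Perm α, SuppIn s σ ∧ ∀ x ∈ s, σ x = f x := by
  classical
  let e : {x // x ∈ s} → {x // x ∈ s} := fun x => ⟨f x, hf x x.2⟩
  have he : Function.Bijective e := Finite.injective_iff_bijective.1 fun x y h =>
    Subtype.ext (hinj x.2 y.2 (congrArg Subtype.val h))
  refine ⟨Perm.ofSubtype (Equiv.ofBijective e he), fun x hx => ?_, fun x hx => ?_⟩
  · exact Perm.ofSubtype_apply_of_not_mem _ hx
  · rw [Perm.ofSubtype_apply_of_mem _ hx]; rfl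

/-- An element stabilising `s` induces a permutation of `s`. -/
theorem exists_induced {s : Finset α} {g : Perm α} (hg : ∀ x ∈ s, g x ∈ s) :
    ∃ σ : Perm α, SuppIn s σ ∧ ∀ x ∈ s, σ x = g x :=
  exists_suppIn s g hg (Set.InjOn.mono (Set.subset_univ _) (g.injective.injOn))

theorem Ind.mul {s : Finset α} {σ τ : Perm α} (h₁ : Ind G s σ) (h₂ : Ind G s τ)
    (hτ : SuppIn s τ) : Ind G s (σ * τ) := by
  obtain ⟨g, hg, hg'⟩ := h₁
  obtain ⟨h, hh, hh'⟩ := h₂
  refine ⟨g * h, G.mul_mem hg hh, fun x hx => ?_⟩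
  rw [Perm.mul_apply, Perm.mul_apply, hh' x hx, hg' _ ((hτ.mem_iff x).2 hx)]

theorem Ind.inv {s : Finset α} {σ : Perm α} (h : Ind G s σ) (hσ : SuppIn s σ) :
    Ind G s σ⁻¹ := by
  obtain ⟨g, hg, hg'⟩ := h
  refine ⟨g⁻¹, G.inv_mem hg, fun x hx => ?_⟩
  rw [Perm.inv_eq_iff_eq, hg' _ ((hσ.inv.mem_iff x).2 hx), apply_inv_self]

theorem Ind.one (s : Finset α) : Ind G s 1 := ⟨1, G.one_mem, fun _ _ => rfl⟩

theorem Ind.mono {s t : Finset α} {σ : Perm α} (h : Ind G t σ) (hst : s ⊆ t) : Ind G s σ := by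
  obtain ⟨g, hg, hg'⟩ := h
  exact ⟨g, hg, fun x hx => hg' x (hst hx)⟩

theorem Ind.conj {s : Finset α} {σ : Perm α} (h : Ind G s σ) {g : Perm α} (hg : g ∈ G) :
    Ind G (s.image g) (g * σ * g⁻¹) := by
  obtain ⟨k, hk, hk'⟩ := h
  refine ⟨g * k * g⁻¹, G.mul_mem (G.mul_mem hg hk) (G.inv_mem hg), fun x hx => ?_⟩
  obtain ⟨y, hy, rfl⟩ := Finset.mem_image.1 hx
  simp [Perm.mul_apply, inv_apply_self, hk' y hy]

/-- The permutations of `s` induced by `G`. -/
def induced (G : Subgroup (Perm α)) (s : Finset α) : Subgroup (Perm α) where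
  carrier := {σ | SuppIn s σ ∧ Ind G s σ}
  one_mem' := ⟨SuppIn.one s, Ind.one s⟩
  mul_mem' h₁ h₂ := ⟨h₁.1.mul h₂.1, h₁.2.mul h₂.2 h₂.1⟩
  inv_mem' h := ⟨h.1.inv, h.2.inv h.1⟩

theorem mem_induced {s : Finset α} {σ : Perm α} : σ ∈ induced G s ↔ SuppIn s σ ∧ Ind G s σ :=
  Iff.rfl

/-- The pointwise stabiliser. -/
def fixer (G : Subgroup (Perm α)) (s : Finset α) : Subgroup (Perm α) where
  carrier := {g | g ∈ G ∧ ∀ x ∈ s, g x = x}
  one_mem' := ⟨G.one_mem, fun _ _ => rfl⟩
  mul_mem' h₁ h₂ := ⟨G.mul_mem h₁.1 h₂.1, fun x hx => by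
    rw [Perm.mul_apply, h₂.2 x hx, h₁.2 x hx]⟩
  inv_mem' h := ⟨G.inv_mem h.1, fun x hx => by rw [Perm.inv_eq_iff_eq]; exact (h.2 x hx).symm⟩

theorem mem_fixer {s : Finset α} {g : Perm α} : g ∈ fixer G s ↔ g ∈ G ∧ ∀ x ∈ s, g x = x :=
  Iff.rfl

theorem fixer_le (s : Finset α) : fixer G s ≤ G := fun _ h => h.1

theorem fixer_mono {s t : Finset α} (h : s ⊆ t) : fixer G t ≤ fixer G s :=
  fun _ hg => ⟨hg.1, fun x hx => hg.2 x (h hx)⟩

variable [Fintype α]

/-- The sign of an induced permutation: every even permutation is induced. -/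
def AllEven (G : Subgroup (Perm α)) (s : Finset α) : Prop :=
  ∀ σ : Perm α, SuppIn s σ → Perm.sign σ = 1 → Ind G s σ

/-- No odd permutation is induced. -/
def NoOdd (G : Subgroup (Perm α)) (s : Finset α) : Prop :=
  ∀ σ : Perm α, SuppIn s σ → Ind G s σ → Perm.sign σ = 1

omit [Fintype α] in
theorem image_image_inv (s : Finset α) (g : Perm α) : (s.image g).image ⇑g⁻¹ = s := by
  rw [Finset.image_image]
  conv_rhs => rw [← Finset.image_id (s := s)]
  exact Finset.image_congr fun x _ => inv_apply_self g x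

theorem AllEven.image {s : Finset α} (h : AllEven G s) {g : Perm α} (hg : g ∈ G) :
    AllEven G (s.image g) := by
  intro σ hσ hs
  have h1 := hσ.conj g⁻¹
  rw [image_image_inv, inv_inv] at h1
  have h2 := (h _ h1 (by simp [hs])).conj hg
  rwa [show g * (g⁻¹ * σ * g) * g⁻¹ = σ by group] at h2

theorem NoOdd.image {s : Finset α} (h : NoOdd G s) {g : Perm α} (hg : g ∈ G) :
    NoOdd G (s.image g) := by
  intro σ hσ hi
  have h1 := hσ.conj g⁻¹
  have h2 := hi.conj (G.inv_mem hg)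
  rw [image_image_inv, inv_inv] at h1 h2
  have := h _ h1 h2
  rwa [map_mul, map_mul, Perm.sign_inv, mul_right_comm, Int.units_mul_self, one_mul] at this

theorem AllEven.of_homog {k : ℕ} (hh : Homog G k) {s : Finset α} (hs : s.card = k)
    (h : AllEven G s) {t : Finset α} (ht : t.card = k) : AllEven G t := by
  obtain ⟨g, hg, rfl⟩ := hh s t hs ht
  exact h.image hg

/-- If some set of size `m` receives every even and some odd permutation, then `G` is `m`-fold
transitive. -/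
theorem trans_of_all {m : ℕ} (hm : m ≤ Fintype.card α) (hh : Homog G m) {s : Finset α}
    (hs : s.card = m) (hall : ∀ σ, SuppIn s σ → Ind G s σ) : Trans G m := by
  intro σ t ht
  obtain ⟨t', htt', ht'⟩ := Finset.exists_superset_card_eq ht hm
  obtain ⟨g₁, hg₁, he₁⟩ := hh t' s ht' hs
  obtain ⟨g₂, hg₂, he₂⟩ := hh s (t'.image σ) hs (by rw [Finset.card_image_of_injective _ σ.injective, ht'])
  obtain ⟨τ, hτ, hτ'⟩ := exists_induced (g := g₂⁻¹ * σ * g₁⁻¹) (s := s) (fun x hx => by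
    rw [← he₁] at hx
    obtain ⟨y, hy, rfl⟩ := Finset.mem_image.1 hx
    have : σ y ∈ t'.image σ := Finset.mem_image_of_mem _ hy
    rw [← he₂] at this
    obtain ⟨z, hz, e⟩ := Finset.mem_image.1 this
    rw [Perm.mul_apply, Perm.mul_apply, inv_apply_self, ← e, inv_apply_self]
    exact hz)
  obtain ⟨h, hh', hh''⟩ := hall τ hτ
  refine ⟨g₂ * h * g₁, G.mul_mem (G.mul_mem hg₂ hh') hg₁, fun x hx => ?_⟩
  have hx' : g₁ x ∈ s := he₁ ▸ Finset.mem_image_of_mem _ (htt' hx)
  rw [Perm.mul_apply, Perm.mul_apply, hh'' _ hx', hτ' _ hx']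
  simp [Perm.mul_apply, inv_apply_self, apply_inv_self]

theorem all_of_even_of_odd {s : Finset α} (h : AllEven G s) (ho : ¬ NoOdd G s) :
    ∀ σ, SuppIn s σ → Ind G s σ := by
  simp only [NoOdd, not_forall] at ho
  obtain ⟨ρ, hρ, hρi, hρs⟩ := ho
  intro σ hσ
  rcases Int.units_eq_one_or (Perm.sign σ) with hs | hs
  · exact h σ hσ hs
  · have hρs' : Perm.sign ρ = -1 := (Int.units_eq_one_or _).resolve_left hρs
    have := (h (σ * ρ⁻¹) (hσ.mul hρ.inv) (by simp [hs, hρs'])).mul hρi hρ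
    rwa [inv_mul_cancel_right] at this

/-- `k`-fold transitivity is homogeneity. -/
theorem Trans.homog {k : ℕ} (h : Trans G k) : Homog G k := by
  intro s t hs ht
  let e : {x // x ∈ s} ≃ {x // x ∈ t} := Fintype.equivOfCardEq (by simp [hs, ht])
  obtain ⟨g, hg, hg'⟩ := h (e.extendSubtype) s hs.le
  refine ⟨g, hg, Finset.eq_of_subset_of_card_le (fun y hy => ?_) ?_⟩
  · obtain ⟨x, hx, rfl⟩ := Finset.mem_image.1 hy
    rw [hg' x hx]
    exact e.extendSubtype_mem x hx
  · rw [Finset.card_image_of_injective _ g.injective, hs, ht]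

omit [Fintype α] in
theorem Trans.mono {k m : ℕ} (h : Trans G k) (hm : m ≤ k) : Trans G m :=
  fun σ s hs => h σ s (hs.trans hm)

/-- An arbitrary injective map on a small set is realised. -/
theorem Trans.exists_map {k : ℕ} (h : Trans G k) {s : Finset α} (hs : s.card ≤ k) {f : α → α}
    (hf : Set.InjOn f (s : Set α)) : ∃ g ∈ G, ∀ x ∈ s, g x = f x := by
  let e : {x // x ∈ s} ≃ {x // x ∈ s.image f} := Equiv.ofBijective
    (fun x => ⟨f x, Finset.mem_image_of_mem f x.2⟩)
    ⟨fun x y he => Subtype.ext (hf x.2 y.2 (congrArg Subtype.val he)), fun y => by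
      obtain ⟨x, hx, he⟩ := Finset.mem_image.1 y.2
      exact ⟨⟨x, hx⟩, Subtype.ext he⟩⟩
  obtain ⟨g, hg, hg'⟩ := h (e.extendSubtype) s hs
  exact ⟨g, hg, fun x hx => by rw [hg' x hx, e.extendSubtype_apply_of_mem x hx]; rfl⟩

theorem trans_iff {k : ℕ} (hk : k ≤ Fintype.card α) :
    MulAction.IsMultiplyPretransitive G α k ↔ Trans G k := by
  constructor
  · intro h σ s hs
    obtain ⟨t, hst, ht⟩ := Finset.exists_superset_card_eq hs hk
    let x : Fin k ↪ α := (t.equivFinOfCardEq ht).symm.toEmbedding.trans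
      ⟨Subtype.val, Subtype.val_injective⟩
    haveI := h
    obtain ⟨g, hg⟩ := MulAction.exists_smul_eq G x (x.trans σ.toEmbedding)
    refine ⟨g, g.2, fun a ha => ?_⟩
    have := congrArg (fun e : Fin k ↪ α => e (t.equivFinOfCardEq ht ⟨a, hst ha⟩)) hg
    simpa [x, Subgroup.smul_def] using this
  · intro h
    rw [MulAction.isMultiplyPretransitive_iff]
    intro x y
    haveI := Equiv.Perm.isMultiplyPretransitive α k
    obtain ⟨σ, hσ⟩ := MulAction.exists_smul_eq (Perm α) x y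
    obtain ⟨g, hg, hg'⟩ := h σ (Finset.univ.image x)
      ((Finset.card_image_le).trans (by simp))
    refine ⟨⟨g, hg⟩, Function.Embedding.ext fun i => ?_⟩
    have := congrArg (fun e : Fin k ↪ α => e i) hσ
    simpa [Subgroup.smul_def, hg' (x i) (Finset.mem_image_of_mem _ (Finset.mem_univ i))] using this

open scoped Pointwise in
theorem homog_iff {k : ℕ} :
    MulAction.IsPretransitive G (Set.powersetCard α k) ↔ Homog G k := by
  constructor
  · intro h s t hs ht
    haveI := h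
    obtain ⟨g, hg⟩ := MulAction.exists_smul_eq G (⟨s, hs⟩ : Set.powersetCard α k) ⟨t, ht⟩
    refine ⟨g, g.2, ?_⟩
    exact congrArg Subtype.val hg
  · intro h
    refine ⟨fun s t => ?_⟩
    obtain ⟨g, hg, he⟩ := h s t s.2 t.2
    exact ⟨⟨g, hg⟩, Subtype.ext he⟩

end CfsgLib.Homog
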