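import Mathlib
import Cfsg.Agent.Homog.Basic

/-!
Pointwise stabilisers, Witt's lemma and the group induced on the fixed points of a subgroup.
-/

namespace CfsgLib.Homog

open Equiv

variable {α : Type*} [DecidableEq α] {G : Subgroup (Perm α)}

theorem fixer_map_conj {g : Perm α} (hg : g ∈ G) (s : Finset α) :
    (fixer G s).map (MulAut.conj g).toMonoidHom = fixer G (s.image g) := by
  ext h
  constructor
  · rintro ⟨k, hk, rfl⟩
    refine ⟨G.mul_mem (G.mul_mem hg hk.1) (G.inv_mem hg), fun x hx => ?_⟩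
    obtain ⟨y, hy, rfl⟩ := Finset.mem_image.1 hx
    show (g * k * g⁻¹) (g y) = g y
    simp [Perm.mul_apply, inv_apply_self, hk.2 y hy]
  · intro hh
    refine ⟨g⁻¹ * h * g, ⟨G.mul_mem (G.mul_mem (G.inv_mem hg) hh.1) hg, fun x hx => ?_⟩, ?_⟩
    · rw [Perm.mul_apply, Perm.mul_apply, hh.2 _ (Finset.mem_image_of_mem g hx), inv_apply_self]
    · show g * (g⁻¹ * h * g) * g⁻¹ = h
      group

theorem card_fixer_image {g : Perm α} (hg : g ∈ G) (s : Finset α) :
    Nat.card (fixer G (s.image g)) = Nat.card (fixer G s) := by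
  rw [← fixer_map_conj hg]
  exact (Nat.card_congr ((fixer G s).equivMapOfInjective _ (MulEquiv.injective _)).toEquiv).symm

theorem card_fixer_eq {k : ℕ} (hh : Homog G k) {s t : Finset α} (hs : s.card = k)
    (ht : t.card = k) : Nat.card (fixer G s) = Nat.card (fixer G t) := by
  obtain ⟨g, hg, rfl⟩ := hh s t hs ht
  exact (card_fixer_image hg s).symm

theorem mem_fixer_pow {s : Finset α} {g : Perm α} (hg : g ∈ fixer G s) (m : ℕ) :
    g ^ m ∈ fixer G s := (fixer G s).pow_mem hg m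

/-- An element of odd order whose square fixes a point fixes it. -/
theorem fix_of_sq_fix {g : Perm α} (hg : Odd (orderOf g)) {x : α} (h : g (g x) = x) :
    g x = x := by
  obtain ⟨i, hi⟩ := hg
  have h1 : g ∈ Subgroup.zpowers (g * g) := ⟨(i : ℤ) + 1, by
    show (g * g) ^ ((i : ℤ) + 1) = g
    rw [show ((i : ℤ) + 1) = ((i + 1 : ℕ) : ℤ) by push_cast; ring, zpow_natCast, ← pow_two,
      ← pow_mul, show 2 * (i + 1) = (2 * i + 1) + 1 by ring, pow_succ, ← hi, pow_orderOf_eq_one,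
      one_mul]⟩
  have hle : Subgroup.zpowers (g * g) ≤ MulAction.stabilizer (Perm α) x :=
    Subgroup.zpowers_le.2 (by rw [MulAction.mem_stabilizer_iff, Perm.smul_def, Perm.mul_apply, h])
  exact hle h1

/-- A maximal `p`-subgroup. -/
def IsMaxP (p : ℕ) (Q K : Subgroup (Perm α)) : Prop :=
  Q ≤ K ∧ IsPGroup p Q ∧ ∀ R : Subgroup (Perm α), Q ≤ R → R ≤ K → IsPGroup p R → R = Q

/-- The elements of `G` normalising `Q`. -/
def normIn (G Q : Subgroup (Perm α)) : Subgroup (Perm α) :=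
  G ⊓ Subgroup.normalizer (Q : Set (Perm α))

/-- The group induced by the normaliser of `Q` in `G` on a set `F`. -/
def normOn (G Q : Subgroup (Perm α)) (F : Finset α) : Subgroup (Perm ↥F) where
  carrier := {π | ∃ g ∈ normIn G Q, ∀ x : ↥F, (π x : α) = g x}
  one_mem' := ⟨1, one_mem _, fun _ => rfl⟩
  mul_mem' := by
    rintro π ρ ⟨g, hg, hg'⟩ ⟨h, hh, hh'⟩
    exact ⟨g * h, mul_mem hg hh, fun x => by rw [Perm.mul_apply, Perm.mul_apply, hg', hh']⟩
  inv_mem' := by
    rintro π ⟨g, hg, hg'⟩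
    refine ⟨g⁻¹, inv_mem hg, fun x => ?_⟩
    have := hg' (π⁻¹ x)
    rw [apply_inv_self] at this
    rw [this, inv_apply_self]

variable [Fintype α]

theorem IsMaxP.exists_of_le {p : ℕ} {Q K : Subgroup (Perm α)} (hQK : Q ≤ K) (hQ : IsPGroup p Q) :
    ∃ P, Q ≤ P ∧ IsMaxP p P K := by
  haveI : Finite (Subgroup (Perm α)) := inferInstance
  obtain ⟨P, hQP, hP⟩ := Finite.exists_le_maximal
    (p := fun P : Subgroup (Perm α) => P ≤ K ∧ IsPGroup p P) (a := Q) ⟨hQK, hQ⟩
  exact ⟨P, hQP, hP.1.1, hP.1.2, fun R h1 h2 h3 => le_antisymm (hP.2 ⟨h2, h3⟩ h1) h1⟩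

theorem IsMaxP.exists_conj {p : ℕ} [Fact p.Prime] {Q R K : Subgroup (Perm α)}
    (hQ : IsMaxP p Q K) (hR : IsMaxP p R K) :
    ∃ l ∈ K, Q.map (MulAut.conj l).toMonoidHom = R := by
  have mk : ∀ S : Subgroup (Perm α), IsMaxP p S K → ∃ P : Sylow p K,
      (P : Subgroup K).map K.subtype = S := by
    intro S hS
    have hmap : (S.subgroupOf K).map K.subtype = S := by
      rw [Subgroup.subgroupOf, Subgroup.map_comap_eq, Subgroup.range_subtype,
        inf_eq_right.2 hS.1]
    refine ⟨⟨S.subgroupOf K, hS.2.1.comap_subtype, fun {P} hP hle => ?_⟩, hmap⟩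
    have h1 := hS.2.2 (P.map K.subtype) (by rw [← hmap]; exact Subgroup.map_mono hle)
      (Subgroup.map_subtype_le _) (hP.map _)
    rw [← hmap] at h1
    exact Subgroup.map_injective K.subtype_injective h1
  obtain ⟨P₁, h₁⟩ := mk Q hQ
  obtain ⟨P₂, h₂⟩ := mk R hR
  obtain ⟨l, hl⟩ := MulAction.exists_smul_eq K P₁ P₂
  refine ⟨l, l.2, ?_⟩
  rw [← h₁, ← h₂, ← hl, Subgroup.map_map]
  change _ = ((P₁ : Subgroup K).map (MulAut.conj l).toMonoidHom).map K.subtype
  rw [Subgroup.map_map]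
  rfl

theorem IsMaxP.map_conj {p : ℕ} {Q : Subgroup (Perm α)} {s : Finset α} {g : Perm α} (hg : g ∈ G)
    (hQ : IsMaxP p Q (fixer G s)) :
    IsMaxP p (Q.map (MulAut.conj g).toMonoidHom) (fixer G (s.image g)) := by
  refine ⟨by rw [← fixer_map_conj hg]; exact Subgroup.map_mono hQ.1, hQ.2.1.map _,
    fun R h1 h2 h3 => ?_⟩
  have hR : R.comap (MulAut.conj g).toMonoidHom = Q := hQ.2.2 _ (Subgroup.map_le_iff_le_comap.1 h1)
    (by
      rw [← Subgroup.comap_map_eq_self_of_injective (f := (MulAut.conj g).toMonoidHom)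
        (MulEquiv.injective _) (fixer G s), fixer_map_conj hg]
      exact Subgroup.comap_mono h2)
    (h3.comap_of_injective _ (MulEquiv.injective _))
  rw [← hR, Subgroup.map_comap_eq_self_of_surjective (MulEquiv.surjective _)]

/-- The points fixed by a subgroup. -/
noncomputable def fixedSet (Q : Subgroup (Perm α)) : Finset α :=
  haveI := Classical.decPred fun x : α => ∀ q ∈ Q, q x = x
  Finset.univ.filter fun x => ∀ q ∈ Q, q x = x

theorem mem_fixedSet {Q : Subgroup (Perm α)} {x : α} :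
    x ∈ fixedSet Q ↔ ∀ q ∈ Q, q x = x := by
  simp [fixedSet]

theorem subset_fixedSet {Q : Subgroup (Perm α)} {s : Finset α} (h : Q ≤ fixer G s) :
    s ⊆ fixedSet Q := fun _ hx => mem_fixedSet.2 fun _ hq => (h hq).2 _ hx

theorem le_fixer_of_subset {Q : Subgroup (Perm α)} {s : Finset α} (hQ : Q ≤ G)
    (h : s ⊆ fixedSet Q) : Q ≤ fixer G s :=
  fun _ hq => ⟨hQ hq, fun _ hx => mem_fixedSet.1 (h hx) _ hq⟩

theorem card_fixedSet_lt {Q : Subgroup (Perm α)} (hQ : Q ≠ ⊥) :
    (fixedSet Q).card < Fintype.card α := by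
  rw [← Finset.card_univ]
  refine Finset.card_lt_card (Finset.ssubset_iff_subset_ne.2 ⟨Finset.subset_univ _, fun h => hQ ?_⟩)
  rw [Subgroup.eq_bot_iff_forall]
  intro q hq
  exact Equiv.ext fun x => mem_fixedSet.1 (h ▸ Finset.mem_univ x) q hq

theorem card_fixedSet_modEq {p : ℕ} [Fact p.Prime] {Q : Subgroup (Perm α)} (hQ : IsPGroup p Q) :
    Fintype.card α ≡ (fixedSet Q).card [MOD p] := by
  classical
  have h := hQ.card_modEq_card_fixedPoints α
  rw [Nat.card_eq_fintype_card] at h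
  suffices e : Nat.card (MulAction.fixedPoints Q α) = (fixedSet Q).card by rwa [e] at h
  rw [Nat.card_eq_fintype_card, ← Set.toFinset_card]
  apply congrArg Finset.card
  ext x
  rw [Set.mem_toFinset, mem_fixedSet]
  exact ⟨fun h q hq => h ⟨q, hq⟩, fun h q => h q q.2⟩

theorem mem_fixedSet_normIn {Q : Subgroup (Perm α)} {g : Perm α} (hg : g ∈ normIn G Q) {x : α} :
    g x ∈ fixedSet Q ↔ x ∈ fixedSet Q := by
  have key : ∀ g ∈ normIn G Q, ∀ x ∈ fixedSet Q, g x ∈ fixedSet Q := by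
    intro g hg x hx
    refine mem_fixedSet.2 fun q hq => ?_
    have hn := (Subgroup.mem_normalizer_iff''.1 hg.2 q).1 hq
    have := mem_fixedSet.1 hx _ hn
    rw [Perm.mul_apply, Perm.mul_apply, Perm.inv_eq_iff_eq] at this
    exact this
  refine ⟨fun h => ?_, key g hg x⟩
  have := key g⁻¹ (inv_mem hg) _ h
  rwa [inv_apply_self] at this

/-- The element of the induced group coming from an element of the normaliser. -/
theorem exists_normOn {Q : Subgroup (Perm α)} {g : Perm α} (hg : g ∈ normIn G Q) :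
    ∃ π ∈ normOn G Q (fixedSet Q), ∀ x : ↥(fixedSet Q), (π x : α) = g x :=
  ⟨g.subtypePerm fun _ => mem_fixedSet_normIn hg, ⟨g, hg, fun _ => rfl⟩, fun _ => rfl⟩

/-- Witt's lemma. -/
theorem witt {p : ℕ} [Fact p.Prime] {Q : Subgroup (Perm α)} {s : Finset α} {g : Perm α}
    (hs : IsMaxP p Q (fixer G s)) (hg : g ∈ G) (ht : IsMaxP p Q (fixer G (s.image g))) :
    ∃ g' ∈ normIn G Q, ∀ x ∈ s, g' x = g x := by
  obtain ⟨l, hl, he⟩ := (hs.map_conj hg).exists_conj ht
  refine ⟨l * g, ⟨G.mul_mem hl.1 hg, ?_⟩, fun x hx => ?_⟩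
  · rw [Subgroup.map_map] at he
    show l * g ∈ Subgroup.normalizer (Q : Set (Perm α))
    rw [Subgroup.mem_normalizer_iff]
    intro q
    conv_rhs => rw [← he]
    constructor
    · intro hq
      exact ⟨q, hq, by
        show l * (g * q * g⁻¹) * l⁻¹ = l * g * q * (l * g)⁻¹
        group⟩
    · rintro ⟨r, hr, e⟩
      change l * (g * r * g⁻¹) * l⁻¹ = l * g * q * (l * g)⁻¹ at e
      have e' : l * g * r * (l * g)⁻¹ = l * g * q * (l * g)⁻¹ := by rw [← e]; group
      exact mul_left_cancel (mul_right_cancel e') ▸ hr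
  · rw [Perm.mul_apply, hl.2 _ (Finset.mem_image_of_mem g hx)]

/-- Transfer of induced permutations to the fixed points, and back. -/
theorem ind_of_normOn {Q : Subgroup (Perm α)} {F : Finset α} {s : Finset ↥F} {σ : Perm ↥F}
    (h : Ind (normOn G Q F) s σ) :
    Ind G (s.map (Function.Embedding.subtype _)) (Perm.ofSubtype σ) := by
  obtain ⟨π, ⟨g, hg, hg'⟩, hπ⟩ := h
  refine ⟨g, hg.1, fun x hx => ?_⟩
  obtain ⟨y, hy, rfl⟩ := Finset.mem_map.1 hx
  show g (y : α) = Perm.ofSubtype σ (y : α)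
  rw [Perm.ofSubtype_apply_coe, ← hπ y hy, hg']

theorem suppIn_ofSubtype {F : Finset α} {s : Finset ↥F} {σ : Perm ↥F} (h : SuppIn s σ) :
    SuppIn (s.map (Function.Embedding.subtype _)) (Perm.ofSubtype σ) := fun x hx => by
  by_cases hxF : x ∈ F
  · rw [Perm.ofSubtype_apply_of_mem _ hxF, h ⟨x, hxF⟩ fun h' => hx
      (Finset.mem_map.2 ⟨⟨x, hxF⟩, h', rfl⟩)]
  · exact Perm.ofSubtype_apply_of_not_mem _ hxF

theorem NoOdd.normOn {Q : Subgroup (Perm α)} {F : Finset α} {s : Finset ↥F}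
    (h : NoOdd G (s.map (Function.Embedding.subtype _))) : NoOdd (normOn G Q F) s := by
  intro σ hσ hi
  have := h _ (suppIn_ofSubtype hσ) (ind_of_normOn hi)
  rwa [Perm.sign_ofSubtype] at this

theorem AllEven.normOn {p : ℕ} [Fact p.Prime] {Q : Subgroup (Perm α)}
    {s : Finset ↥(fixedSet Q)}
    (hs : IsMaxP p Q (fixer G (s.map (Function.Embedding.subtype _))))
    (h : AllEven G (s.map (Function.Embedding.subtype _))) :
    AllEven (normOn G Q (fixedSet Q)) s := by
  intro σ hσ hsign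
  obtain ⟨g, hg, hg'⟩ := h _ (suppIn_ofSubtype hσ) (by rwa [Perm.sign_ofSubtype])
  have himg : (s.map (Function.Embedding.subtype _)).image g =
      s.map (Function.Embedding.subtype _) := by
    rw [Finset.image_congr (g := Perm.ofSubtype σ) (fun x hx => hg' x hx)]
    exact (suppIn_ofSubtype hσ).image_eq
  obtain ⟨g', hg'n, he⟩ := witt hs hg (by rwa [himg])
  obtain ⟨π, hπ, hπ'⟩ := exists_normOn hg'n
  refine ⟨π, hπ, fun x hx => Subtype.ext ?_⟩
  have hx' : (x : α) ∈ s.map (Function.Embedding.subtype _) :=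
    Finset.mem_map.2 ⟨x, hx, rfl⟩
  rw [hπ', he _ hx', hg' _ hx', Perm.ofSubtype_apply_coe]

theorem homog_normOn {p : ℕ} [Fact p.Prime] {Q : Subgroup (Perm α)} {k : ℕ} (hh : Homog G k)
    (hmax : ∀ t : Finset α, t.card = k → t ⊆ fixedSet Q → IsMaxP p Q (fixer G t)) :
    Homog (normOn G Q (fixedSet Q)) k := by
  intro s t hs ht
  have hsub : ∀ u : Finset ↥(fixedSet Q), u.map (Function.Embedding.subtype _) ⊆ fixedSet Q := by
    intro u x hx
    obtain ⟨y, -, rfl⟩ := Finset.mem_map.1 hx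
    exact y.2
  obtain ⟨g, hg, hg'⟩ := hh (s.map (Function.Embedding.subtype _))
    (t.map (Function.Embedding.subtype _)) (by rw [Finset.card_map, hs])
    (by rw [Finset.card_map, ht])
  obtain ⟨g', hg'n, he⟩ := witt (hmax _ (by rw [Finset.card_map, hs]) (hsub s)) hg
    (by rw [hg']; exact hmax _ (by rw [Finset.card_map, ht]) (hsub t))
  obtain ⟨π, hπ, hπ'⟩ := exists_normOn hg'n
  refine ⟨π, hπ, Finset.map_injective (Function.Embedding.subtype _) ?_⟩
  rw [← hg']
  ext x
  simp only [Finset.mem_map, Finset.mem_image, Function.Embedding.coe_subtype]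
  constructor
  · rintro ⟨_, ⟨y, hy, rfl⟩, rfl⟩
    refine ⟨y, ⟨y, hy, rfl⟩, ?_⟩
    rw [hπ']
    exact (he _ (Finset.mem_map.2 ⟨y, hy, rfl⟩)).symm
  · rintro ⟨_, ⟨y, hy, rfl⟩, rfl⟩
    refine ⟨π y, ⟨y, hy, rfl⟩, ?_⟩
    rw [hπ']
    exact he _ (Finset.mem_map.2 ⟨y, hy, rfl⟩)

/-- A maximal `p`-subgroup of one pointwise stabiliser is maximal in all those containing it. -/
theorem IsMaxP.transport {p : ℕ} [Fact p.Prime] {Q : Subgroup (Perm α)} {k : ℕ} (hh : Homog G k)
    {s t : Finset α} (hs : s.card = k) (ht : t.card = k) (hQ : IsMaxP p Q (fixer G s))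
    (hle : Q ≤ fixer G t) : IsMaxP p Q (fixer G t) := by
  obtain ⟨g, hg, rfl⟩ := hh s t hs ht
  obtain ⟨P, hQP, hP⟩ := IsMaxP.exists_of_le hle hQ.2.1
  obtain ⟨l, -, hl⟩ := (hQ.map_conj hg).exists_conj hP
  have hcard : Nat.card P ≤ Nat.card Q := by
    rw [← hl, ← Nat.card_congr
        ((Q.map (MulAut.conj g).toMonoidHom).equivMapOfInjective _ (MulEquiv.injective _)).toEquiv,
      ← Nat.card_congr (Q.equivMapOfInjective _ (MulEquiv.injective _)).toEquiv]
  rwa [Subgroup.eq_of_le_of_card_ge hQP hcard]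

/-- Orbit counting for pointwise stabilisers. -/
theorem card_fixer_insert {s : Finset α} {d : α} (hd : d ∉ s)
    (ht : ∀ x ∉ s, ∃ g ∈ fixer G s, g d = x) :
    Nat.card (fixer G s) = (Fintype.card α - s.card) * Nat.card (fixer G (insert d s)) := by
  classical
  have h1 := Subgroup.card_mul_index (MulAction.stabilizer (fixer G s) d)
  have h2 : Nat.card (MulAction.stabilizer (fixer G s) d) = Nat.card (fixer G (insert d s)) :=
    Nat.card_congr
      { toFun := fun g => ⟨(g : fixer G s), (g : fixer G s).2.1, fun x hx => by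
          rcases Finset.mem_insert.1 hx with rfl | hx
          · exact g.2
          · exact (g : fixer G s).2.2 x hx⟩
        invFun := fun g => ⟨⟨g, fixer_mono (Finset.subset_insert d s) g.2⟩,
          g.2.2 d (Finset.mem_insert_self d s)⟩
        left_inv := fun _ => rfl
        right_inv := fun _ => rfl }
  rw [MulAction.index_stabilizer] at h1
  have h3 : MulAction.orbit (fixer G s) d = (↑(sᶜ) : Set α) := by
    ext x
    rw [MulAction.mem_orbit_iff, Finset.mem_coe, Finset.mem_compl]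
    constructor
    · rintro ⟨g, rfl⟩ hx
      apply hd
      have e : (g : Perm α) ((g : Perm α) d) = (g : Perm α) d := g.2.2 _ hx
      rw [← (g : Perm α).injective e]
      exact hx
    · intro hx
      obtain ⟨g, hg, he⟩ := ht x hx
      exact ⟨⟨g, hg⟩, he⟩
  rw [h3, Set.ncard_coe_finset, Finset.card_compl, h2] at h1
  rw [← h1, mul_comm]

end CfsgLib.Homog
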