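import Mathlib
import Cfsg.Agent.Homog.Witt

/-!
Sufficient conditions for a set to receive every even permutation.
-/

namespace CfsgLib.Homog

open Equiv

variable {α : Type*} [DecidableEq α] [Fintype α] {G : Subgroup (Perm α)}

theorem SuppIn.erase {s : Finset α} {σ : Perm α} (hσ : SuppIn s σ) {w : α} (hw : σ w = w) :
    SuppIn (s.erase w) σ := fun x hx => by
  rcases eq_or_ne x w with rfl | h
  · exact hw
  · exact hσ x fun h' => hx (Finset.mem_erase.2 ⟨h, h'⟩)

/-- It is enough that the even permutations fixing some point of the set are induced. -/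
theorem allEven_of_fix {Δ : Finset α} (hΔ : 5 ≤ Δ.card)
    (h : ∀ w ∈ Δ, AllEven (fixer G {w}) (Δ.erase w)) : AllEven G Δ := by
  classical
  have h' : ∀ w ∈ Δ, ∀ σ, SuppIn Δ σ → σ w = w → Perm.sign σ = 1 → Ind G Δ σ := by
    intro w hw σ hσ hσw hs
    obtain ⟨g, hg, hg'⟩ := h w hw σ (hσ.erase hσw) hs
    refine ⟨g, hg.1, fun x hx => ?_⟩
    rcases eq_or_ne x w with rfl | hxw
    · rw [hg.2 x (by simp), hσw]
    · exact hg' x (Finset.mem_erase.2 ⟨hxw, hx⟩)
  intro σ hσ hs
  obtain ⟨z, hz⟩ := Finset.card_pos.1 (show 0 < Δ.card by omega)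
  rcases eq_or_ne (σ z) z with he | he
  · exact h' z hz σ hσ he hs
  have ha : σ z ∈ Δ := (hσ.mem_iff z).2 hz
  have hc : 3 ≤ ((Δ.erase z).erase (σ z)).card := by
    rw [Finset.card_erase_of_mem (Finset.mem_erase.2 ⟨he, ha⟩), Finset.card_erase_of_mem hz]
    omega
  obtain ⟨b, c, w, hb, hc, hw, hbc, hbw, hcw⟩ := Finset.two_lt_card_iff.1 hc
  simp only [Finset.mem_erase] at hb hc hw
  set τ := swap z (σ z) * swap b c with hτ
  have hτs : SuppIn Δ τ := (suppIn_swap hz ha).mul (suppIn_swap hb.2.2 hc.2.2)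
  have hτsign : Perm.sign τ = 1 := by
    rw [hτ, map_mul, Perm.sign_swap (Ne.symm he), Perm.sign_swap hbc]; decide
  have hτw : τ w = w := by
    rw [hτ, Perm.mul_apply, swap_apply_of_ne_of_ne hbw.symm hcw.symm,
      swap_apply_of_ne_of_ne hw.2.1 hw.1]
  have hτσ : (τ * σ) z = z := by
    rw [hτ, Perm.mul_apply, Perm.mul_apply, swap_apply_of_ne_of_ne hb.1.symm hc.1.symm,
      swap_apply_right]
  have h1 := h' z hz (τ * σ) (hτs.mul hσ) hτσ (by rw [map_mul, hτsign, hs, one_mul])
  have h2 := h' w hw.2.2 τ⁻¹ hτs.inv (by rw [Perm.inv_eq_iff_eq, hτw])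
    (by rw [Perm.sign_inv, hτsign])
  simpa using h2.mul h1 (hτs.mul hσ)

/-- It is enough that the three-cycles are induced. -/
theorem allEven_of_threeCycle {s : Finset α}
    (h : ∀ a ∈ s, ∀ b ∈ s, ∀ c ∈ s, a ≠ b → a ≠ c → b ≠ c → Ind G s (swap a b * swap b c)) :
    AllEven G s := by
  classical
  intro σ hσ hs
  let Φ : Perm ↥s →* Perm α := Perm.ofSubtype
  have hle : alternatingGroup ↥s ≤ (induced G s).comap Φ := by
    rw [← Perm.closure_three_cycles_eq_alternating, Subgroup.closure_le]
    intro π hπ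
    have hΦs : SuppIn s (Φ π) := fun x hx => Perm.ofSubtype_apply_of_not_mem _ hx
    refine ⟨hΦs, ?_⟩
    have h3 : π ^ 3 = 1 := by rw [← (hπ : π.IsThreeCycle).orderOf, pow_orderOf_eq_one]
    have hcard : π.support.card = 3 := (hπ : π.IsThreeCycle).card_support
    obtain ⟨a, ha⟩ := Finset.card_pos.1 (show 0 < π.support.card by omega)
    have hab : π a ≠ a := Perm.mem_support.1 ha
    have hb : π (π a) ≠ π a := fun e => hab (π.injective e)
    have hc : π (π a) ≠ a := fun e => hab (by
      calc π a = π (π (π a)) := by rw [e]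
        _ = (π ^ 3) a := by simp [pow_succ]
        _ = a := by rw [h3, Perm.one_apply])
    have h3a : π (π (π a)) = a := by
      calc π (π (π a)) = (π ^ 3) a := by simp [pow_succ]
        _ = a := by rw [h3, Perm.one_apply]
    have hsupp : π.support = {a, π a, π (π a)} := (Finset.eq_of_subset_of_card_le (fun x hx => by
      simp only [Finset.mem_insert, Finset.mem_singleton] at hx
      rw [Perm.mem_support]
      rcases hx with rfl | rfl | rfl
      · exact hab
      · exact hb
      · rw [h3a]; exact hc.symm) (by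
        rw [hcard, Finset.card_eq_three.2 ⟨a, π a, π (π a), Ne.symm hab, Ne.symm hc, Ne.symm hb,
          rfl⟩])).symm
    have he : π = swap a (π a) * swap (π a) (π (π a)) := Equiv.ext fun x => by
      by_cases hx : x ∈ π.support
      · rw [hsupp] at hx
        simp only [Finset.mem_insert, Finset.mem_singleton] at hx
        rcases hx with rfl | rfl | rfl
        · rw [Perm.mul_apply, swap_apply_of_ne_of_ne (Ne.symm hab) (Ne.symm hc), swap_apply_left]
        · rw [Perm.mul_apply, swap_apply_left, swap_apply_of_ne_of_ne hc hb]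
        · rw [Perm.mul_apply, swap_apply_right, swap_apply_right, h3a]
      · have hxf : π x = x := Perm.notMem_support.1 hx
        rw [hsupp] at hx
        simp only [Finset.mem_insert, Finset.mem_singleton, not_or] at hx
        rw [hxf, Perm.mul_apply, swap_apply_of_ne_of_ne hx.2.1 hx.2.2,
          swap_apply_of_ne_of_ne hx.1 hx.2.1]
    rw [he, map_mul, show Φ (swap a (π a)) = swap (a : α) (π a : α) from Perm.ofSubtype_swap_eq ..,
      show Φ (swap (π a) (π (π a))) = swap (π a : α) (π (π a) : α) from Perm.ofSubtype_swap_eq ..]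
    exact h _ a.2 _ (π a).2 _ (π (π a)).2 (Subtype.coe_injective.ne (Ne.symm hab))
      (Subtype.coe_injective.ne (Ne.symm hc)) (Subtype.coe_injective.ne (Ne.symm hb))
  let σ' : Perm ↥s := σ.subtypePerm fun x => hσ.mem_iff x
  have hσ' : Φ σ' = σ := Equiv.ext fun x => by
    by_cases hx : x ∈ s
    · exact Perm.ofSubtype_apply_of_mem _ hx
    · rw [hσ x hx]; exact Perm.ofSubtype_apply_of_not_mem _ hx
  have : Φ σ' ∈ induced G s := hle (Perm.mem_alternatingGroup.2 (by
    rw [← Perm.sign_ofSubtype σ', show Perm.ofSubtype σ' = σ from hσ', hs]))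
  rw [hσ'] at this
  exact this.2

/-- Pulling back from the fixed points of a subgroup. -/
theorem AllEven.of_normOn {Q : Subgroup (Perm α)} {F : Finset α} {s : Finset ↥F}
    (h : AllEven (Homog.normOn G Q F) s) : AllEven G (s.map (Function.Embedding.subtype _)) := by
  classical
  intro σ hσ hsign
  have hF : ∀ x, σ x ∈ F ↔ x ∈ F := fun x => by
    by_cases hx : x ∈ s.map (Function.Embedding.subtype _)
    · have h1 := (hσ.mem_iff x).2 hx
      obtain ⟨a, -, ha⟩ := Finset.mem_map.1 hx
      obtain ⟨b, -, hb⟩ := Finset.mem_map.1 h1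
      rw [← hb, ← ha]
      exact iff_of_true b.2 a.2
    · rw [hσ x hx]
  let σ' : Perm ↥F := σ.subtypePerm hF
  have hs' : SuppIn s σ' := fun x hx => Subtype.ext (hσ x fun h' => by
    obtain ⟨y, hy, e⟩ := Finset.mem_map.1 h'
    exact hx ((Subtype.ext e : y = x) ▸ hy))
  have hout : ∀ x ∉ F, σ x = x := fun x hx => hσ x fun h' => by
    obtain ⟨y, -, rfl⟩ := Finset.mem_map.1 h'
    exact hx y.2
  have he : Perm.ofSubtype σ' = σ := Equiv.ext fun x => by
    by_cases hx : x ∈ F
    · exact Perm.ofSubtype_apply_of_mem _ hx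
    · rw [hout x hx]; exact Perm.ofSubtype_apply_of_not_mem _ hx
  have := ind_of_normOn (h σ' hs' (by rw [← Perm.sign_ofSubtype σ', he, hsign]))
  rwa [he] at this

end CfsgLib.Homog
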