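import Mathlib
import Cfsg.Agent.Homog.Basic

/-!
Recognising the alternating group.
-/

namespace CfsgLib.Homog

open Equiv

variable {α : Type*} [DecidableEq α] [Fintype α] {G : Subgroup (Perm α)}

theorem AllEven.of_alternating_le (h : alternatingGroup α ≤ G) (s : Finset α) : AllEven G s :=
  fun σ _ hσ => ⟨σ, h (Perm.mem_alternatingGroup.2 hσ), fun _ _ => rfl⟩

theorem trans_of_alternating_le (h : alternatingGroup α ≤ G) {m : ℕ}
    (hm : m + 2 ≤ Fintype.card α) : Trans G m := by
  intro σ s hs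
  rcases Int.units_eq_one_or (Perm.sign σ) with h1 | h1
  · exact ⟨σ, h (Perm.mem_alternatingGroup.2 h1), fun _ _ => rfl⟩
  · obtain ⟨a, ha, b, hb, hab⟩ := Finset.one_lt_card.1 (show 1 < sᶜ.card by
      rw [Finset.card_compl]; omega)
    rw [Finset.mem_compl] at ha hb
    refine ⟨σ * swap a b, h (Perm.mem_alternatingGroup.2 ?_), fun x hx => ?_⟩
    · rw [map_mul, h1, Perm.sign_swap hab]; decide
    · rw [Perm.mul_apply, swap_apply_of_ne_of_ne (ne_of_mem_of_not_mem hx ha) (ne_of_mem_of_not_mem hx hb)]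

theorem alternating_le_of_trans {m : ℕ} (h : Trans G m) (hm : Fintype.card α ≤ m + 2) :
    alternatingGroup α ≤ G := by
  have e : Nat.card α = Fintype.card α := Nat.card_eq_fintype_card
  have ht : MulAction.IsMultiplyPretransitive G α (Nat.card α - 2) := by
    rw [e]
    exact (trans_iff (Nat.sub_le _ _)).2 (h.mono (by omega))
  exact _root_.IsMultiplyPretransitive.alternatingGroup_le α G ht

/-- A 4-transitive group containing a double transposition contains the alternating group. -/
theorem alternating_le_of_double (h4 : Trans G 4) (hn : 5 ≤ Fintype.card α) {a b c d : α}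
    (hab : a ≠ b) (hac : a ≠ c) (had : a ≠ d) (hbc : b ≠ c) (hbd : b ≠ d) (hcd : c ≠ d)
    (hs : swap a b * swap c d ∈ G) : alternatingGroup α ≤ G := by
  obtain ⟨e, he⟩ := Finset.card_pos.1 (show 0 < ({a, b, c, d} : Finset α)ᶜ.card by
    rw [Finset.card_compl]
    have := Finset.card_le_four (a := a) (b := b) (c := c) (d := d)
    omega)
  simp only [Finset.mem_compl, Finset.mem_insert, Finset.mem_singleton, not_or] at he
  obtain ⟨hea, heb, hec, hed⟩ := he
  obtain ⟨g, hg, hg'⟩ := h4 (swap d e) {a, b, c, d} Finset.card_le_four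
  have ga : g a = a := (hg' a (by simp)).trans (swap_apply_of_ne_of_ne had (Ne.symm hea))
  have gb : g b = b := (hg' b (by simp)).trans (swap_apply_of_ne_of_ne hbd (Ne.symm heb))
  have gc : g c = c := (hg' c (by simp)).trans (swap_apply_of_ne_of_ne hcd (Ne.symm hec))
  have gd : g d = e := (hg' d (by simp)).trans (swap_apply_left d e)
  have h' : swap a b * swap c e ∈ G := by
    have := G.mul_mem (G.mul_mem hg hs) (G.inv_mem hg)
    have e1 : g * (swap a b * swap c d) * g⁻¹ = (g * swap a b * g⁻¹) * (g * swap c d * g⁻¹) := by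
      group
    rwa [e1, ← swap_apply_apply, ← swap_apply_apply, ga, gb, gc, gd] at this
  have hcomm : swap a b * swap c d = swap c d * swap a b :=
    (Perm.disjoint_iff_disjoint_support.2 (by
      rw [Perm.support_swap hab, Perm.support_swap hcd]
      simp [hac.symm, had.symm, hbc.symm, hbd.symm, hac, had, hbc, hbd])).commute.eq
  have h3 : swap c d * swap c e ∈ G := by
    have := G.mul_mem hs h'
    rwa [hcomm, mul_assoc, ← mul_assoc (swap a b) (swap a b), swap_mul_self, one_mul] at this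
  haveI : MulAction.IsPreprimitive G α := by
    have := (trans_iff (G := G) (k := 2) (by omega)).2 (h4.mono (by omega))
    exact MulAction.isPreprimitive_of_is_two_pretransitive this
  exact Equiv.Perm.alternatingGroup_le_of_isPreprimitive_of_isThreeCycle_mem inferInstance
    (Perm.isThreeCycle_swap_mul_swap_same hcd (Ne.symm hec) (Ne.symm hed)) h3

/-- If no element induces an odd permutation on a set of size `k ≥ 6` and `G` is `(k-2)`-fold
transitive, then `G` contains the alternating group. -/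
theorem alternating_le_of_noOdd {k : ℕ} (hk : 6 ≤ k) (hkn : k ≤ Fintype.card α)
    (ht : Trans G (k - 2)) (ho : ∀ s : Finset α, s.card = k → NoOdd G s) :
    alternatingGroup α ≤ G := by
  classical
  obtain ⟨Γ, -, hΓ⟩ := Finset.exists_subset_card_eq (s := (Finset.univ : Finset α)) (n := k - 2)
    (by simp only [Finset.card_univ]; omega)
  obtain ⟨a, b, c, d, hab, hac, had, hbc, hbd, hcd, hsub⟩ : ∃ a b c d, a ≠ b ∧ a ≠ c ∧ a ≠ d ∧
      b ≠ c ∧ b ≠ d ∧ c ≠ d ∧ ({a, b, c, d} : Finset α) ⊆ Γ := by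
    obtain ⟨S, hS, hS4⟩ := Finset.exists_subset_card_eq (s := Γ) (n := 4) (by omega)
    obtain ⟨a, b, c, d, h1, h2, h3, h4, h5, h6, rfl⟩ := Finset.card_eq_four.1 hS4
    exact ⟨a, b, c, d, h1, h2, h3, h4, h5, h6, hS⟩
  have haΓ : a ∈ Γ := hsub (by simp)
  have hbΓ : b ∈ Γ := hsub (by simp)
  have hcΓ : c ∈ Γ := hsub (by simp)
  have hdΓ : d ∈ Γ := hsub (by simp)
  -- involutions fixing `Γ` pointwise are trivial
  have hinv : ∀ g ∈ G, g * g = 1 → (∀ x ∈ Γ, g x = x) → g = 1 := by
    intro g hg hg2 hfix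
    by_contra h1
    obtain ⟨p, hp⟩ : ∃ p, g p ≠ p := by
      by_contra h
      simp only [not_exists, not_not] at h
      exact h1 (Equiv.ext h)
    have hgg : g (g p) = p := by rw [← Perm.mul_apply, hg2, Perm.one_apply]
    have hpΓ : p ∉ Γ := fun h => hp (hfix p h)
    have hgpΓ : g p ∉ Γ := fun h => hp (g.injective (hfix _ h))
    have := ho (Γ ∪ {p, g p}) (by
      rw [Finset.card_union_of_disjoint (by simp [hpΓ, hgpΓ]), Finset.card_pair (Ne.symm hp)]
      omega) (swap p (g p)) (suppIn_swap (by simp) (by simp)) ⟨g, hg, fun x hx => by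
        simp only [Finset.mem_union, Finset.mem_insert, Finset.mem_singleton] at hx
        rcases hx with hx | rfl | rfl
        · rw [hfix x hx, swap_apply_of_ne_of_ne (ne_of_mem_of_not_mem hx hpΓ) (ne_of_mem_of_not_mem hx hgpΓ)]
        · rw [swap_apply_left]
        · rw [swap_apply_right, hgg]⟩
    rw [Perm.sign_swap (Ne.symm hp)] at this
    exact absurd this (by decide)
  have hodd : ∀ g ∈ G, (∀ x ∈ Γ, g x = x) → Odd (orderOf g) := by
    intro g hg hfix
    by_contra h
    rw [Nat.not_odd_iff_even] at h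
    obtain ⟨m, hm⟩ := h
    have h1 := hinv (g ^ m) (G.pow_mem hg m) (by rw [← pow_add, ← hm, pow_orderOf_eq_one])
      (fun x hx => (fixer G Γ).pow_mem (⟨hg, hfix⟩ : g ∈ fixer G Γ) m |>.2 x hx)
    have h0 := orderOf_pos g
    have := Nat.le_of_dvd (by omega) (orderOf_dvd_of_pow_eq_one h1)
    omega
  -- the lift of a double transposition
  obtain ⟨g, hg, hg'⟩ := ht (swap a b * swap c d) Γ hΓ.le
  set τ := swap a b * swap c d with hτ
  have hτ2 : τ * τ = 1 := by
    have hc : swap a b * swap c d = swap c d * swap a b :=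
      (Perm.disjoint_iff_disjoint_support.2 (by
        rw [Perm.support_swap hab, Perm.support_swap hcd]
        simp [hac.symm, had.symm, hbc.symm, hbd.symm, hac, had, hbc, hbd])).commute.eq
    rw [hτ]
    nth_rewrite 2 [hc]
    rw [mul_assoc, ← mul_assoc (swap c d) (swap c d), swap_mul_self, one_mul, swap_mul_self]
  have hτΓ : SuppIn Γ τ := (suppIn_swap haΓ hbΓ).mul (suppIn_swap hcΓ hdΓ)
  have hg2 : g * g ∈ fixer G Γ := ⟨G.mul_mem hg hg, fun x hx => by
    rw [Perm.mul_apply, hg' x hx, hg' _ ((hτΓ.mem_iff x).2 hx), ← Perm.mul_apply, hτ2,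
      Perm.one_apply]⟩
  obtain ⟨i, hi⟩ := hodd _ hg2.1 hg2.2
  set s := g ^ (2 * i + 1) with hs
  have hsG : s ∈ G := G.pow_mem hg _
  have hs2 : s * s = 1 := by
    rw [hs, ← pow_add, show 2 * i + 1 + (2 * i + 1) = 2 * (2 * i + 1) by omega, pow_mul, pow_two,
      ← hi, pow_orderOf_eq_one]
  have hsΓ : ∀ x ∈ Γ, s x = τ x := by
    intro x hx
    rw [hs, pow_succ', Perm.mul_apply, pow_mul, pow_two, ((fixer G Γ).pow_mem hg2 i).2 x hx]
    exact hg' x hx
  have hout : ∀ x ∉ Γ, s x = x := by
    intro p hpΓ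
    by_contra hp
    have hgg : s (s p) = p := by rw [← Perm.mul_apply, hs2, Perm.one_apply]
    have hgpΓ : s p ∉ Γ := fun h => by
      have h1 : s (τ (s p)) = τ (τ (s p)) := hsΓ _ ((hτΓ.mem_iff _).2 h)
      rw [← Perm.mul_apply τ τ, hτ2, Perm.one_apply] at h1
      exact hpΓ (s.injective h1 ▸ (hτΓ.mem_iff _).2 h)
    have := ho (Γ ∪ {p, s p}) (by
      rw [Finset.card_union_of_disjoint (by simp [hpΓ, hgpΓ]), Finset.card_pair (Ne.symm hp)]
      omega) (τ * swap p (s p))
      ((hτΓ.mono Finset.subset_union_left).mul (suppIn_swap (by simp) (by simp)))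
      ⟨s, hsG, fun x hx => by
        simp only [Finset.mem_union, Finset.mem_insert, Finset.mem_singleton] at hx
        rcases hx with hx | rfl | rfl
        · rw [hsΓ x hx, Perm.mul_apply τ (swap p (s p)) x,
            swap_apply_of_ne_of_ne (ne_of_mem_of_not_mem hx hpΓ) (ne_of_mem_of_not_mem hx hgpΓ)]
        · rw [Perm.mul_apply, swap_apply_left, hτΓ _ hgpΓ]
        · rw [Perm.mul_apply, swap_apply_right, hgg, hτΓ _ hpΓ]⟩
    rw [map_mul, Perm.sign_swap (Ne.symm hp), hτ, map_mul, Perm.sign_swap hab,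
      Perm.sign_swap hcd] at this
    exact absurd this (by decide)
  have : s = τ := Equiv.ext fun x => by
    by_cases hx : x ∈ Γ
    · exact hsΓ x hx
    · rw [hout x hx, hτΓ x hx]
  exact alternating_le_of_double (ht.mono (by omega)) (by omega) hab hac had hbc hbd hcd
    (by rw [← hτ, ← this]; exact hsG)

end CfsgLib.Homog
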