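import Mathlib
import Cfsg.Agent.Homog.Witt

/-!
Elementary facts about involutions, odd order and transitivity from induced even permutations.
-/

namespace CfsgLib.Homog

open Equiv

variable {α : Type*} [DecidableEq α] [Fintype α] {G : Subgroup (Perm α)}

/-- A group without involutions has odd order. -/
theorem odd_card_of_no_invol {K : Subgroup (Perm α)} (h : ∀ g ∈ K, g * g = 1 → g = 1) :
    Odd (Nat.card K) := by
  by_contra hodd
  rw [Nat.not_odd_iff_even, even_iff_two_dvd] at hodd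
  haveI : Fact (Nat.Prime 2) := ⟨Nat.prime_two⟩
  obtain ⟨g, hg⟩ := exists_prime_orderOf_dvd_card' (G := K) 2 hodd
  have h2 : g * g = 1 := by rw [← pow_two, ← hg, pow_orderOf_eq_one]
  have : g = 1 := Subtype.ext (h g g.2 (congrArg Subtype.val h2))
  rw [this, orderOf_one] at hg
  norm_num at hg

theorem odd_orderOf {K : Subgroup (Perm α)} (hK : Odd (Nat.card K)) {g : Perm α} (hg : g ∈ K) :
    Odd (orderOf g) := by
  rw [← Subgroup.orderOf_mk g hg]
  exact hK.of_dvd_nat (orderOf_dvd_natCard _)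

omit [DecidableEq α] [Fintype α] in
theorem conj_pow_mul {u v : Perm α} (hu : u * u = 1) (hv : v * v = 1) (i : ℕ) :
    u * (v * u) ^ i = (u * v) ^ i * u := by
  induction i with
  | zero => simp
  | succ i ih =>
    calc u * (v * u) ^ (i + 1) = (u * (v * u) ^ i) * (v * u) := by rw [pow_succ, mul_assoc]
      _ = (u * v) ^ i * (u * v) * u := by rw [ih]; simp only [mul_assoc]
      _ = (u * v) ^ (i + 1) * u := by rw [pow_succ]

omit [DecidableEq α] [Fintype α] in
theorem inv_mul_self {u v : Perm α} (hu : u * u = 1) (hv : v * v = 1) : (u * v)⁻¹ = v * u := by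
  rw [mul_inv_rev, inv_eq_of_mul_eq_one_right hu, inv_eq_of_mul_eq_one_right hv]

omit [DecidableEq α] [Fintype α] in
/-- Two involutions with odd product are conjugate by a power of the product. -/
theorem exists_conj_of_odd {u v : Perm α} (hu : u * u = 1) (hv : v * v = 1)
    (ho : Odd (orderOf (u * v))) : ∃ i : ℕ, (u * v) ^ i * u * ((u * v) ^ i)⁻¹ = v := by
  obtain ⟨i, hi⟩ := ho
  refine ⟨i, ?_⟩
  have h1 : ((u * v) ^ i)⁻¹ = (v * u) ^ i := by rw [← inv_pow, inv_mul_self hu hv]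
  rw [h1, mul_assoc, conj_pow_mul hu hv, ← mul_assoc, ← pow_add]
  have h2 : (u * v) ^ (i + i + 1) = 1 := by
    rw [show i + i + 1 = 2 * i + 1 by ring, ← hi, pow_orderOf_eq_one]
  rw [pow_succ] at h2
  rw [eq_inv_of_mul_eq_one_left h2, inv_mul_self hu hv, mul_assoc, hu, mul_one]

omit [DecidableEq α] [Fintype α] in
/-- If the square of a product of two involutions has odd order, some power of the product is an
involution commuting with both. -/
theorem exists_central {u v : Perm α} (hu : u * u = 1) (hv : v * v = 1)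
    (ho : Odd (orderOf ((u * v) * (u * v)))) :
    ∃ i : ℕ, let w := ((u * v) * (u * v)) ^ i * (u * v)
      w * w = 1 ∧ Commute w u := by
  obtain ⟨i, hi⟩ := ho
  refine ⟨i, ?_⟩
  intro w
  have hw : w = (u * v) ^ (2 * i + 1) := by
    show ((u * v) * (u * v)) ^ i * (u * v) = _
    rw [← pow_two, ← pow_mul, ← pow_succ]
  have hww : w * w = 1 := by
    rw [hw, ← pow_add, show 2 * i + 1 + (2 * i + 1) = 2 * (2 * i + 1) by ring, pow_mul, pow_two,
      ← hi, pow_orderOf_eq_one]
  refine ⟨hww, ?_⟩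
  have e := conj_pow_mul hu hv (2 * i + 1)
  rw [← hw] at e
  have h' : (v * u) ^ (2 * i + 1) = w := by
    rw [← inv_mul_self hu hv, inv_pow, ← hw, inv_eq_of_mul_eq_one_right hww]
  rw [h'] at e
  exact e.symm

/-- Even permutations on all sets of size `m`: the group realises every map on `m - 2` points,
with prescribed image of a superset. -/
theorem exists_map_of_allEven {m : ℕ} (hh : Homog G m)
    (hA : ∀ s : Finset α, s.card = m → AllEven G s) {t t' s' : Finset α} (htt' : t ⊆ t')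
    (ht : t.card + 2 ≤ m) (ht' : t'.card = m) (hs' : s'.card = m) {f : α → α}
    (hf : ∀ x ∈ t, f x ∈ s') (hinj : Set.InjOn f (t : Set α)) :
    ∃ g ∈ G, t'.image g = s' ∧ ∀ x ∈ t, g x = f x := by
  classical
  obtain ⟨g, hg, hg'⟩ := hh t' s' ht' hs'
  let t₁ := t.image g
  have ht₁ : t₁ ⊆ s' := hg' ▸ Finset.image_subset_image htt'
  let e : {x // x ∈ t₁} ≃ {x // x ∈ t₁.image fun y => f (g⁻¹ y)} := Equiv.ofBijective
    (fun x => ⟨f (g⁻¹ x), Finset.mem_image_of_mem (fun y => f (g⁻¹ y)) x.2⟩)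
    ⟨fun x y he => by
      have he' : f (g⁻¹ x) = f (g⁻¹ y) := congrArg Subtype.val he
      obtain ⟨a, ha, hax⟩ := Finset.mem_image.1 x.2
      obtain ⟨b, hb, hby⟩ := Finset.mem_image.1 y.2
      rw [← hax, ← hby, inv_apply_self, inv_apply_self] at he'
      exact Subtype.ext (by rw [← hax, ← hby, hinj ha hb he']),
    fun y => by
      obtain ⟨x, hx, he⟩ := Finset.mem_image.1 y.2
      exact ⟨⟨x, hx⟩, Subtype.ext he⟩⟩
  have hcard : (t₁.image fun y => f (g⁻¹ y)).card = t₁.card := by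
    rw [← Fintype.card_coe, ← Fintype.card_coe, Fintype.card_congr e]
  have hsub : (t₁.image fun y => f (g⁻¹ y)) ⊆ s' := by
    intro z hz
    obtain ⟨y, hy, rfl⟩ := Finset.mem_image.1 hz
    obtain ⟨a, ha, rfl⟩ := Finset.mem_image.1 hy
    rw [inv_apply_self]
    exact hf a ha
  -- a permutation of `s'` extending `e`
  let e' : {x : ↥s' // (x : α) ∈ t₁} ≃ {x : ↥s' // (x : α) ∈ t₁.image fun y => f (g⁻¹ y)} :=
    { toFun := fun x => ⟨⟨e ⟨x.1, x.2⟩, hsub (e ⟨x.1, x.2⟩).2⟩, (e ⟨x.1, x.2⟩).2⟩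
      invFun := fun y => ⟨⟨e.symm ⟨y.1, y.2⟩, ht₁ (e.symm ⟨y.1, y.2⟩).2⟩, (e.symm ⟨y.1, y.2⟩).2⟩
      left_inv := fun x => Subtype.ext (Subtype.ext (by
        simp only [Subtype.coe_eta, Equiv.symm_apply_apply]))
      right_inv := fun y => Subtype.ext (Subtype.ext (by
        simp only [Subtype.coe_eta, Equiv.apply_symm_apply])) }
  let τ : Perm α := Perm.ofSubtype (p := fun x => x ∈ s') e'.extendSubtype
  have hτ : SuppIn s' τ := fun x hx => Perm.ofSubtype_apply_of_not_mem _ hx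
  have hτ' : ∀ x ∈ t₁, τ x = f (g⁻¹ x) := by
    intro x hx
    show Perm.ofSubtype e'.extendSubtype x = _
    rw [Perm.ofSubtype_apply_of_mem _ (ht₁ hx), e'.extendSubtype_apply_of_mem ⟨x, ht₁ hx⟩ hx]
    rfl
  obtain ⟨a, ha, b, hb, hab⟩ := Finset.one_lt_card.1 (show 1 < (s' \ t₁).card by
    rw [Finset.card_sdiff_of_subset ht₁, Finset.card_image_of_injective _ g.injective]; omega)
  rw [Finset.mem_sdiff] at ha hb
  obtain ⟨τ', hτ'', hsign, hτt⟩ : ∃ τ' : Perm α, SuppIn s' τ' ∧ Perm.sign τ' = 1 ∧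
      ∀ x ∈ t₁, τ' x = τ x := by
    rcases Int.units_eq_one_or (Perm.sign τ) with h | h
    · exact ⟨τ, hτ, h, fun _ _ => rfl⟩
    · refine ⟨τ * swap a b, hτ.mul (suppIn_swap ha.1 hb.1), ?_, fun x hx => ?_⟩
      · rw [map_mul, h, Perm.sign_swap hab]; decide
      · rw [Perm.mul_apply, swap_apply_of_ne_of_ne (ne_of_mem_of_not_mem hx ha.2)
          (ne_of_mem_of_not_mem hx hb.2)]
  obtain ⟨h, hh', hh''⟩ := hA s' hs' τ' hτ'' hsign
  refine ⟨h * g, G.mul_mem hh' hg, ?_, fun x hx => ?_⟩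
  · rw [show t'.image ⇑(h * g) = (t'.image g).image h by rw [Finset.image_image]; rfl, hg',
      Finset.image_congr (g := τ') (fun x hx => hh'' x hx)]
    exact hτ''.image_eq
  · have hx' : g x ∈ t₁ := Finset.mem_image_of_mem g hx
    rw [Perm.mul_apply, hh'' _ (ht₁ hx'), hτt _ hx', hτ' _ hx', inv_apply_self]

theorem trans_of_allEven {m : ℕ} (hm : m ≤ Fintype.card α) (hh : Homog G m)
    (hA : ∀ s : Finset α, s.card = m → AllEven G s) {j : ℕ} (hj : j + 2 ≤ m) : Trans G j := by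
  intro σ t ht
  obtain ⟨t', htt', ht'⟩ := Finset.exists_superset_card_eq (show t.card ≤ m by omega) hm
  obtain ⟨g, hg, -, hg'⟩ := exists_map_of_allEven hh hA (s' := t'.image σ) htt' (by omega) ht'
    (by rw [Finset.card_image_of_injective _ σ.injective, ht']) (f := σ)
    (fun x hx => Finset.mem_image_of_mem _ (htt' hx)) σ.injective.injOn
  exact ⟨g, hg, hg'⟩

/-- Transitivity increases by one when a pointwise stabiliser is transitive on the other
points. -/
theorem Trans.succ {k : ℕ} (hk : k < Fintype.card α) (h : Trans G k) {s : Finset α}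
    (hs : s.card = k) (ht : ∀ x ∉ s, ∀ y ∉ s, ∃ g ∈ fixer G s, g x = y) : Trans G (k + 1) := by
  classical
  intro σ t hcard
  obtain ⟨t', htt', ht'⟩ := Finset.exists_superset_card_eq hcard hk
  obtain ⟨x, hx⟩ := Finset.card_pos.1 (show 0 < t'.card by omega)
  have ht0 : (t'.erase x).card = k := by rw [Finset.card_erase_of_mem hx, ht']; omega
  let e : {a // a ∈ t'.erase x} ≃ {a // a ∈ s} := Fintype.equivOfCardEq (by
    rw [Fintype.card_coe, Fintype.card_coe, ht0, hs])
  obtain ⟨g₁, hg₁, hg₁'⟩ := h e.extendSubtype (t'.erase x) ht0.le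
  have him : ∀ a ∈ t'.erase x, g₁ a ∈ s := fun a ha => by
    rw [hg₁' a ha]; exact e.extendSubtype_mem a ha
  obtain ⟨g₂, hg₂, hg₂'⟩ := h (σ * g₁⁻¹) s hs.le
  have himg : (t'.erase x).image g₁ = s := Finset.eq_of_subset_of_card_le
    (fun y hy => by obtain ⟨a, ha, rfl⟩ := Finset.mem_image.1 hy; exact him a ha)
    (by rw [Finset.card_image_of_injective _ g₁.injective, ht0, hs])
  have h1 : g₁ x ∉ s := fun hmem => by
    rw [← himg] at hmem
    obtain ⟨a, ha, e⟩ := Finset.mem_image.1 hmem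
    exact (Finset.mem_erase.1 ha).1 (g₁.injective e)
  have h2 : g₂⁻¹ (σ x) ∉ s := fun hmem => by
    have h3 := hg₂' _ hmem
    rw [apply_inv_self, Perm.mul_apply] at h3
    have : g₁⁻¹ (g₂⁻¹ (σ x)) = x := (σ.injective h3).symm
    apply h1
    rw [← this, apply_inv_self]
    exact hmem
  obtain ⟨w, hw, hw'⟩ := ht _ h1 _ h2
  refine ⟨g₂ * w * g₁, G.mul_mem (G.mul_mem hg₂ hw.1) hg₁, fun a ha => ?_⟩
  rw [Perm.mul_apply, Perm.mul_apply]
  by_cases hax : a = x
  · rw [hax, hw', apply_inv_self]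
  · have ha' : a ∈ t'.erase x := Finset.mem_erase.2 ⟨hax, htt' ha⟩
    rw [hw.2 _ (him a ha'), hg₂' _ (him a ha'), Perm.mul_apply, inv_apply_self]

end CfsgLib.Homog
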