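import Mathlib
import Cfsg.Agent.Homog.Odd
import Cfsg.Agent.Homog.AllEvenLemmas

/-!
Counting for pointwise stabilisers and induced groups.
-/

namespace CfsgLib.Homog

open Equiv

variable {α : Type*} [DecidableEq α] [Fintype α] {G : Subgroup (Perm α)}

/-- The orbit of a point under the pointwise stabiliser of a set. -/
noncomputable def orbFin (G : Subgroup (Perm α)) (s : Finset α) (d : α) : Finset α :=
  haveI := Classical.decPred fun y : α => ∃ h ∈ fixer G s, h d = y
  Finset.univ.filter fun y => ∃ h ∈ fixer G s, h d = y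

theorem mem_orbFin {s : Finset α} {d y : α} :
    y ∈ orbFin G s d ↔ ∃ h ∈ fixer G s, h d = y := by simp [orbFin]

theorem self_mem_orbFin (s : Finset α) (d : α) : d ∈ orbFin G s d :=
  mem_orbFin.2 ⟨1, one_mem _, rfl⟩

theorem notMem_of_mem_orbFin {s : Finset α} {d y : α} (hd : d ∉ s) (hy : y ∈ orbFin G s d) :
    y ∉ s := by
  obtain ⟨h, hh, rfl⟩ := mem_orbFin.1 hy
  intro hm
  have e : h (h d) = h d := hh.2 _ hm
  exact hd ((h.injective e) ▸ hm)

theorem card_fixer_orbFin (s : Finset α) (d : α) :
    Nat.card (fixer G s) = (orbFin G s d).card * Nat.card (fixer G (insert d s)) := by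
  classical
  have h1 := Subgroup.card_mul_index (MulAction.stabilizer (fixer G s) d)
  have h2 : Nat.card (MulAction.stabilizer (fixer G s) d) = Nat.card (fixer G (insert d s)) :=
    Nat.card_congr
      { toFun := fun g => ⟨(g : fixer G s), (g : fixer G s).2.1, fun x hx => by
          rcases Finset.mem_insert.1 hx with rfl | hx
          · exact g.2
          · exact (g : fixer G s).2.2 x hx⟩
        invFun := fun g => ⟨⟨g, fixer_mono (Finset.subset_insert d s) g.2⟩,
          g.2.2 d (Finset.mem_insert_self d s)⟩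
        left_inv := fun _ => rfl
        right_inv := fun _ => rfl }
  have h3 : MulAction.orbit (fixer G s) d = (↑(orbFin G s d) : Set α) := by
    ext x
    rw [MulAction.mem_orbit_iff, Finset.mem_coe, mem_orbFin]
    exact ⟨fun ⟨g, hg⟩ => ⟨g, g.2, hg⟩, fun ⟨g, hg, hg'⟩ => ⟨⟨g, hg⟩, hg'⟩⟩
  rw [MulAction.index_stabilizer, h3, Set.ncard_coe_finset, h2] at h1
  rw [← h1, mul_comm]

omit [Fintype α] in
theorem fixer_empty : fixer G (∅ : Finset α) = G :=
  le_antisymm (fixer_le _) fun _ hg => ⟨hg, fun _ hx => absurd hx (Finset.notMem_empty _)⟩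

theorem orbFin_eq_compl {k : ℕ} (hG : Trans G k) {s : Finset α} (hs : s.card < k) {d : α}
    (hd : d ∉ s) : orbFin G s d = sᶜ := by
  classical
  refine Finset.ext fun y => ⟨fun hy => Finset.mem_compl.2 (notMem_of_mem_orbFin hd hy), fun hy => ?_⟩
  rw [Finset.mem_compl] at hy
  obtain ⟨g, hg, hg'⟩ := hG.exists_map (s := insert d s) (by rw [Finset.card_insert_of_notMem hd]; omega)
    (f := fun x => if x = d then y else x) (by
      intro x hx z hz e
      simp only [Finset.coe_insert, Set.mem_insert_iff, Finset.mem_coe] at hx hz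
      dsimp only at e
      split_ifs at e with h1 h2 h2
      · rw [h1, h2]
      · exact absurd (hz.resolve_left h2) (e ▸ hy)
      · exact absurd (hx.resolve_left h1) (e ▸ hy)
      · exact e)
  refine mem_orbFin.2 ⟨g, ⟨hg, fun x hx => ?_⟩, ?_⟩
  · rw [hg' x (Finset.mem_insert_of_mem hx), if_neg (ne_of_mem_of_not_mem hx hd)]
  · rw [hg' d (Finset.mem_insert_self _ _), if_pos rfl]

/-- The order of a `k`-transitive group. -/
theorem card_eq_descFactorial {k : ℕ} (hG : Trans G k) {s : Finset α} (hs : s.card ≤ k) :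
    Nat.card G = (Fintype.card α).descFactorial s.card * Nat.card (fixer G s) := by
  classical
  induction s using Finset.induction_on with
  | empty => simp [fixer_empty]
  | insert d s hd ih =>
    rw [Finset.card_insert_of_notMem hd] at hs ⊢
    rw [ih (by omega), card_fixer_orbFin s d, orbFin_eq_compl hG (by omega) hd, Finset.card_compl,
      Nat.descFactorial_succ]
    ring

/-- The group induced on `s`, on the subtype. -/
def inducedSub (G : Subgroup (Perm α)) (s : Finset α) : Subgroup (Perm ↥s) :=
  (induced G s).comap (Perm.ofSubtype : Perm ↥s →* Perm α)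

theorem mem_inducedSub {s : Finset α} {π : Perm ↥s} :
    π ∈ inducedSub G s ↔ Ind G s (Perm.ofSubtype π) :=
  ⟨fun h => h.2, fun h => ⟨fun _ hx => Perm.ofSubtype_apply_of_not_mem _ hx, h⟩⟩

open scoped Pointwise in
/-- The order of a group transitive on sets of size `m`. -/
theorem card_eq_choose {m : ℕ} (hh : Homog G m) {s : Finset α} (hs : s.card = m) :
    Nat.card G = (Fintype.card α).choose m * Nat.card (inducedSub G s) *
      Nat.card (fixer G s) := by
  classical
  set S := MulAction.stabilizer G s with hS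
  have hmem : ∀ g : S, ∀ x, ((g : G) : Perm α) x ∈ s ↔ x ∈ s := by
    intro g x
    have e : (g : G) • s = s := g.2
    constructor
    · intro h
      rw [← e] at h
      obtain ⟨y, hy, hyx⟩ := Finset.mem_smul_finset.1 h
      exact ((g : G) : Perm α).injective hyx ▸ hy
    · intro h
      have : (g : G) • x ∈ (g : G) • s := Finset.smul_mem_smul_finset h
      rwa [e] at this
  let φ : S →* Perm ↥s :=
    { toFun := fun g => ((g : G) : Perm α).subtypePerm (hmem g)
      map_one' := rfl
      map_mul' := fun g h => rfl }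
  have hrange : φ.range = inducedSub G s := by
    ext π
    rw [mem_inducedSub]
    constructor
    · rintro ⟨g, rfl⟩
      refine ⟨(g : G), (g : G).2, fun x hx => ?_⟩
      rw [Perm.ofSubtype_apply_of_mem _ hx]
      rfl
    · rintro ⟨g, hg, hg'⟩
      have hgs : (⟨g, hg⟩ : G) ∈ S := by
        refine MulAction.mem_stabilizer_iff.2
          (Finset.eq_of_subset_of_card_le (fun y hy => ?_) (Finset.card_smul_finset _ s).ge)
        obtain ⟨x, hx, rfl⟩ := Finset.mem_smul_finset.1 hy
        show g x ∈ s
        rw [hg' x hx, Perm.ofSubtype_apply_of_mem _ hx]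
        exact (π _).2
      refine ⟨⟨⟨g, hg⟩, hgs⟩, Equiv.ext fun x => Subtype.ext ?_⟩
      show g (x : α) = π x
      rw [hg' _ x.2, Perm.ofSubtype_apply_coe]
  have hker : Nat.card φ.ker = Nat.card (fixer G s) := Nat.card_congr
    { toFun := fun g => ⟨((g : S) : G), ((g : S) : G).2, fun x hx =>
        congrArg Subtype.val (Equiv.congr_fun (g.2 : φ g = 1) ⟨x, hx⟩)⟩
      invFun := fun g => ⟨⟨⟨g, g.2.1⟩, MulAction.mem_stabilizer_iff.2
          (Finset.eq_of_subset_of_card_le (fun y hy => by
            obtain ⟨x, hx, rfl⟩ := Finset.mem_smul_finset.1 hy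
            show (g : Perm α) x ∈ s
            rwa [g.2.2 x hx]) (Finset.card_smul_finset _ s).ge)⟩,
        Equiv.ext fun x => Subtype.ext (g.2.2 x x.2)⟩
      left_inv := fun _ => rfl
      right_inv := fun _ => rfl }
  have h1 := Subgroup.card_mul_index φ.ker
  rw [Subgroup.index_ker, hrange, hker] at h1
  have h2 := Subgroup.card_mul_index S
  rw [hS, MulAction.index_stabilizer] at h2
  have h3 : MulAction.orbit G s = (↑((Finset.univ : Finset α).powersetCard m) : Set (Finset α)) := by
    ext t
    rw [MulAction.mem_orbit_iff, Finset.mem_coe, Finset.mem_powersetCard_univ]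
    constructor
    · rintro ⟨g, rfl⟩
      rw [Finset.card_smul_finset, hs]
    · intro ht
      obtain ⟨g, hg, he⟩ := hh s t hs ht
      exact ⟨⟨g, hg⟩, he⟩
  rw [h3, Set.ncard_coe_finset, Finset.card_powersetCard, Finset.card_univ, ← hS, ← h1] at h2
  rw [← h2]
  ring

theorem choose_dvd_card {m : ℕ} (hm : m ≤ Fintype.card α) (hh : Homog G m) :
    (Fintype.card α).choose m ∣ Nat.card G := by
  obtain ⟨s, -, hs⟩ := Finset.exists_subset_card_eq (s := (Finset.univ : Finset α)) (n := m)
    (by simpa using hm)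
  rw [card_eq_choose hh hs, mul_assoc]
  exact dvd_mul_right _ _

/-- A set receiving every permutation makes `G` multiply transitive. -/
theorem inducedSub_ne_top {m : ℕ} (hm : m ≤ Fintype.card α) (hh : Homog G m) (hn : ¬ Trans G m)
    {s : Finset α} (hs : s.card = m) : inducedSub G s ≠ ⊤ := by
  intro h
  refine hn (trans_of_all hm hh hs fun σ hσ => ?_)
  have := mem_inducedSub.1 (h ▸ Subgroup.mem_top (σ.subtypePerm fun x => hσ.mem_iff x) :
    σ.subtypePerm (fun x => hσ.mem_iff x) ∈ inducedSub G s)
  obtain ⟨g, hg, hg'⟩ := this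
  exact ⟨g, hg, fun x hx => by rw [hg' x hx, Perm.ofSubtype_apply_of_mem _ hx]; rfl⟩

/-- An invariant choice of a point in each set of size `m + 1`: the two counting equations. -/
theorem apex_count {m : ℕ} (hm : m + 2 ≤ Fintype.card α) (hhm : Homog G m) (hh2 : Homog G (m + 2))
    {A : Finset α → α → Prop} (hmem : ∀ s c, A s c → c ∈ s)
    (huniq : ∀ s : Finset α, s.card = m + 1 → ∃ c, A s c ∧ ∀ d, A s d → d = c)
    (hinv : ∀ g ∈ G, ∀ s c, A s c → A (s.image g) (g c)) :
    ∃ q u : ℕ, (Fintype.card α).choose m * q = (Fintype.card α).choose (m + 1) ∧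
      (Fintype.card α).choose m * q.choose 2 = (Fintype.card α).choose (m + 2) * u ∧
      ∀ T : Finset α, T.card = m → ∀ c d, c ∉ T → d ∉ T → c ≠ d →
        A (insert c T) c → A (insert d T) d → 2 ≤ q := by
  classical
  let Φ : Finset α → Finset α := fun T =>
    Finset.univ.filter fun c => c ∉ T ∧ A (insert c T) c
  have hΦ : ∀ {T c}, c ∈ Φ T ↔ c ∉ T ∧ A (insert c T) c := fun {T c} => by simp [Φ]
  obtain ⟨T₀, -, hT₀⟩ := Finset.exists_subset_card_eq (s := (Finset.univ : Finset α)) (n := m)
    (by simp only [Finset.card_univ]; omega)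
  obtain ⟨S₀, -, hS₀⟩ := Finset.exists_subset_card_eq (s := (Finset.univ : Finset α)) (n := m + 2)
    (by simp only [Finset.card_univ]; omega)
  have himg : ∀ g ∈ G, ∀ T, Φ (T.image g) = (Φ T).image g := by
    have hle : ∀ g ∈ G, ∀ T, (Φ T).image g ⊆ Φ (T.image g) := fun g hg T x hx => by
      obtain ⟨c, hc, rfl⟩ := Finset.mem_image.1 hx
      obtain ⟨hc1, hc2⟩ := hΦ.1 hc
      refine hΦ.2 ⟨fun h => hc1 ?_, ?_⟩
      · obtain ⟨y, hy, e⟩ := Finset.mem_image.1 h
        exact g.injective e ▸ hy
      · rw [← Finset.image_insert]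
        exact hinv g hg _ _ hc2
    intro g hg T
    refine (Finset.Subset.antisymm (hle g hg T) fun x hx => ?_).symm
    have := hle g⁻¹ (inv_mem hg) (T.image g) (Finset.mem_image_of_mem _ hx)
    rw [image_image_inv] at this
    exact Finset.mem_image.2 ⟨_, this, apply_inv_self g x⟩
  set q := (Φ T₀).card with hq
  have hqT : ∀ T : Finset α, T.card = m → (Φ T).card = q := fun T hT => by
    obtain ⟨g, hg, rfl⟩ := hhm T₀ T hT₀ hT
    rw [himg g hg, Finset.card_image_of_injective _ g.injective]
  let r₁ : Finset α → Finset α → Prop := fun T s => ∃ c ∈ Φ T, s = insert c T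
  have e1 : ((Finset.univ : Finset α).powersetCard m).card * q =
      ((Finset.univ : Finset α).powersetCard (m + 1)).card * 1 := by
    refine Finset.card_mul_eq_card_mul r₁ (fun T hT => ?_) (fun s hs => ?_)
    · rw [Finset.mem_powersetCard_univ] at hT
      rw [← hqT T hT]
      refine (Finset.card_bij (fun c _ => insert c T) (fun c hc => ?_) (fun c hc d hd e => ?_)
        (fun s hs => ?_)).symm
      · simp only [Finset.bipartiteAbove, Finset.mem_filter, Finset.mem_powersetCard_univ]
        exact ⟨by rw [Finset.card_insert_of_notMem (hΦ.1 hc).1, hT], c, hc, rfl⟩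
      · have : c ∈ insert d T := e ▸ Finset.mem_insert_self c T
        exact (Finset.mem_insert.1 this).resolve_right (hΦ.1 hc).1
      · simp only [Finset.bipartiteAbove, Finset.mem_filter] at hs
        obtain ⟨-, c, hc, rfl⟩ := hs
        exact ⟨c, hc, rfl⟩
    · rw [Finset.mem_powersetCard_univ] at hs
      obtain ⟨c, hc, hcu⟩ := huniq s hs
      rw [Finset.card_eq_one]
      refine ⟨s.erase c, Finset.ext fun T => ?_⟩
      simp only [Finset.bipartiteBelow, Finset.mem_filter, Finset.mem_powersetCard_univ,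
        Finset.mem_singleton]
      constructor
      · rintro ⟨-, d, hd, rfl⟩
        rw [← hcu d (hΦ.1 hd).2, Finset.erase_insert (hΦ.1 hd).1]
      · rintro rfl
        have hins := Finset.insert_erase (hmem s c hc)
        refine ⟨by rw [Finset.card_erase_of_mem (hmem s c hc), hs]; rfl, c,
          hΦ.2 ⟨Finset.notMem_erase c s, by rw [hins]; exact hc⟩, hins.symm⟩
  let r₂ : Finset α → Finset α → Prop := fun T S => T ⊆ S ∧ S \ T ⊆ Φ T
  let cnt : Finset α → ℕ := fun S => (((Finset.univ : Finset α).powersetCard m).filter fun T =>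
    r₂ T S).card
  have hcnt : ∀ g ∈ G, ∀ S, cnt S ≤ cnt (S.image g) := fun g hg S => by
    refine Finset.card_le_card_of_injOn (fun T => T.image g) (fun T hT => ?_)
      (fun T _ T' _ e => Finset.image_injective g.injective e)
    obtain ⟨hT1, hT2, hT3⟩ := Finset.mem_filter.1 (Finset.mem_coe.1 hT)
    refine Finset.mem_coe.2 (Finset.mem_filter.2 ⟨?_, Finset.image_subset_image hT2, ?_⟩)
    · rw [Finset.mem_powersetCard_univ] at hT1 ⊢
      rw [Finset.card_image_of_injective _ g.injective, hT1]
    · show S.image g \ T.image g ⊆ Φ (T.image g)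
      rw [himg g hg, ← Finset.image_sdiff _ _ g.injective]
      exact Finset.image_subset_image hT3
  have e2 : ((Finset.univ : Finset α).powersetCard m).card * q.choose 2 =
      ((Finset.univ : Finset α).powersetCard (m + 2)).card * cnt S₀ := by
    refine Finset.card_mul_eq_card_mul r₂ (fun T hT => ?_) (fun S hS => ?_)
    · rw [Finset.mem_powersetCard_univ] at hT
      rw [← hqT T hT, ← Finset.card_powersetCard]
      refine (Finset.card_bij (fun P _ => T ∪ P) (fun P hP => ?_) (fun P hP P' hP' e => ?_)
        (fun S hS => ?_)).symm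
      · rw [Finset.mem_powersetCard] at hP
        have hd : Disjoint T P := Finset.disjoint_left.2 fun x hx hx' => (hΦ.1 (hP.1 hx')).1 hx
        simp only [Finset.bipartiteAbove, Finset.mem_filter, Finset.mem_powersetCard_univ]
        refine ⟨by rw [Finset.card_union_of_disjoint hd, hT, hP.2], Finset.subset_union_left, ?_⟩
        rw [Finset.union_sdiff_cancel_left hd]
        exact hP.1
      · rw [Finset.mem_powersetCard] at hP hP'
        have hd : Disjoint T P := Finset.disjoint_left.2 fun x hx hx' => (hΦ.1 (hP.1 hx')).1 hx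
        have hd' : Disjoint T P' :=
          Finset.disjoint_left.2 fun x hx hx' => (hΦ.1 (hP'.1 hx')).1 hx
        rw [← Finset.union_sdiff_cancel_left hd, e, Finset.union_sdiff_cancel_left hd']
      · simp only [Finset.bipartiteAbove, Finset.mem_filter, Finset.mem_powersetCard_univ] at hS
        exact ⟨S \ T, Finset.mem_powersetCard.2 ⟨hS.2.2, by
          rw [Finset.card_sdiff_of_subset hS.2.1, hS.1, hT]; omega⟩,
          Finset.union_sdiff_of_subset hS.2.1⟩
    · rw [Finset.mem_powersetCard_univ] at hS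
      obtain ⟨g, hg, he⟩ := hh2 S₀ S hS₀ hS
      refine le_antisymm ?_ ?_
      · have := hcnt g⁻¹ (inv_mem hg) S
        rwa [← he, image_image_inv, he] at this
      · have := hcnt g hg S₀
        rwa [he] at this
  rw [Finset.card_powersetCard, Finset.card_powersetCard, Finset.card_univ] at e1 e2
  refine ⟨q, cnt S₀, by rw [e1, mul_one], e2, fun T hT c d hc hd hcd hAc hAd => ?_⟩
  rw [← hqT T hT]
  exact Finset.one_lt_card.2 ⟨c, hΦ.2 ⟨hc, hAc⟩, d, hΦ.2 ⟨hd, hAd⟩, hcd⟩

end CfsgLib.Homog
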