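import Mathlib
import Cfsg.Agent.Homog.Alternating
import Cfsg.Agent.Homog.AllEvenLemmas
import Cfsg.Agent.Homog.Odd
import Cfsg.Agent.S4221

/-!
Multiply transitive groups in which no non-identity element fixes more than `k` points.
-/

namespace CfsgLib.Homog

open Equiv

variable {α : Type*} [DecidableEq α] [Fintype α] {G : Subgroup (Perm α)}

/-- Only the identity fixes more than `k` points. -/
def Semireg (G : Subgroup (Perm α)) (k : ℕ) : Prop :=
  ∀ g ∈ G, ∀ s : Finset α, k < s.card → (∀ x ∈ s, g x = x) → g = 1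

omit [Fintype α] in
theorem pow_agree {s : Finset α} {σ g : Perm α} (hσ : SuppIn s σ) (hg : ∀ x ∈ s, g x = σ x)
    (m : ℕ) : ∀ x ∈ s, (g ^ m) x = (σ ^ m) x := by
  induction m with
  | zero => simp
  | succ m ih =>
    intro x hx
    rw [pow_succ, Perm.mul_apply, pow_succ, Perm.mul_apply, hg x hx, ih _ ((hσ.mem_iff x).2 hx)]

omit [Fintype α] in
theorem swap_mul_swap_pow_three (a b c : α) (hab : a ≠ b) (hac : a ≠ c) (hbc : b ≠ c) :
    (swap a b * swap b c) ^ 3 = 1 := by
  have h1 : (swap a b * swap b c) a = b := by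
    rw [Perm.mul_apply, swap_apply_of_ne_of_ne hab hac, swap_apply_left]
  have h2 : (swap a b * swap b c) b = c := by
    rw [Perm.mul_apply, swap_apply_left, swap_apply_of_ne_of_ne hac.symm hbc.symm]
  have h3 : (swap a b * swap b c) c = a := by
    rw [Perm.mul_apply, swap_apply_right, swap_apply_right]
  ext x
  rw [pow_succ, pow_two, Perm.mul_apply, Perm.mul_apply, Perm.one_apply]
  rcases eq_or_ne x a with rfl | ha
  · rw [h1, h2, h3]
  rcases eq_or_ne x b with rfl | hb
  · rw [h2, h3, h1]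
  rcases eq_or_ne x c with rfl | hc
  · rw [h3, h1, h2]
  have h4 : (swap a b * swap b c) x = x := by
    rw [Perm.mul_apply, swap_apply_of_ne_of_ne hb hc, swap_apply_of_ne_of_ne ha hb]
  rw [h4, h4, h4]

omit [Fintype α] in
/-- Sending two points outside a set to two others outside it, fixing the set, is injective there. -/
theorem injOn_pairMap {a b a' b' : α} {s : Finset α} (hab' : a' ≠ b') (ha' : a' ∉ s) (hb' : b' ∉ s) :
    Set.InjOn (fun x => if x = a then a' else if x = b then b' else x)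
      ((insert a (insert b s) : Finset α) : Set α) := by
  intro x hx y hy e
  simp only [Finset.coe_insert, Set.mem_insert_iff, Finset.mem_coe] at hx hy
  dsimp only at e
  rcases hx with rfl | rfl | hx <;> rcases hy with rfl | rfl | hy <;> try rfl
  all_goals split_ifs at e <;> simp_all

/-- An involution fixing `k` points bounds the number of the other points. -/
theorem sub_le_two_mul {k : ℕ} (hk : 2 ≤ k) (hG : Trans G k) (hS : Semireg G k)
    {Γ : Finset α} (hΓ : Γ.card = k) {w : Perm α} (hw : w ∈ fixer G Γ) (hw1 : w ≠ 1)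
    (hw2 : w * w = 1) : Fintype.card α - k ≤ 2 * Nat.card (fixer G Γ) := by
  classical
  obtain ⟨c, hc, d, hd, hcd⟩ := Finset.one_lt_card.1 (show 1 < Γ.card by omega)
  set Γ₀ := (Γ.erase c).erase d with hΓ₀
  have hd' : d ∈ Γ.erase c := Finset.mem_erase.2 ⟨hcd.symm, hd⟩
  have hΓ₀card : Γ₀.card = k - 2 := by
    rw [hΓ₀, Finset.card_erase_of_mem hd', Finset.card_erase_of_mem hc, hΓ]
    omega
  have hcΓ₀ : c ∉ Γ₀ := fun h => Finset.notMem_erase c Γ (Finset.mem_of_mem_erase h)
  have hdΓ₀ : d ∉ Γ₀ := Finset.notMem_erase d _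
  have hmemΓ : ∀ x ∈ Γ, x = c ∨ x = d ∨ x ∈ Γ₀ := fun x hx => by
    rcases eq_or_ne x c with h | h
    · exact Or.inl h
    rcases eq_or_ne x d with h' | h'
    · exact Or.inr (Or.inl h')
    exact Or.inr (Or.inr (Finset.mem_erase.2 ⟨h', Finset.mem_erase.2 ⟨h, hx⟩⟩))
  set T := Γ₀ᶜ.offDiag with hT
  have hmemT : ∀ t : α × α, t ∈ T ↔ t.1 ∉ Γ₀ ∧ t.2 ∉ Γ₀ ∧ t.1 ≠ t.2 := fun t => by
    rw [hT, Finset.mem_offDiag, Finset.mem_compl, Finset.mem_compl]
  set C := (Finset.univ : Finset (Perm α)).filter fun u =>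
    u ∈ fixer G Γ₀ ∧ u * u = 1 ∧ u ≠ 1 ∧ ∃ t ∈ T, u t.1 = t.1 ∧ u t.2 = t.2 with hC
  have hmemC : ∀ u, u ∈ C ↔
      u ∈ fixer G Γ₀ ∧ u * u = 1 ∧ u ≠ 1 ∧ ∃ t ∈ T, u t.1 = t.1 ∧ u t.2 = t.2 := fun u => by
    rw [hC, Finset.mem_filter, and_iff_right (Finset.mem_univ u)]
  -- the fixed points of an element of `C`
  have hfix : ∀ u ∈ C, ∃ a b, a ∉ Γ₀ ∧ b ∉ Γ₀ ∧ a ≠ b ∧
      ∀ x, u x = x ↔ x ∈ Γ₀ ∨ x = a ∨ x = b := by
    intro u hu
    obtain ⟨hu1, -, hu3, ⟨a, b⟩, ht, hua, hub⟩ := (hmemC u).1 hu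
    obtain ⟨ha, hb, hab⟩ := (hmemT _).1 ht
    refine ⟨a, b, ha, hb, hab, fun x => ⟨fun hx => ?_, ?_⟩⟩
    · by_contra hne
      simp only [not_or] at hne
      refine hu3 (hS u hu1.1 (insert x (insert a (insert b Γ₀))) ?_ fun y hy => ?_)
      · rw [Finset.card_insert_of_notMem (by simp [hne.1, hne.2.1, hne.2.2]),
          Finset.card_insert_of_notMem (by simp [ha, hab]), Finset.card_insert_of_notMem hb,
          hΓ₀card]
        omega
      · simp only [Finset.mem_insert] at hy
        rcases hy with rfl | rfl | rfl | hy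
        · exact hx
        · exact hua
        · exact hub
        · exact hu1.2 y hy
    · rintro (hx | rfl | rfl)
      · exact hu1.2 x hx
      · exact hua
      · exact hub
  -- invariance
  have hinv : ∀ (P : Perm α → α × α → Prop) [∀ u t, Decidable (P u t)],
      (∀ h u (t : α × α), P u t → P (h * u * h⁻¹) (h t.1, h t.2)) → ∀ t ∈ T, ∀ t' ∈ T,
      (C.filter fun u => P u t).card ≤ (C.filter fun u => P u t').card := by
    intro P _ hP t ht t' ht'
    obtain ⟨ha, hb, hab⟩ := (hmemT t).1 ht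
    obtain ⟨ha', hb', hab'⟩ := (hmemT t').1 ht'
    obtain ⟨h, hh, hh'⟩ := hG.exists_map (s := insert t.1 (insert t.2 Γ₀))
      (by
        have h1 := Finset.card_insert_le t.1 (insert t.2 Γ₀)
        have h2 := Finset.card_insert_le t.2 Γ₀
        omega)
      (f := fun x => if x = t.1 then t'.1 else if x = t.2 then t'.2 else x)
      (injOn_pairMap hab' ha' hb')
    have hh1 : h t.1 = t'.1 := by rw [hh' _ (Finset.mem_insert_self _ _), if_pos rfl]
    have hh2 : h t.2 = t'.2 := by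
      rw [hh' _ (Finset.mem_insert_of_mem (Finset.mem_insert_self _ _)), if_neg hab.symm, if_pos rfl]
    have hh0 : h ∈ fixer G Γ₀ := ⟨hh, fun x hx => by
      rw [hh' x (Finset.mem_insert_of_mem (Finset.mem_insert_of_mem hx)),
        if_neg (ne_of_mem_of_not_mem hx ha), if_neg (ne_of_mem_of_not_mem hx hb)]⟩
    refine Finset.card_le_card_of_injOn (fun u => h * u * h⁻¹) (fun u hu => ?_)
      (fun u _ v _ e => mul_left_cancel (mul_right_cancel e))
    obtain ⟨huC, hu⟩ := Finset.mem_filter.1 (Finset.mem_coe.1 hu)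
    obtain ⟨hu1, hu2, hu3, r, hr, hur1, hur2⟩ := (hmemC u).1 huC
    obtain ⟨hr1, hr2, hr3⟩ := (hmemT r).1 hr
    refine Finset.mem_coe.2 (Finset.mem_filter.2 ⟨(hmemC _).2 ⟨mul_mem (mul_mem hh0 hu1)
      (inv_mem hh0), ?_, ?_, (h r.1, h r.2), (hmemT _).2 ⟨?_, ?_, h.injective.ne hr3⟩, ?_, ?_⟩, ?_⟩)
    · calc h * u * h⁻¹ * (h * u * h⁻¹) = h * (u * u) * h⁻¹ := by group
        _ = 1 := by rw [hu2]; group
    · exact fun e => hu3 (by
        calc u = h⁻¹ * (h * u * h⁻¹) * h := by group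
          _ = 1 := by rw [show h * u * h⁻¹ = 1 from e]; group)
    · exact fun hm => hr1 (by rwa [h.injective (hh0.2 _ hm)] at hm)
    · exact fun hm => hr2 (by rwa [h.injective (hh0.2 _ hm)] at hm)
    · simp [Perm.mul_apply, inv_apply_self, hur1]
    · simp [Perm.mul_apply, inv_apply_self, hur2]
    · have := hP h u t hu
      rwa [hh1, hh2] at this
  have hP1 : ∀ (h u : Perm α) (t : α × α), u t.1 = t.2 → (h * u * h⁻¹) (h t.1) = h t.2 := fun h u t e => by
    simp [Perm.mul_apply, inv_apply_self, e]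
  have hP2 : ∀ (h u : Perm α) (t : α × α), u t.1 = t.1 ∧ u t.2 = t.2 →
      (h * u * h⁻¹) (h t.1) = h t.1 ∧ (h * u * h⁻¹) (h t.2) = h t.2 := fun h u t e => by
    simp [Perm.mul_apply, inv_apply_self, e.1, e.2]
  have htcd : (c, d) ∈ T := (hmemT _).2 ⟨hcΓ₀, hdΓ₀, hcd⟩
  set J := (C.filter fun u => u c = d).card with hJ
  set j := (C.filter fun u => u c = c ∧ u d = d).card with hj
  have hmove : ∀ u ∈ C, ((T.filter fun t => u t.1 = t.2).card) = Fintype.card α - k := by
    intro u hu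
    obtain ⟨a, b, ha, hb, hab, hfx⟩ := hfix u hu
    obtain ⟨hu1, -⟩ := (hmemC u).1 hu
    have he : (T.filter fun t => u t.1 = t.2) =
        (insert a (insert b Γ₀))ᶜ.image fun x => (x, u x) := by
      ext ⟨x, y⟩
      simp only [Finset.mem_filter, hmemT, Finset.mem_image, Finset.mem_compl, Finset.mem_insert,
        not_or, Prod.mk.injEq]
      constructor
      · rintro ⟨⟨hx, -, hxy⟩, rfl⟩
        refine ⟨x, ⟨?_, ?_, hx⟩, rfl, rfl⟩
        · exact fun e => hxy ((hfx x).2 (Or.inr (Or.inl e))).symm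
        · exact fun e => hxy ((hfx x).2 (Or.inr (Or.inr e))).symm
      · rintro ⟨x', ⟨hxa, hxb, hxΓ⟩, rfl, rfl⟩
        refine ⟨⟨hxΓ, fun hm => hxΓ (by rwa [u.injective (hu1.2 _ hm)] at hm), fun e => ?_⟩, rfl⟩
        exact ((hfx x').1 e.symm).elim hxΓ fun h => h.elim hxa hxb
    rw [he, Finset.card_image_of_injective _ fun x y e => (Prod.mk.inj e).1, Finset.card_compl,
      Finset.card_insert_of_notMem (by simp [ha, hab]), Finset.card_insert_of_notMem hb, hΓ₀card]
    omega
  have hfixed : ∀ u ∈ C, (T.filter fun t => u t.1 = t.1 ∧ u t.2 = t.2).card = 2 := by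
    intro u hu
    obtain ⟨a, b, ha, hb, hab, hfx⟩ := hfix u hu
    have he : (T.filter fun t => u t.1 = t.1 ∧ u t.2 = t.2) = {(a, b), (b, a)} := by
      ext ⟨x, y⟩
      simp only [Finset.mem_filter, hmemT, hfx, Finset.mem_insert, Finset.mem_singleton,
        Prod.mk.injEq]
      constructor
      · rintro ⟨⟨hx, hy, hxy⟩, hx', hy'⟩
        rcases hx'.resolve_left hx with rfl | rfl <;> rcases hy'.resolve_left hy with rfl | rfl
        all_goals first | exact absurd rfl hxy | simp
      · rintro (⟨rfl, rfl⟩ | ⟨rfl, rfl⟩)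
        · exact ⟨⟨ha, hb, hab⟩, by simp, by simp⟩
        · exact ⟨⟨hb, ha, hab.symm⟩, by simp, by simp⟩
    rw [he, Finset.card_pair (by simp [hab])]
  have e1 : C.card * (Fintype.card α - k) = T.card * J :=
    Finset.card_mul_eq_card_mul (fun u (t : α × α) => u t.1 = t.2)
      (fun u hu => by simpa [Finset.bipartiteAbove] using hmove u hu) (fun t ht => by
        have := hinv (fun u t => u t.1 = t.2) hP1
        exact le_antisymm (this t ht _ htcd) (this _ htcd t ht))
  have e2 : C.card * 2 = T.card * j :=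
    Finset.card_mul_eq_card_mul (fun u (t : α × α) => u t.1 = t.1 ∧ u t.2 = t.2)
      (fun u hu => by simpa [Finset.bipartiteAbove] using hfixed u hu) (fun t ht => by
        have := hinv (fun u t => u t.1 = t.1 ∧ u t.2 = t.2) hP2
        exact le_antisymm (this t ht _ htcd) (this _ htcd t ht))
  have hj1 : 1 ≤ j := Finset.card_pos.2 ⟨w, Finset.mem_filter.2 ⟨(hmemC w).2
    ⟨⟨hw.1, fun x hx => hw.2 x (Finset.mem_of_mem_erase (Finset.mem_of_mem_erase hx))⟩, hw2, hw1,
      (c, d), htcd, hw.2 c hc, hw.2 d hd⟩, hw.2 c hc, hw.2 d hd⟩⟩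
  have hJK : J ≤ Nat.card (fixer G Γ) := by
    rcases (C.filter fun u => u c = d).eq_empty_or_nonempty with he | ⟨u₀, hu₀⟩
    · rw [hJ, he]; simp
    · have hl : ∀ u ∈ C.filter (fun u => u c = d), u ∈ fixer G Γ₀ ∧ u c = d ∧ u d = c := by
        intro u hu
        obtain ⟨huC, huc⟩ := Finset.mem_filter.1 hu
        obtain ⟨h1, h2, -⟩ := (hmemC u).1 huC
        exact ⟨h1, huc, by rw [← huc, ← Perm.mul_apply, h2, Perm.one_apply]⟩
      obtain ⟨g1, g2, g3⟩ := hl u₀ hu₀
      have hm : ∀ u ∈ C.filter (fun u => u c = d), u₀ * u ∈ fixer G Γ := fun u hu => by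
        obtain ⟨h1, h2, h3⟩ := hl u hu
        refine ⟨G.mul_mem g1.1 h1.1, fun x hx => ?_⟩
        rw [Perm.mul_apply]
        rcases hmemΓ x hx with rfl | rfl | hx
        · rw [h2, g3]
        · rw [h3, g2]
        · rw [h1.2 x hx, g1.2 x hx]
      have := Finset.card_le_card_of_injOn (t := (Finset.univ : Finset (Perm α)).filter
          fun g => g ∈ fixer G Γ) (fun u => u₀ * u)
        (fun u hu => by simpa using hm u hu) (fun u _ v _ e => mul_left_cancel e)
      refine this.trans (le_of_eq ?_)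
      rw [Nat.card_eq_fintype_card, Fintype.card_subtype]
  have hTpos : 0 < T.card := Finset.card_pos.2 ⟨_, htcd⟩
  have e3 : (Fintype.card α - k) * j = 2 * J := Nat.eq_of_mul_eq_mul_left hTpos (by
    calc T.card * ((Fintype.card α - k) * j) = (Fintype.card α - k) * (T.card * j) := by ring
      _ = T.card * (2 * J) := by rw [← e2]; linear_combination (2 : ℕ) * e1)
  have := Nat.le_mul_of_pos_right (Fintype.card α - k) hj1
  omega

/-- If the stabiliser of `k` points has even order, the stabiliser of any further point induces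
every even permutation on the `k` points. -/
theorem allEven_fixer_of_even {k : ℕ} (hk : 2 ≤ k) (hG : Trans G k) (hS : Semireg G k)
    {Γ : Finset α} (hΓ : Γ.card = k) (hK : ¬ Odd (Nat.card (fixer G Γ))) {z : α} (hz : z ∉ Γ) :
    AllEven (fixer G {z}) Γ := by
  classical
  obtain ⟨w, hw, hw2, hw1⟩ : ∃ w ∈ fixer G Γ, w * w = 1 ∧ w ≠ 1 := by
    by_contra h
    simp only [not_exists, not_and, not_not] at h
    exact hK (odd_card_of_no_invol h)
  have hle := sub_le_two_mul hk hG hS hΓ hw hw1 hw2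
  refine allEven_of_threeCycle fun a ha b hb c hc hab hac hbc => ?_
  set σ := swap a b * swap b c with hσdef
  have hσ : SuppIn Γ σ := (suppIn_swap ha hb).mul (suppIn_swap hb hc)
  obtain ⟨g, hg, hg'⟩ := hG σ Γ hΓ.le
  have hg3 : g ^ 3 ∈ fixer G Γ := ⟨G.pow_mem hg 3, fun x hx => by
    rw [pow_agree hσ hg' 3 x hx, hσdef, swap_mul_swap_pow_three a b c hab hac hbc,
      Perm.one_apply]⟩
  have hout : ∀ x ∉ Γ, g x ∉ Γ := fun x hx hm => by
    apply hx
    have hm' : σ⁻¹ (g x) ∈ Γ := (hσ.inv.mem_iff _).2 hm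
    have : g (σ⁻¹ (g x)) = g x := by rw [hg' _ hm', apply_inv_self]
    rwa [g.injective this] at hm'
  have hconj : ∀ k ∈ fixer G Γ, g⁻¹ * k * g ∈ fixer G Γ := fun k hk =>
    ⟨G.mul_mem (G.mul_mem (G.inv_mem hg) hk.1) hg, fun x hx => by
      rw [Perm.mul_apply, Perm.mul_apply, hk.2 _ (hg' x hx ▸ (hσ.mem_iff x).2 hx),
        inv_apply_self]⟩
  suffices hrel : ∃ k ∈ fixer G Γ, k (g z) = z by
    obtain ⟨k, hk, hk'⟩ := hrel
    refine ⟨k * g, ⟨G.mul_mem hk.1 hg, fun x hx => ?_⟩, fun x hx => ?_⟩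
    · rw [Finset.mem_singleton.1 hx, Perm.mul_apply, hk']
    · rw [Perm.mul_apply, hg' x hx, hk.2 _ ((hσ.mem_iff x).2 hx)]
  by_contra hne
  simp only [not_exists, not_and] at hne
  -- three points in different orbits
  have h12 : ∀ k ∈ fixer G Γ, k (g (g z)) ≠ g z := by
    intro k hk e
    refine hne _ (hconj k hk) ?_
    rw [Perm.mul_apply, Perm.mul_apply, e, inv_apply_self]
  have h02 : ∀ k ∈ fixer G Γ, k (g (g z)) ≠ z := by
    intro k hk e
    -- `g ^ 3` maps `z` to the orbit of `g z`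
    have hk' : g * k⁻¹ * g⁻¹ ∈ fixer G Γ := by
      refine ⟨G.mul_mem (G.mul_mem hg (G.inv_mem hk.1)) (G.inv_mem hg), fun x hx => ?_⟩
      have hx' : σ⁻¹ x ∈ Γ := (hσ.inv.mem_iff x).2 hx
      have hgx : g⁻¹ x = σ⁻¹ x := by
        rw [Perm.inv_eq_iff_eq, hg' _ hx', apply_inv_self]
      rw [Perm.mul_apply, Perm.mul_apply, hgx, (inv_mem hk : k⁻¹ ∈ fixer G Γ).2 _ hx', hg' _ hx',
        apply_inv_self]
    refine hne _ (mul_mem (inv_mem hg3) hk') ?_
    have h3 : (g ^ 3) z = g (g (g z)) := by simp [pow_succ]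
    rw [Perm.mul_apply, Perm.inv_eq_iff_eq, h3, Perm.mul_apply, Perm.mul_apply, inv_apply_self]
    congr 1
    rw [Perm.inv_eq_iff_eq]
    exact e.symm
  have hK3 : 3 * Nat.card (fixer G Γ) ≤ Fintype.card α - k := by
    let pt : Fin 3 → α := ![z, g z, g (g z)]
    have hpt : ∀ i, pt i ∉ Γ := by
      intro i
      fin_cases i
      · exact hz
      · exact hout _ hz
      · exact hout _ (hout _ hz)
    let f : Fin 3 × fixer G Γ → {x // x ∈ Γᶜ} := fun p =>
      ⟨(p.2 : Perm α) (pt p.1), Finset.mem_compl.2 fun hm => hpt p.1 (by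
        rwa [(p.2 : Perm α).injective (p.2.2.2 _ hm)] at hm)⟩
    have hf : Function.Injective f := by
      intro p q e
      have e' : (p.2 : Perm α) (pt p.1) = (q.2 : Perm α) (pt q.1) := congrArg Subtype.val e
      have hm : (q.2 : Perm α)⁻¹ * (p.2 : Perm α) ∈ fixer G Γ := mul_mem (inv_mem q.2.2) p.2.2
      have e'' : ((q.2 : Perm α)⁻¹ * (p.2 : Perm α)) (pt p.1) = pt q.1 := by
        rw [Perm.mul_apply, e', inv_apply_self]
      have hij : p.1 = q.1 := by
        have e3 : ((q.2 : Perm α)⁻¹ * (p.2 : Perm α))⁻¹ (pt q.1) = pt p.1 := by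
          rw [← e'', inv_apply_self]
        generalize p.1 = i, q.1 = j at e'' e3
        fin_cases i <;> fin_cases j <;> first
          | rfl
          | (exfalso; first
              | exact hne _ hm e''
              | exact h12 _ hm e''
              | exact h02 _ hm e''
              | exact hne _ (inv_mem hm) e3
              | exact h12 _ (inv_mem hm) e3
              | exact h02 _ (inv_mem hm) e3)
      refine Prod.ext hij (Subtype.ext ?_)
      rw [← hij] at e''
      have := hS _ hm.1 (insert (pt p.1) Γ) (by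
        rw [Finset.card_insert_of_notMem (hpt p.1), hΓ]; omega) fun x hx => by
          rcases Finset.mem_insert.1 hx with rfl | hx
          · exact e''
          · exact hm.2 x hx
      exact (inv_mul_eq_one.1 this).symm
    have := Nat.card_le_card_of_injective f hf
    rwa [Nat.card_prod, Nat.card_eq_fintype_card (α := Fin 3), Fintype.card_fin,
      Nat.card_eq_fintype_card (α := {x // x ∈ Γᶜ}), Fintype.card_coe, Finset.card_compl, hΓ]
      at this
  have : 0 < Nat.card (fixer G Γ) := Nat.card_pos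
  omega

end CfsgLib.Homog
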