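import Mathlib
import Cfsg.Agent.Homog.Semiregular

/-!
Semiregular multiply transitive groups with stabilisers of odd order.
-/

namespace CfsgLib.Homog

open Equiv

variable {α : Type*} [DecidableEq α] [Fintype α] {G : Subgroup (Perm α)}

/-- With odd stabilisers of `k` points the group contains the alternating group, or it is sharply
`k`-transitive of degree `k + 7`. -/
theorem odd_cases {k : ℕ} (hk : 4 ≤ k) (hkn : k < Fintype.card α) (hG : Trans G k)
    {Γ : Finset α} (hΓ : Γ.card = k) (hK : Odd (Nat.card (fixer G Γ))) :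
    alternatingGroup α ≤ G ∨ (Fintype.card α = k + 7 ∧ fixer G Γ = ⊥) := by
  classical
  obtain ⟨s₀, hs₀, hs₀c⟩ := Finset.exists_subset_card_eq (s := Γ) (n := k - 4) (by omega)
  let H : Subgroup (Perm ↥s₀ᶜ) := normOn (fixer G s₀) ⊥ s₀ᶜ
  have hmk : ∀ g ∈ fixer G s₀, ∃ π ∈ H, ∀ x : ↥s₀ᶜ, (π x : α) = g x := fun g hg => by
    refine ⟨g.subtypePerm fun x => ?_, ⟨g, ⟨hg, ?_⟩, fun _ => rfl⟩, fun _ => rfl⟩
    · simp only [Finset.mem_compl]
      constructor
      · exact fun h hx => h (by rw [hg.2 x hx]; exact hx)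
      · exact fun h hx => h (by rwa [g.injective (hg.2 _ hx)] at hx)
    · change g ∈ Subgroup.normalizer _
      rw [Subgroup.mem_normalizer_iff]
      intro q
      simp only [Subgroup.coe_bot, SetLike.mem_coe, Subgroup.mem_bot, Set.mem_singleton_iff,
        conj_eq_one_iff]
  have hof : ∀ π ∈ H, ∃ g ∈ fixer G s₀, ∀ x : ↥s₀ᶜ, (π x : α) = g x := fun π hπ => by
    obtain ⟨g, hg, hg'⟩ := hπ
    exact ⟨g, hg.1, hg'⟩
  have hm : Fintype.card ↥s₀ᶜ = Fintype.card α - (k - 4) := by
    rw [Fintype.card_coe, Finset.card_compl, hs₀c]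
  have hH4 : MulAction.IsMultiplyPretransitive H ↥s₀ᶜ 4 := by
    rw [trans_iff (by omega)]
    intro σ s hs
    obtain ⟨g, hg, hg'⟩ := hG.exists_map
      (s := s₀ ∪ s.map (Function.Embedding.subtype _))
      (by
        have := Finset.card_union_le s₀ (s.map (Function.Embedding.subtype _))
        rw [Finset.card_map] at this
        omega)
      (f := fun x => if hx : x ∈ s₀ᶜ then (σ ⟨x, hx⟩ : α) else x)
      (by
        intro x _ y _ e
        dsimp only at e
        split_ifs at e with h1 h2 h2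
        · exact congrArg Subtype.val (σ.injective (Subtype.ext e))
        · exact absurd (e ▸ (σ ⟨x, h1⟩).2) h2
        · exact absurd (e.symm ▸ (σ ⟨y, h2⟩).2) h1
        · exact e)
    obtain ⟨π, hπ, hπ'⟩ := hmk g ⟨hg, fun x hx => by
      rw [hg' x (Finset.mem_union_left _ hx), dif_neg (by simpa using hx)]⟩
    refine ⟨π, hπ, fun x hx => Subtype.ext ?_⟩
    have h := hg' _ (Finset.mem_union_right s₀ (Finset.mem_map.2 ⟨x, hx, rfl⟩))
    rw [hπ']
    exact h.trans (dif_pos x.2)
  obtain ⟨x⟩ : Nonempty (Fin 4 ↪ ↥s₀ᶜ) :=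
    Function.Embedding.nonempty_of_card_le (by rw [Fintype.card_fin]; omega)
  let Γ' : Finset α := s₀ ∪ Finset.univ.image fun i => (x i : α)
  have hΓ' : Γ'.card = k := by
    rw [Finset.card_union_of_disjoint, Finset.card_image_of_injective _
      fun i j h => x.injective (Subtype.ext h), Finset.card_univ, Fintype.card_fin, hs₀c]
    · omega
    · rw [Finset.disjoint_left]
      intro a ha ha'
      obtain ⟨i, -, rfl⟩ := Finset.mem_image.1 ha'
      exact Finset.mem_compl.1 (x i).2 ha
  have hK' : Odd (Nat.card (fixer G Γ')) := by rwa [card_fixer_eq hG.homog hΓ' hΓ]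
  have hstab : ∀ π : H, π ∈ MulAction.stabilizer H x → ∀ g ∈ fixer G s₀,
      (∀ y : ↥s₀ᶜ, ((π : Perm ↥s₀ᶜ) y : α) = g y) → g ∈ fixer G Γ' := by
    intro π hπ g hg he
    refine ⟨hg.1, fun a ha => ?_⟩
    rcases Finset.mem_union.1 ha with ha | ha
    · exact hg.2 a ha
    · obtain ⟨i, -, rfl⟩ := Finset.mem_image.1 ha
      rw [← he]
      exact congrArg Subtype.val (congrArg (fun e : Fin 4 ↪ ↥s₀ᶜ => e i) hπ)
  have hodd : Odd (Nat.card (MulAction.stabilizer H x)) := by
    by_contra h
    rw [Nat.not_odd_iff_even, even_iff_two_dvd] at h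
    haveI : Fact (Nat.Prime 2) := ⟨Nat.prime_two⟩
    obtain ⟨π, hπ⟩ := exists_prime_orderOf_dvd_card' (G := MulAction.stabilizer H x) 2 h
    obtain ⟨g, hg, hg'⟩ := hof _ (π : H).2
    have hgm : g ∈ fixer G Γ' := hstab π π.2 g hg hg'
    have hπ2 : ((π : H) : Perm ↥s₀ᶜ) ^ 2 = 1 := by
      rw [← Subgroup.coe_pow, ← Subgroup.coe_pow, ← hπ, pow_orderOf_eq_one]; rfl
    have hg2 : g ^ 2 = 1 := Equiv.ext fun a => by
      by_cases ha : a ∈ s₀ᶜ
      · have e1 : (((π : H) : Perm ↥s₀ᶜ) ^ 2) ⟨a, ha⟩ = ⟨a, ha⟩ := by rw [hπ2]; rfl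
        have := congrArg Subtype.val e1
        rw [pow_two, Perm.mul_apply, hg', hg'] at this
        rw [pow_two, Perm.mul_apply, this, Perm.one_apply]
      · rw [Finset.mem_compl, not_not] at ha
        exact ((fixer G s₀).pow_mem hg 2).2 a ha
    have hg1 : g = 1 := by
      rcases (Nat.dvd_prime Nat.prime_two).1 (orderOf_dvd_of_pow_eq_one hg2) with h1 | h1
      · exact orderOf_eq_one_iff.1 h1
      · have := odd_orderOf hK' hgm
        rw [h1] at this
        exact absurd this (by decide)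
    have : π = 1 := Subtype.ext (Subtype.ext (Equiv.ext fun y => Subtype.ext (by
      rw [hg', hg1]; rfl)))
    rw [this, orderOf_one] at hπ
    norm_num at hπ
  rcases Cfsg.Agent.S4221.result H hH4 x hodd with ⟨h45, -⟩ | ⟨h67, hA⟩ | ⟨h11, hcard⟩
  · exact Or.inl (alternating_le_of_trans hG (by omega))
  · left
    obtain ⟨a, b, c, -, -, -, hab, hac, hbc⟩ :=
      Finset.two_lt_card_iff.1 (show 2 < (Finset.univ : Finset ↥s₀ᶜ).card by
        rw [Finset.card_univ]; omega)
    obtain ⟨g, hg, hg'⟩ := hof (swap a b * swap a c) (by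
      rw [hA]
      exact (Perm.isThreeCycle_swap_mul_swap_same hab hac hbc).mem_alternatingGroup)
    have he : g = swap (a : α) b * swap (a : α) c := Equiv.ext fun y => by
      by_cases hy : y ∈ s₀ᶜ
      · rw [← hg' ⟨y, hy⟩, Perm.mul_apply, Perm.mul_apply,
          ← Subtype.coe_injective.swap_apply, ← Subtype.coe_injective.swap_apply]
      · have hy' : ∀ d : ↥s₀ᶜ, y ≠ d := fun d e => hy (e ▸ d.2)
        rw [hg.2 y (by simpa using hy), Perm.mul_apply, swap_apply_of_ne_of_ne (hy' a) (hy' c),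
          swap_apply_of_ne_of_ne (hy' a) (hy' b)]
    haveI : MulAction.IsPreprimitive G α :=
      MulAction.isPreprimitive_of_is_two_pretransitive ((trans_iff (by omega)).2 (hG.mono (by omega)))
    exact Equiv.Perm.alternatingGroup_le_of_isPreprimitive_of_isThreeCycle_mem inferInstance
      (Perm.isThreeCycle_swap_mul_swap_same (Subtype.coe_injective.ne hab)
        (Subtype.coe_injective.ne hac) (Subtype.coe_injective.ne hbc)) (he ▸ hg.1)
  · right
    have horb : MulAction.orbit H x = Set.univ :=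
      Set.eq_univ_of_forall fun y => MulAction.mem_orbit_iff.2 (hH4.exists_smul_eq x y)
    have h1 := Subgroup.card_mul_index (MulAction.stabilizer H x)
    rw [MulAction.index_stabilizer] at h1
    erw [horb] at h1
    rw [Set.ncard_univ, Nat.card_eq_fintype_card (α := Fin 4 ↪ ↥s₀ᶜ),
      Fintype.card_embedding_eq, Fintype.card_fin, h11, hcard,
      show Nat.descFactorial 11 4 = 7920 by rfl] at h1
    have hbot : MulAction.stabilizer H x = ⊥ := Subgroup.card_eq_one.1 (by omega)
    refine ⟨by omega, Subgroup.card_eq_one.1 ?_⟩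
    rw [card_fixer_eq hG.homog hΓ hΓ', Subgroup.card_eq_one, Subgroup.eq_bot_iff_forall]
    intro g hg
    obtain ⟨π, hπ, hπ'⟩ := hmk g (fixer_mono Finset.subset_union_left hg)
    have hmem : (⟨π, hπ⟩ : H) ∈ MulAction.stabilizer H x := by
      rw [MulAction.mem_stabilizer_iff]
      refine Function.Embedding.ext fun i => Subtype.ext ?_
      show (π (x i) : α) = x i
      rw [hπ']
      exact hg.2 _ (Finset.mem_union_right _ (Finset.mem_image_of_mem _ (Finset.mem_univ i)))
    rw [hbot, Subgroup.mem_bot] at hmem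
    have hπ1 : π = 1 := congrArg Subtype.val hmem
    refine Equiv.ext fun y => ?_
    by_cases hy : y ∈ s₀ᶜ
    · rw [← hπ' ⟨y, hy⟩, hπ1]; rfl
    · exact hg.2 y (Finset.mem_union_left _ (by simpa using hy))

/-- In degree `k + 7` the stabiliser of a `k`-set fixes exactly one further point. -/
theorem exists_fixed_point {k : ℕ} (hk : 3 ≤ k) (hn : Fintype.card α = k + 7) (hG : Trans G k)
    (hS : Semireg G k) {Γ : Finset α} (hΓ : Γ.card = k) (hK : fixer G Γ = ⊥) :
    ∃ z, z ∉ Γ ∧ AllEven (fixer G {z}) Γ ∧ ∀ a ∈ Γ, ∀ b ∈ Γ, a ≠ b → ∀ g ∈ G,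
      (∀ x ∈ Γ, g x = swap a b x) → g z = z ∧ ∀ x, x ∉ Γ → g x = x → x = z := by
  classical
  have huniq : ∀ g ∈ G, ∀ h ∈ G, (∀ x ∈ Γ, g x = h x) → g = h := by
    intro g hg h hh he
    have : h⁻¹ * g ∈ fixer G Γ := ⟨G.mul_mem (G.inv_mem hh) hg, fun x hx => by
      rw [Perm.mul_apply, he x hx, inv_apply_self]⟩
    rw [hK, Subgroup.mem_bot, inv_mul_eq_one] at this
    exact this.symm
  -- an element of prime order fixes exactly one point outside
  have hone : ∀ (p : ℕ) [Fact p.Prime] (σ g : Perm α), SuppIn Γ σ → σ ≠ 1 → σ ^ p = 1 → g ∈ G →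
      (∀ x ∈ Γ, g x = σ x) → ∀ d : ℕ, (Γ.filter fun x => σ x = x).card + d = k →
      (∀ r : ℕ, r ≤ d → r % p = 7 % p → r = 1) →
      ∃ z, z ∉ Γ ∧ g z = z ∧ ∀ x, x ∉ Γ → g x = x → x = z := by
    intro p _ σ g hσ hσ1 hσp hg hg' d hd hr
    have hgp : g ^ p = 1 := huniq _ (G.pow_mem hg p) 1 G.one_mem fun x hx => by
      rw [pow_agree hσ hg' p x hx, hσp]
    have hg1 : g ≠ 1 := fun e => hσ1 (hσ.ext (SuppIn.one Γ) fun x hx => by rw [← hg' x hx, e])
    have hfix : (Finset.univ.filter fun x => g x = x) =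
        (Γ.filter fun x => σ x = x) ∪ (Γᶜ.filter fun x => g x = x) := by
      ext x
      simp only [Finset.mem_filter, Finset.mem_univ, true_and, Finset.mem_union, Finset.mem_compl]
      constructor
      · intro h
        by_cases hx : x ∈ Γ
        · exact Or.inl ⟨hx, by rw [← hg' x hx, h]⟩
        · exact Or.inr ⟨hx, h⟩
      · rintro (⟨hx, h⟩ | ⟨-, h⟩)
        · rw [hg' x hx, h]
        · exact h
    have hle : (Finset.univ.filter fun x => g x = x).card ≤ k := by
      by_contra h
      exact hg1 (hS g hg (Finset.univ.filter fun x => g x = x) (by omega)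
        fun x hx => (Finset.mem_filter.1 hx).2)
    have hmod := Perm.card_compl_support_modEq (p := p) (n := 1) (σ := g) (by rw [pow_one, hgp])
    have hsupp : g.supportᶜ = Finset.univ.filter fun x => g x = x := by
      ext x; simp
    rw [hsupp, hfix, Finset.card_union_of_disjoint (by
      rw [Finset.disjoint_left]
      intro x hx hx'
      exact Finset.mem_compl.1 (Finset.mem_filter.1 hx').1 (Finset.mem_filter.1 hx).1)] at hmod
    rw [hfix, Finset.card_union_of_disjoint (by
      rw [Finset.disjoint_left]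
      intro x hx hx'
      exact Finset.mem_compl.1 (Finset.mem_filter.1 hx').1 (Finset.mem_filter.1 hx).1)] at hle
    have hmodd : (Γ.filter fun x => σ x = x).card ≡ k [MOD p] := by
      have h1 := Perm.card_compl_support_modEq (p := p) (n := 1) (σ := σ) (by rw [pow_one, hσp])
      have h2 : σ.supportᶜ = (Γ.filter fun x => σ x = x) ∪ Γᶜ := by
        ext x
        by_cases hx : x ∈ Γ <;> simp [hx, hσ x]
      rw [h2, Finset.card_union_of_disjoint (by
        rw [Finset.disjoint_left]
        intro x hx hx'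
        exact Finset.mem_compl.1 hx' (Finset.mem_filter.1 hx).1), Finset.card_compl, hΓ, hn] at h1
      have h3 : (Γ.filter fun x => σ x = x).card + 7 ≡ k + 7 [MOD p] := by simpa using h1
      exact Nat.ModEq.add_right_cancel' 7 h3
    rw [hn] at hmod
    have h1 : (Γᶜ.filter fun x => g x = x).card = 1 := by
      refine hr _ (by omega) ?_
      exact Nat.ModEq.add_left_cancel hmodd hmod
    obtain ⟨z, hz⟩ := Finset.card_eq_one.1 h1
    refine ⟨z, ?_, ?_, fun x hx hgx => Finset.mem_singleton.1 (hz ▸ Finset.mem_filter.2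
      ⟨Finset.mem_compl.2 hx, hgx⟩)⟩
    · exact Finset.mem_compl.1 (Finset.mem_filter.1 (hz.ge (Finset.mem_singleton_self z))).1
    · exact (Finset.mem_filter.1 (hz.ge (Finset.mem_singleton_self z))).2
  -- lifts
  choose L hL hL' using fun σ : Perm α => hG σ Γ hΓ.le
  have hswap : ∀ a ∈ Γ, ∀ b ∈ Γ, a ≠ b → ∃ z, z ∉ Γ ∧ L (swap a b) z = z ∧
      ∀ x, x ∉ Γ → L (swap a b) x = x → x = z := by
    intro a ha b hb hab
    haveI : Fact (Nat.Prime 2) := ⟨Nat.prime_two⟩
    refine hone 2 _ _ (suppIn_swap ha hb) (by simpa using hab) (by rw [pow_two, swap_mul_self])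
      (hL _) (hL' _) 2 ?_ (fun r hr h => by omega)
    rw [show (Γ.filter fun x => swap a b x = x) = (Γ.erase a).erase b from ?_,
      Finset.card_erase_of_mem (Finset.mem_erase.2 ⟨hab.symm, hb⟩), Finset.card_erase_of_mem ha, hΓ]
    · omega
    · ext x
      simp only [Finset.mem_filter, Finset.mem_erase]
      constructor
      · rintro ⟨hx, e⟩
        refine ⟨?_, ?_, hx⟩
        · rintro rfl; rw [swap_apply_right] at e; exact hab e
        · rintro rfl; rw [swap_apply_left] at e; exact hab e.symm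
      · rintro ⟨h1, h2, h3⟩
        exact ⟨h3, swap_apply_of_ne_of_ne h2 h1⟩
  -- for three points the three fixed points coincide
  have hthree : ∀ a ∈ Γ, ∀ b ∈ Γ, ∀ c ∈ Γ, a ≠ b → a ≠ c → b ≠ c → ∀ z, z ∉ Γ →
      L (swap a b) z = z → L (swap b c) z = z ∧ L (swap a b * swap b c) z = z := by
    intro a ha b hb c hc hab hac hbc z hzΓ hz
    haveI : Fact (Nat.Prime 3) := ⟨by norm_num⟩
    set σ := swap a b * swap b c with hσdef
    have hσ : SuppIn Γ σ := (suppIn_swap ha hb).mul (suppIn_swap hb hc)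
    have hσ3 := swap_mul_swap_pow_three a b c hab hac hbc
    obtain ⟨y, hy, hy1, hy2⟩ := hone 3 σ (L σ) hσ
      (fun e => hbc (by
        have := congrArg (fun q : Perm α => q b) e
        simp only [hσdef, Perm.mul_apply, swap_apply_left,
          swap_apply_of_ne_of_ne hac.symm hbc.symm, Perm.one_apply] at this
        exact this.symm)) hσ3 (hL _) (hL' _) 3 (by
        rw [show (Γ.filter fun x => σ x = x) = ((Γ.erase a).erase b).erase c from ?_,
          Finset.card_erase_of_mem (Finset.mem_erase.2 ⟨hbc.symm, Finset.mem_erase.2 ⟨hac.symm, hc⟩⟩),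
          Finset.card_erase_of_mem (Finset.mem_erase.2 ⟨hab.symm, hb⟩), Finset.card_erase_of_mem ha,
          hΓ]
        · omega
        · ext x
          simp only [Finset.mem_filter, Finset.mem_erase]
          constructor
          · rintro ⟨hx, e⟩
            rw [hσdef, Perm.mul_apply] at e
            refine ⟨?_, ?_, ?_, hx⟩
            · rintro rfl; rw [swap_apply_right, swap_apply_right] at e; exact hac e
            · rintro rfl
              rw [swap_apply_left, swap_apply_of_ne_of_ne hac.symm hbc.symm] at e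
              exact hbc e.symm
            · rintro rfl
              rw [swap_apply_of_ne_of_ne hab hac, swap_apply_left] at e
              exact hab e.symm
          · rintro ⟨h1, h2, h3, h4⟩
            exact ⟨h4, by rw [hσdef, Perm.mul_apply, swap_apply_of_ne_of_ne h2 h1,
              swap_apply_of_ne_of_ne h3 h2]⟩)
      (fun r hr h => by omega)
    have key : ∀ τ, SuppIn Γ τ → τ * σ * τ = σ⁻¹ → τ * τ = 1 → L τ y = y := by
      intro τ hτ he hττ
      have h2 : L τ * L τ = 1 := huniq _ (G.mul_mem (hL τ) (hL τ)) 1 G.one_mem fun x hx => by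
        rw [Perm.mul_apply, hL' τ x hx, hL' τ _ ((hτ.mem_iff x).2 hx), ← Perm.mul_apply, hττ]
      refine hy2 _ (fun h => hy ?_) ?_
      · have h3 := (hτ.mem_iff _).2 h
        rwa [← hL' τ _ h, ← Perm.mul_apply, h2, Perm.one_apply] at h3
      have e : L τ * L σ * L τ = (L σ)⁻¹ := huniq _ (G.mul_mem (G.mul_mem (hL τ) (hL σ)) (hL τ)) _
        (G.inv_mem (hL σ)) fun x hx => by
          rw [Perm.mul_apply, Perm.mul_apply, hL' τ x hx, hL' σ _ ((hτ.mem_iff x).2 hx),
            hL' τ _ ((hσ.mem_iff _).2 ((hτ.mem_iff x).2 hx)), ← Perm.mul_apply, ← Perm.mul_apply, he]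
          symm
          rw [Perm.inv_eq_iff_eq, hL' σ _ ((hσ.inv.mem_iff x).2 hx), apply_inv_self]
      have h4 : L σ * L τ = L τ * (L σ)⁻¹ := by
        rw [← e, ← mul_assoc, ← mul_assoc, h2, one_mul]
      calc L σ (L τ y) = (L σ * L τ) y := rfl
        _ = L τ ((L σ)⁻¹ y) := by rw [h4]; rfl
        _ = L τ y := by rw [show (L σ)⁻¹ y = y by rw [Perm.inv_eq_iff_eq, hy1]]
    have hab' : L (swap a b) y = y := key _ (suppIn_swap ha hb) (by
      rw [hσdef, mul_inv_rev, swap_inv, swap_inv, ← mul_assoc, swap_mul_self, one_mul])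
      (swap_mul_self a b)
    have hbc' : L (swap b c) y = y := key _ (suppIn_swap hb hc) (by
      rw [hσdef, mul_inv_rev, swap_inv, swap_inv]
      simp only [mul_assoc, swap_mul_self, mul_one]) (swap_mul_self b c)
    obtain ⟨z', -, -, hz'⟩ := hswap a ha b hb hab
    obtain rfl : y = z := (hz' y hy hab').trans (hz' z hzΓ hz).symm
    exact ⟨hbc', hy1⟩
  obtain ⟨a₀, ha₀, b₀, hb₀, hab₀⟩ := Finset.one_lt_card.1 (show 1 < Γ.card by omega)
  obtain ⟨z, hz, hz0, -⟩ := hswap a₀ ha₀ b₀ hb₀ hab₀
  have hb0 : ∀ c ∈ Γ, c ≠ b₀ → L (swap b₀ c) z = z := by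
    intro c hc hcb
    rcases eq_or_ne c a₀ with rfl | hca
    · rw [swap_comm]; exact hz0
    · exact (hthree a₀ ha₀ b₀ hb₀ c hc hab₀ hca.symm hcb.symm z hz hz0).1
  have hall : ∀ a ∈ Γ, ∀ b ∈ Γ, a ≠ b → L (swap a b) z = z := by
    intro a ha b hb hab
    rcases eq_or_ne a b₀ with rfl | hab'
    · exact hb0 b hb hab.symm
    rcases eq_or_ne b b₀ with rfl | hbb'
    · rw [swap_comm]; exact hb0 a ha hab
    · exact (hthree b₀ hb₀ a ha b hb hab'.symm hbb'.symm hab z hz (hb0 a ha hab')).1
  refine ⟨z, hz, allEven_of_threeCycle fun a ha b hb c hc hab hac hbc => ?_,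
    fun a ha b hb hab g hg hg' => ?_⟩
  · exact ⟨L (swap a b * swap b c), ⟨hL _, fun x hx => by
      rw [Finset.mem_singleton.1 hx]
      exact (hthree a ha b hb c hc hab hac hbc z hz (hall a ha b hb hab)).2⟩,
      fun x hx => hL' _ x hx⟩
  · have e : g = L (swap a b) := huniq g hg _ (hL _) fun x hx => by rw [hg' x hx, hL' _ x hx]
    obtain ⟨y, hy, -, hy2⟩ := hswap a ha b hb hab
    obtain rfl : z = y := hy2 z hz (hall a ha b hb hab)
    exact ⟨e ▸ hall a ha b hb hab, fun x hx hgx => hy2 x hx (e ▸ hgx)⟩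

/-- In a semiregular group some `k + 1` points receive every even permutation. -/
theorem exists_allEven_of_semireg {k : ℕ} (hk : 4 ≤ k) (hkn : k < Fintype.card α) (hG : Trans G k)
    (hS : Semireg G k) : ∃ Δ : Finset α, Δ.card = k + 1 ∧ AllEven G Δ := by
  classical
  obtain ⟨Γ, -, hΓ⟩ := Finset.exists_subset_card_eq (s := (Finset.univ : Finset α)) (n := k)
    (by simp only [Finset.card_univ]; omega)
  by_cases hK : Odd (Nat.card (fixer G Γ))
  · rcases odd_cases hk hkn hG hΓ hK with hA | ⟨hn, hbot⟩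
    · obtain ⟨Δ, -, hΔ⟩ := Finset.exists_subset_card_eq (s := (Finset.univ : Finset α)) (n := k + 1)
        (by simp only [Finset.card_univ]; omega)
      exact ⟨Δ, hΔ, AllEven.of_alternating_le hA Δ⟩
    · obtain ⟨z, hz, hzA, hzu⟩ := exists_fixed_point (by omega) hn hG hS hΓ hbot
      have hΔ : (insert z Γ).card = k + 1 := by rw [Finset.card_insert_of_notMem hz, hΓ]
      refine ⟨insert z Γ, hΔ, allEven_of_fix (by omega) fun w hw => ?_⟩
      rcases Finset.mem_insert.1 hw with rfl | hw
      · rwa [Finset.erase_insert hz]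
      · have hc : ((insert z Γ).erase w).card = k := by
          rw [Finset.card_erase_of_mem (Finset.mem_insert_of_mem hw), hΔ]; omega
        obtain ⟨z', -, hzA', hzu'⟩ := exists_fixed_point (by omega) hn hG hS hc (by
          rw [← Subgroup.card_eq_one, card_fixer_eq hG.homog hc hΓ, hbot, Subgroup.card_bot])
        have he : 1 < (Γ.erase w).card := by rw [Finset.card_erase_of_mem hw, hΓ]; omega
        obtain ⟨a, ha, b, hb, hab⟩ := Finset.one_lt_card.1 he
        rw [Finset.mem_erase] at ha hb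
        obtain ⟨g, hg, hg'⟩ := hG (swap a b) Γ hΓ.le
        obtain ⟨hgz, -⟩ := hzu a ha.2 b hb.2 hab g hg hg'
        have hgw : g w = w := by
          rw [hg' w hw, swap_apply_of_ne_of_ne ha.1.symm hb.1.symm]
        obtain ⟨-, hu⟩ := hzu' a (Finset.mem_erase.2 ⟨ha.1, Finset.mem_insert_of_mem ha.2⟩)
          b (Finset.mem_erase.2 ⟨hb.1, Finset.mem_insert_of_mem hb.2⟩) hab g hg (fun x hx => by
            rcases Finset.mem_insert.1 (Finset.mem_of_mem_erase hx) with rfl | hx'
            · rw [hgz, swap_apply_of_ne_of_ne (ne_of_mem_of_not_mem ha.2 hz).symm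
                (ne_of_mem_of_not_mem hb.2 hz).symm]
            · exact hg' x hx')
        rwa [← hu w (Finset.notMem_erase w _) hgw] at hzA'
  · obtain ⟨Δ, -, hΔ⟩ := Finset.exists_subset_card_eq (s := (Finset.univ : Finset α)) (n := k + 1)
      (by simp only [Finset.card_univ]; omega)
    refine ⟨Δ, hΔ, allEven_of_fix (by omega) fun w hw => ?_⟩
    have hc : (Δ.erase w).card = k := by rw [Finset.card_erase_of_mem hw, hΔ]; omega
    exact allEven_fixer_of_even (by omega) hG hS hc
      (by rwa [card_fixer_eq hG.homog hc hΓ]) (Finset.notMem_erase w Δ)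

end CfsgLib.Homog
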