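import Mathlib
import Cfsg.Agent.Homog.SemiregularOdd
import Cfsg.Agent.S0743

/-!
A `k`-transitive group has a `(k+1)`-set on which every even permutation is induced.
-/

namespace CfsgLib.Homog

open Equiv

variable {α : Type*} [DecidableEq α] [Fintype α] {G : Subgroup (Perm α)}

theorem trans_normOn {p : ℕ} [Fact p.Prime] {Q : Subgroup (Perm α)} {k : ℕ} (hG : Trans G k)
    (hk : k ≤ (fixedSet Q).card)
    (hmax : ∀ t : Finset α, t.card = k → t ⊆ fixedSet Q → IsMaxP p Q (fixer G t)) :
    Trans (normOn G Q (fixedSet Q)) k := by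
  classical
  intro σ s hs
  obtain ⟨s', hss', hs'⟩ := Finset.exists_superset_card_eq hs
    (show k ≤ Fintype.card ↥(fixedSet Q) by rwa [Fintype.card_coe])
  set t := s'.map (Function.Embedding.subtype _) with ht
  have htsub : t ⊆ fixedSet Q := fun x hx => by
    obtain ⟨y, -, rfl⟩ := Finset.mem_map.1 hx
    exact y.2
  have htc : t.card = k := by rw [ht, Finset.card_map, hs']
  obtain ⟨g, hg, hg'⟩ := hG (Perm.ofSubtype σ) t htc.le
  have himg : t.image g ⊆ fixedSet Q := fun x hx => by
    obtain ⟨y, hy, rfl⟩ := Finset.mem_image.1 hx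
    rw [hg' y hy, Perm.ofSubtype_apply_of_mem _ (htsub hy)]
    exact (σ _).2
  obtain ⟨g', hg'n, he⟩ := witt (hmax t htc htsub) hg
    (hmax _ (by rw [Finset.card_image_of_injective _ g.injective, htc]) himg)
  obtain ⟨π, hπ, hπ'⟩ := exists_normOn hg'n
  refine ⟨π, hπ, fun x hx => Subtype.ext ?_⟩
  have hx' : (x : α) ∈ t := Finset.mem_map.2 ⟨x, hss' hx, rfl⟩
  rw [hπ', he _ hx', hg' _ hx', Perm.ofSubtype_apply_coe]

/-- A subgroup normalised by a larger `p`-group has a strictly larger `p`-subgroup normalising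
it. -/
theorem exists_normalizing {p : ℕ} [Fact p.Prime] {Q P : Subgroup (Perm α)} (hP : IsPGroup p P)
    (hQP : Q ≤ P) (hne : Q ≠ P) :
    ∃ R, Q ≤ R ∧ Q ≠ R ∧ R ≤ P ∧ R ≤ Subgroup.normalizer (Q : Set (Perm α)) := by
  haveI := hP.isNilpotent
  have hlt : Q.subgroupOf P < ⊤ := lt_top_iff_ne_top.2 fun h =>
    hne (le_antisymm hQP (Subgroup.subgroupOf_eq_top.1 h))
  have hN := normalizerCondition_of_isNilpotent (G := P) _ hlt
  refine ⟨(Subgroup.normalizer (Q.subgroupOf P : Set P)).map P.subtype, fun q hq =>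
    ⟨⟨q, hQP hq⟩, Subgroup.le_normalizer (show (⟨q, hQP hq⟩ : P) ∈ Q.subgroupOf P from hq), rfl⟩,
    fun h => hN.not_ge fun x hx => ?_, Subgroup.map_subtype_le _, ?_⟩
  · show (x : Perm α) ∈ Q
    rw [h]
    exact ⟨x, hx, rfl⟩
  · rintro _ ⟨x, hx, rfl⟩
    rw [Subgroup.mem_normalizer_iff]
    intro q
    constructor
    · intro hq
      exact (Subgroup.mem_normalizer_iff.1 hx ⟨q, hQP hq⟩).1 hq
    · intro hq
      have hqP : q ∈ P := by
        have := mul_mem (mul_mem (inv_mem x.2) (hQP hq)) x.2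
        simpa [mul_assoc] using this
      exact (Subgroup.mem_normalizer_iff.1 hx ⟨q, hqP⟩).2 hq

theorem exists_allEven.{u} : ∀ {α : Type u} [DecidableEq α] [Fintype α] (G : Subgroup (Perm α))
    {k : ℕ}, 4 ≤ k → k < Fintype.card α → Trans G k →
    ∃ Δ : Finset α, Δ.card = k + 1 ∧ AllEven G Δ := by
  suffices H : ∀ N, ∀ {α : Type u} [DecidableEq α] [Fintype α] (G : Subgroup (Perm α)) {k : ℕ},
      Fintype.card α = N → 4 ≤ k → k < N → Trans G k →
      ∃ Δ : Finset α, Δ.card = k + 1 ∧ AllEven G Δ by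
    intro α _ _ G k hk hkn
    exact H _ G rfl hk hkn
  intro N
  induction N using Nat.strong_induction_on with
  | _ N ih =>
    intro α _ _ G k hcard hk hkn hG
    subst hcard
    classical
    by_cases hS : Semireg G k
    · exact exists_allEven_of_semireg hk hkn hG hS
    simp only [Semireg, not_forall] at hS
    obtain ⟨g, hg, s, hs, hfix, hg1⟩ := hS
    have hne : Nat.card (fixer G s) ≠ 1 := fun h => hg1 (by
      have : g ∈ fixer G s := ⟨hg, hfix⟩
      rwa [Subgroup.card_eq_one.1 h, Subgroup.mem_bot] at this)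
    obtain ⟨p, hp, hpd⟩ := Nat.exists_prime_and_dvd hne
    haveI := Fact.mk hp
    obtain ⟨x, hx⟩ := exists_prime_orderOf_dvd_card' (G := fixer G s) p hpd
    haveI : Finite (Subgroup (Perm α)) := inferInstance
    obtain ⟨Q, hxQ, hQ⟩ := Finite.exists_le_maximal
      (p := fun P : Subgroup (Perm α) => P ≤ G ∧ IsPGroup p P ∧ k < (fixedSet P).card)
      (a := Subgroup.zpowers (x : Perm α))
      ⟨Subgroup.zpowers_le.2 x.2.1,
        IsPGroup.of_card (n := 1) (by rw [Nat.card_zpowers, Subgroup.orderOf_coe, hx, pow_one]),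
        hs.trans_le (Finset.card_le_card (subset_fixedSet
          (Subgroup.zpowers_le.2 x.2 : Subgroup.zpowers (x : Perm α) ≤ fixer G s)))⟩
    obtain ⟨⟨hQG, hQp, hkF⟩, hQmax⟩ := hQ
    have hQne : Q ≠ ⊥ := fun e => by
      have h1 : (x : Perm α) ∈ Q := hxQ (Subgroup.mem_zpowers _)
      rw [e, Subgroup.mem_bot] at h1
      have : orderOf x = 1 := by rw [← Subgroup.orderOf_coe, h1, orderOf_one]
      exact hp.one_lt.ne' (hx.symm.trans this)
    have hlt := card_fixedSet_lt hQne
    have hX : Trans (normOn G Q (fixedSet Q)) k := by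
      by_cases hc : ∃ t : Finset α, t.card = k ∧ t ⊆ fixedSet Q ∧ IsMaxP p Q (fixer G t)
      · obtain ⟨t, ht, htF, hmax⟩ := hc
        exact trans_normOn hG hkF.le fun t' ht' ht'F =>
          hmax.transport hG.homog ht ht' (le_fixer_of_subset hQG ht'F)
      · simp only [not_exists, not_and] at hc
        rw [← trans_iff (by rw [Fintype.card_coe]; omega)]
        refine Cfsg.Agent.S0743.result _ hp (by omega) (by rw [Fintype.card_coe]; exact hkF)
          fun t ht => ?_
        set t' := t.map (Function.Embedding.subtype _) with ht'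
        have ht'F : t' ⊆ fixedSet Q := fun y hy => by
          obtain ⟨z, -, rfl⟩ := Finset.mem_map.1 hy
          exact z.2
        have ht'c : t'.card = k := by rw [ht', Finset.card_map, ht]
        obtain ⟨P, hQP, hP⟩ := IsMaxP.exists_of_le (le_fixer_of_subset hQG ht'F) hQp
        obtain ⟨R, hQR, hQR', hRP, hRN⟩ := exists_normalizing hP.2.1 hQP
          (fun e => hc t' ht'c ht'F (e ▸ hP))
        have hRfix : R ≤ fixer G t' := hRP.trans hP.1
        have hRp : IsPGroup p R := hP.2.1.to_le hRP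
        have hfR : fixedSet R = t' := by
          refine (Finset.eq_of_subset_of_card_le (subset_fixedSet hRfix) ?_).symm
          by_contra h
          exact hQR' (le_antisymm hQR (hQmax ⟨hRfix.trans (fixer_le t'), hRp, by omega⟩ hQR))
        have hRn : ∀ r ∈ R, r ∈ normIn G Q := fun r hr => ⟨(hRfix hr).1, hRN hr⟩
        let X := normOn G Q (fixedSet Q)
        let P' : Subgroup X := (normOn R Q (fixedSet Q)).subgroupOf X
        refine ⟨P', ?_, ?_⟩
        · rintro ⟨⟨π, hπX⟩, hπ⟩
          obtain ⟨r, hr, hr'⟩ := Subgroup.mem_subgroupOf.1 hπ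
          obtain ⟨j, hj⟩ := hRp ⟨r, hr.1⟩
          have hj' : r ^ (p ^ j) = 1 := congrArg Subtype.val hj
          refine ⟨j, Subtype.ext (Subtype.ext ?_)⟩
          show π ^ (p ^ j) = 1
          have : ∀ m : ℕ, ∀ y, ((π ^ m) y : α) = (r ^ m) y := by
            intro m
            induction m with
            | zero => simp
            | succ m ihm =>
              intro y
              rw [pow_succ, pow_succ, Perm.mul_apply, Perm.mul_apply, ihm, hr']
          exact Equiv.ext fun y => Subtype.ext (by rw [this, hj']; rfl)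
        · ext y
          constructor
          · intro hy
            have hyR : (y : α) ∈ fixedSet R := mem_fixedSet.2 fun r hr => by
              obtain ⟨π, hπ, hπ'⟩ := exists_normOn (hRn r hr)
              have hπR : π ∈ normOn R Q (fixedSet Q) := ⟨r, ⟨hr, hRN hr⟩, hπ'⟩
              have := hy ⟨⟨π, hπ⟩, Subgroup.mem_subgroupOf.2 hπR⟩
              rw [← hπ']
              exact congrArg Subtype.val this
            rw [hfR] at hyR
            obtain ⟨z, hz, e⟩ := Finset.mem_map.1 hyR
            exact (Subtype.ext e : z = y) ▸ hz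
          · rintro hy ⟨⟨π, hπX⟩, hπ⟩
            obtain ⟨r, hr, hr'⟩ := Subgroup.mem_subgroupOf.1 hπ
            refine Subtype.ext ?_
            show (π y : α) = y
            rw [hr']
            exact mem_fixedSet.1 (hfR.symm ▸ Finset.mem_map.2 ⟨y, hy, rfl⟩) r hr.1
    obtain ⟨Δ, hΔ, hA⟩ := ih _ hlt (normOn G Q (fixedSet Q)) (Fintype.card_coe _) hk hkF hX
    exact ⟨_, by rw [Finset.card_map, hΔ], hA.of_normOn⟩

end CfsgLib.Homog
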