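import Mathlib
import Cfsg.Agent.Homog.Odd

/-!
No group of degree at least seven is transitive on five-element sets and induces exactly the
alternating group on each of them.
-/

namespace CfsgLib.Homog

open Equiv

theorem exists_common_fixed {X : Type*} [Finite X] (hX : Odd (Nat.card X)) (f g : Perm X)
    (hf : f * f = 1) (hg : g * g = 1) (hfg : f * g = g * f) : ∃ x, f x = x ∧ g x = x := by
  classical
  haveI := Fintype.ofFinite X
  haveI : Fact (Nat.Prime 2) := ⟨Nat.prime_two⟩
  rw [Nat.card_eq_fintype_card] at hX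
  have h1 := Perm.card_compl_support_modEq (p := 2) (n := 1) (σ := f) (by rw [pow_one, pow_two, hf])
  have hfix : ∀ x, f (g x) = g x ↔ f x = x := fun x => by
    rw [← Perm.mul_apply, hfg, Perm.mul_apply, g.injective.eq_iff]
  let g' : Perm {x // f x = x} := g.subtypePerm hfix
  have hg' : g' * g' = 1 := Equiv.ext fun x => Subtype.ext (by
    show g (g x) = x
    rw [← Perm.mul_apply, hg, Perm.one_apply])
  have h2 := Perm.card_compl_support_modEq (p := 2) (n := 1) (σ := g')
    (by rw [pow_one, pow_two, hg'])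
  have hc : Fintype.card {x // f x = x} = f.supportᶜ.card :=
    Fintype.card_of_subtype _ fun x => by simp
  rw [Nat.odd_iff] at hX
  rw [Nat.ModEq] at h1 h2
  obtain ⟨x, hx⟩ := Finset.card_pos.1 (show 0 < g'.supportᶜ.card by omega)
  rw [Finset.mem_compl, Perm.notMem_support] at hx
  exact ⟨x, x.2, congrArg Subtype.val hx⟩

variable {α : Type*} [DecidableEq α] [Fintype α] {G : Subgroup (Perm α)}

/-- The facts about pointwise stabilisers of three points. -/
theorem five_setting (h7 : 7 ≤ Fintype.card α) (hh : Homog G 5)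
    (hA : ∀ s : Finset α, s.card = 5 → AllEven G s) (hN : ∀ s : Finset α, s.card = 5 → NoOdd G s) :
    Trans G 4 ∧ (∀ Γ : Finset α, Γ.card = 3 → Odd (Nat.card (fixer G Γ))) ∧
      Fintype.card α % 4 = 2 ∧ ∀ r : ℕ, r ∣ (Fintype.card α - 4) / 2 →
        ∀ s : Finset α, s.card = 4 → r ∣ Nat.card (fixer G s) := by
  classical
  open scoped Pointwise in
  have h3 : Trans G 3 := trans_of_allEven (by omega) hh hA (by norm_num)
  have hodd : ∀ Γ : Finset α, Γ.card = 3 → Odd (Nat.card (fixer G Γ)) := by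
    intro Γ hΓ
    refine odd_card_of_no_invol fun g hg hg2 => ?_
    by_contra h1
    obtain ⟨p, hp⟩ : ∃ p, g p ≠ p := by
      by_contra h
      simp only [not_exists, not_not] at h
      exact h1 (Equiv.ext h)
    have hgg : g (g p) = p := by rw [← Perm.mul_apply, hg2, Perm.one_apply]
    have hpΓ : p ∉ Γ := fun h => hp (hg.2 p h)
    have hgpΓ : g p ∉ Γ := fun h => hp (g.injective (hg.2 _ h))
    have := hN (Γ ∪ {p, g p}) (by
      rw [Finset.card_union_of_disjoint (by simp [hpΓ, hgpΓ]), Finset.card_pair (Ne.symm hp), hΓ])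
      (swap p (g p)) (suppIn_swap (by simp) (by simp)) ⟨g, hg.1, fun x hx => by
        simp only [Finset.mem_union, Finset.mem_insert, Finset.mem_singleton] at hx
        rcases hx with hx | rfl | rfl
        · rw [hg.2 x hx, swap_apply_of_ne_of_ne (ne_of_mem_of_not_mem hx hpΓ)
            (ne_of_mem_of_not_mem hx hgpΓ)]
        · rw [swap_apply_left]
        · rw [swap_apply_right, hgg]⟩
    rw [Perm.sign_swap (Ne.symm hp)] at this
    exact absurd this (by decide)
  have hpair : ∀ Γ P P' : Finset α, Γ.card = 3 → P.card = 2 → P'.card = 2 → Disjoint Γ P →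
      Disjoint Γ P' → ∃ g ∈ fixer G Γ, P.image g = P' := by
    intro Γ P P' hΓ hP hP' hd hd'
    obtain ⟨g, hg, him, hfix⟩ := exists_map_of_allEven hh hA (t := Γ) (t' := Γ ∪ P) (s' := Γ ∪ P')
      Finset.subset_union_left (by omega) (by rw [Finset.card_union_of_disjoint hd, hΓ, hP])
      (by rw [Finset.card_union_of_disjoint hd', hΓ, hP']) (f := id)
      (fun x hx => Finset.mem_union_left _ hx) Function.injective_id.injOn
    refine ⟨g, ⟨hg, hfix⟩, Finset.eq_of_subset_of_card_le (fun y hy => ?_)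
      (by rw [Finset.card_image_of_injective _ g.injective, hP, hP'])⟩
    obtain ⟨x, hx, rfl⟩ := Finset.mem_image.1 hy
    have : g x ∈ Γ ∪ P' := him ▸ Finset.mem_image_of_mem g (Finset.mem_union_right _ hx)
    refine (Finset.mem_union.1 this).resolve_left fun h => ?_
    have e : g (g x) = g x := hfix _ h
    exact Finset.disjoint_left.1 hd (g.injective e ▸ h) hx
  have htr : ∀ Γ : Finset α, Γ.card = 3 → ∀ x ∉ Γ, ∀ y ∉ Γ, ∃ g ∈ fixer G Γ, g x = y := by
    intro Γ hΓ x hx y hy
    rcases eq_or_ne x y with rfl | hxy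
    · exact ⟨1, one_mem _, rfl⟩
    obtain ⟨r, hr⟩ := Finset.card_pos.1 (show 0 < (Γ ∪ {x, y})ᶜ.card by
      rw [Finset.card_compl]
      have := Finset.card_union_le Γ {x, y}
      rw [Finset.card_pair hxy] at this
      omega)
    simp only [Finset.mem_compl, Finset.mem_union, Finset.mem_insert, Finset.mem_singleton,
      not_or] at hr
    obtain ⟨hrΓ, hrx, hry⟩ := hr
    obtain ⟨g, hg, he⟩ := hpair Γ {x, r} {y, r} hΓ (Finset.card_pair (Ne.symm hrx))
      (Finset.card_pair (Ne.symm hry)) (by simp [hx, hrΓ]) (by simp [hy, hrΓ])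
    have h1 : g x ∈ ({y, r} : Finset α) := he ▸ Finset.mem_image_of_mem g (by simp)
    have h2 : g r ∈ ({y, r} : Finset α) := he ▸ Finset.mem_image_of_mem g (by simp)
    simp only [Finset.mem_insert, Finset.mem_singleton] at h1 h2
    rcases h1 with h1 | h1
    · exact ⟨g, hg, h1⟩
    · rcases h2 with h2 | h2
      · exact ⟨g * g, mul_mem hg hg, by rw [Perm.mul_apply, h1, h2]⟩
      · exact absurd (g.injective (h1.trans h2.symm)) (Ne.symm hrx)
  obtain ⟨Γ₀, -, hΓ₀⟩ := Finset.exists_subset_card_eq (s := (Finset.univ : Finset α)) (n := 3)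
    (by simp only [Finset.card_univ]; omega)
  have h4 : Trans G 4 := h3.succ (by omega) hΓ₀ (htr Γ₀ hΓ₀)
  -- counting
  obtain ⟨P, hPsub, hP⟩ := Finset.exists_subset_card_eq (s := Γ₀ᶜ) (n := 2) (by
    rw [Finset.card_compl]; omega)
  have hd : Disjoint Γ₀ P := Finset.disjoint_left.2 fun x hx hx' =>
    Finset.mem_compl.1 (hPsub hx') hx
  obtain ⟨d, e, hde, hPde⟩ := Finset.card_eq_two.1 hP
  have hdΓ : d ∉ Γ₀ := fun h => Finset.disjoint_left.1 hd h (by simp [hPde])
  have hcnt1 := card_fixer_insert (G := G) hdΓ (htr Γ₀ hΓ₀ d hdΓ)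
  rw [hΓ₀] at hcnt1
  have hcnt2 : Nat.card (fixer G Γ₀) =
      (Fintype.card α - 3).choose 2 * Nat.card (fixer G (Γ₀ ∪ P)) := by
    open scoped Pointwise in
    have h1 := Subgroup.card_mul_index (MulAction.stabilizer (fixer G Γ₀) P)
    open scoped Pointwise in
    rw [MulAction.index_stabilizer] at h1
    open scoped Pointwise in
    have h2 : MulAction.orbit (fixer G Γ₀) P = (↑(Γ₀ᶜ.powersetCard 2) : Set (Finset α)) := by
      ext Q
      rw [MulAction.mem_orbit_iff, Finset.mem_coe, Finset.mem_powersetCard]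
      constructor
      · rintro ⟨g, rfl⟩
        refine ⟨fun y hy => ?_, by rw [Finset.card_smul_finset, hP]⟩
        obtain ⟨x, hx, rfl⟩ := Finset.mem_smul_finset.1 hy
        rw [Finset.mem_compl]
        intro hmem
        have e : (g : Perm α) ((g : Perm α) x) = (g : Perm α) x := g.2.2 _ hmem
        have : (g : Perm α) x ∈ Γ₀ := hmem
        rw [(g : Perm α).injective e] at this
        exact Finset.disjoint_left.1 hd this hx
      · rintro ⟨hsub, hcard⟩
        obtain ⟨g, hg, he⟩ := hpair Γ₀ P Q hΓ₀ hP hcard hd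
          (Finset.disjoint_left.2 fun x hx hx' => Finset.mem_compl.1 (hsub hx') hx)
        exact ⟨⟨g, hg⟩, he⟩
    open scoped Pointwise in
    have h3' : Nat.card (MulAction.stabilizer (fixer G Γ₀) P) =
        Nat.card (fixer G (Γ₀ ∪ P)) := by
      have hmem : ∀ g : fixer G Γ₀, g ∈ MulAction.stabilizer (fixer G Γ₀) P ↔
          (g : Perm α) ∈ fixer G (Γ₀ ∪ P) := by
        intro g
        rw [MulAction.mem_stabilizer_iff]
        constructor
        · intro hg
          refine ⟨g.2.1, fun x hx => (Finset.mem_union.1 hx).elim (g.2.2 x) fun hx => ?_⟩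
          have hPim : ∀ y ∈ P, (g : Perm α) y ∈ P := fun y hy => by
            have : g • y ∈ g • P := Finset.smul_mem_smul_finset hy
            rwa [hg] at this
          refine fix_of_sq_fix (odd_orderOf (hodd Γ₀ hΓ₀) g.2) ?_
          by_contra hne
          have h2le := Finset.card_le_card (show ({x, (g : Perm α) x, (g : Perm α) ((g : Perm α) x)} :
              Finset α) ⊆ P from by
            intro y hy
            simp only [Finset.mem_insert, Finset.mem_singleton] at hy
            rcases hy with rfl | rfl | rfl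
            · exact hx
            · exact hPim x hx
            · exact hPim _ (hPim x hx))
          have hne1 : (g : Perm α) x ≠ x := fun e => hne (by rw [e, e])
          rw [Finset.card_eq_three.2 ⟨_, _, _, Ne.symm hne1, Ne.symm hne,
            fun e => hne1 ((g : Perm α).injective e).symm, rfl⟩, hP] at h2le
          omega
        · intro hg
          refine Finset.eq_of_subset_of_card_le (fun y hy => ?_) (Finset.card_smul_finset g P).ge
          obtain ⟨x, hx, rfl⟩ := Finset.mem_smul_finset.1 hy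
          show (g : Perm α) x ∈ P
          rw [hg.2 x (Finset.mem_union_right _ hx)]
          exact hx
      exact Nat.card_congr
        { toFun := fun g => ⟨(g : fixer G Γ₀), (hmem g).1 g.2⟩
          invFun := fun g => ⟨⟨g, fixer_mono Finset.subset_union_left g.2⟩,
            (hmem ⟨g, fixer_mono Finset.subset_union_left g.2⟩).2 g.2⟩
          left_inv := fun _ => rfl
          right_inv := fun _ => rfl }
    rw [h2, Set.ncard_coe_finset, Finset.card_powersetCard, Finset.card_compl, hΓ₀, h3'] at h1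
    rw [← h1, mul_comm]
  have ho := hodd Γ₀ hΓ₀
  obtain ⟨m, hm⟩ : ∃ m, Fintype.card α = m + 4 := ⟨_, (Nat.sub_add_cancel (by omega)).symm⟩
  rw [hm, show m + 4 - 3 = m + 1 by omega] at hcnt1 hcnt2
  have hm1 : Odd (m + 1) := by rw [hcnt1] at ho; exact (Nat.odd_mul.1 ho).1
  have hm2 : Odd ((m + 1).choose 2) := by rw [hcnt2] at ho; exact (Nat.odd_mul.1 ho).1
  rw [Nat.choose_two_right, Nat.add_sub_cancel] at hcnt2 hm2
  obtain ⟨h, rfl⟩ : ∃ h, m = 2 * h := by
    rw [Nat.odd_iff] at hm1
    exact ⟨m / 2, by omega⟩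
  rw [show (2 * h + 1) * (2 * h) / 2 = (2 * h + 1) * h by
    rw [show (2 * h + 1) * (2 * h) = (2 * h + 1) * h * 2 by ring]
    exact Nat.mul_div_cancel _ two_pos] at hcnt2 hm2
  have hh' : Odd h := (Nat.odd_mul.1 hm2).2
  rw [Nat.odd_iff] at hh'
  refine ⟨h4, hodd, by omega, fun r hr s hs => ?_⟩
  have hK : Nat.card (fixer G (insert d Γ₀)) = h * Nat.card (fixer G (Γ₀ ∪ P)) := by
    rw [hcnt1, mul_assoc] at hcnt2
    exact Nat.eq_of_mul_eq_mul_left (by omega) hcnt2
  rw [hm, show (2 * h + 4 - 4) / 2 = h by omega] at hr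
  rw [card_fixer_eq h4.homog hs
    (show (insert d Γ₀).card = 4 by rw [Finset.card_insert_of_notMem hdΓ, hΓ₀]), hK]
  exact dvd_mul_of_dvd_left hr _

/-- An involution acting as a double transposition on four points fixes a further point. -/
theorem exists_fixed_double (h4 : Trans G 4) (h7 : 7 ≤ Fintype.card α)
    (hn : Fintype.card α % 4 = 2)
    (hodd : ∀ Γ : Finset α, Γ.card = 3 → Odd (Nat.card (fixer G Γ))) {a b c d : α}
    (hab : a ≠ b) (hac : a ≠ c) (had : a ≠ d) (hbc : b ≠ c) (hbd : b ≠ d) (hcd : c ≠ d) :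
    (∃ v ∈ G, v * v = 1 ∧ v a = c ∧ v b = d) ∧
    ∀ v ∈ G, v * v = 1 → v a = c → v b = d →
      ∃ z, z ∉ ({a, b, c, d} : Finset α) ∧ v z = z := by
  classical
  have hsub : ({a, b, c} : Finset α) ⊆ {a, b, c, d} := by
    intro x hx
    simp only [Finset.mem_insert, Finset.mem_singleton] at hx ⊢
    tauto
  have hodd4 : ∀ k ∈ fixer G {a, b, c, d}, Odd (orderOf k) := fun k hk =>
    odd_orderOf (hodd {a, b, c} (Finset.card_eq_three.2 ⟨a, b, c, hab, hac, hbc, rfl⟩))
      (fixer_mono hsub hk)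
  obtain ⟨g, hg, hg'⟩ := h4 (swap a b * swap b c * swap c d) {a, b, c, d} Finset.card_le_four
  have ga : g a = b := by
    rw [hg' a (by simp), Perm.mul_apply, Perm.mul_apply, swap_apply_of_ne_of_ne hac had,
      swap_apply_of_ne_of_ne hab hac, swap_apply_left]
  have gb : g b = c := by
    rw [hg' b (by simp), Perm.mul_apply, Perm.mul_apply, swap_apply_of_ne_of_ne hbc hbd,
      swap_apply_left, swap_apply_of_ne_of_ne (Ne.symm hac) (Ne.symm hbc)]
  have gc : g c = d := by
    rw [hg' c (by simp), Perm.mul_apply, Perm.mul_apply, swap_apply_left,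
      swap_apply_of_ne_of_ne (Ne.symm hbd) (Ne.symm hcd),
      swap_apply_of_ne_of_ne (Ne.symm had) (Ne.symm hbd)]
  have gd : g d = a := by
    rw [hg' d (by simp), Perm.mul_apply, Perm.mul_apply, swap_apply_right, swap_apply_right,
      swap_apply_right]
  have h4g : g ^ 4 ∈ fixer G {a, b, c, d} := ⟨G.pow_mem hg 4, fun x hx => by
    simp only [Finset.mem_insert, Finset.mem_singleton] at hx
    show (g ^ (3 + 1)) x = x
    rcases hx with rfl | rfl | rfl | rfl <;>
      simp [pow_succ, ga, gb, gc, gd]⟩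
  obtain ⟨i, hi⟩ := hodd4 _ h4g
  set q := g ^ (2 * i + 1) with hq
  have hq4 : q ^ 4 = 1 := by
    rw [hq, ← pow_mul, mul_comm, pow_mul, ← hi, pow_orderOf_eq_one]
  have hv : q * q = (g ^ 4) ^ i * (g * g) := by
    rw [hq, ← pow_mul, ← pow_two g, ← pow_add, ← pow_add]
    congr 1; omega
  have hva : (q * q) a = c := by
    rw [hv, Perm.mul_apply, Perm.mul_apply, ga, gb, (mem_fixer_pow h4g i).2 c (by simp)]
  have hvb : (q * q) b = d := by
    rw [hv, Perm.mul_apply, Perm.mul_apply, gb, gc, (mem_fixer_pow h4g i).2 d (by simp)]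
  have hv2 : (q * q) * (q * q) = 1 := by
    rw [← pow_two q, ← pow_two, ← pow_mul]; exact hq4
  have hvG : q * q ∈ G := G.mul_mem (G.pow_mem hg _) (G.pow_mem hg _)
  -- the fixed point of the square
  have hfix : ∃ z, (q * q) z = z := by
    by_contra hne
    simp only [not_exists] at hne
    have hsupp : q.support = Finset.univ := Finset.eq_univ_of_forall fun x => by
      rw [Perm.mem_support]
      exact fun e => hne x (by rw [Perm.mul_apply, e, e])
    have hall : ∀ m ∈ q.cycleType, m = 4 := by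
      intro m hm
      have h1 : m ∣ 4 := (Perm.dvd_of_mem_cycleType hm).trans (orderOf_dvd_of_pow_eq_one hq4)
      have h2 := Perm.two_le_of_mem_cycleType hm
      have h3 := Nat.le_of_dvd (by norm_num) h1
      obtain ⟨σ, τ, hστ, hdisj, hσ, hcard⟩ := Perm.mem_cycleType_iff.1 hm
      interval_cases m
      · exfalso
        obtain ⟨x, hx⟩ := Finset.card_pos.1 (show 0 < σ.support.card by omega)
        have e1 : ∀ y ∈ σ.support, q y = σ y := fun y hy => by
          rw [hστ, Perm.mul_apply, (hdisj y).resolve_left (Perm.mem_support.1 hy)]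
        apply hne x
        rw [Perm.mul_apply, e1 x hx, e1 _ (Perm.apply_mem_support.2 hx), ← Perm.mul_apply]
        have : σ ^ orderOf σ = 1 := pow_orderOf_eq_one σ
        rw [hσ.orderOf, hcard, pow_two] at this
        rw [this, Perm.one_apply]
      · norm_num at h1
      · rfl
    have hsum := Perm.sum_cycleType q
    rw [hsupp, Finset.card_univ, Multiset.eq_replicate_card.2 hall, Multiset.sum_replicate,
      smul_eq_mul] at hsum
    omega
  refine ⟨⟨_, hvG, hv2, hva, hvb⟩, fun v hvG' hvv ha hb => ?_⟩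
  have hc' : v c = a := by rw [← ha, ← Perm.mul_apply, hvv, Perm.one_apply]
  have hd' : v d = b := by rw [← hb, ← Perm.mul_apply, hvv, Perm.one_apply]
  have hvc : (q * q) c = a := by rw [← hva, ← Perm.mul_apply, hv2, Perm.one_apply]
  have hvd : (q * q) d = b := by rw [← hvb, ← Perm.mul_apply, hv2, Perm.one_apply]
  have huv : q * q * v ∈ fixer G {a, b, c, d} := ⟨G.mul_mem hvG hvG', fun x hx => by
    simp only [Finset.mem_insert, Finset.mem_singleton] at hx
    rcases hx with rfl | rfl | rfl | rfl <;>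
      simp [Perm.mul_apply v, Perm.mul_apply (q * q), ha, hb, hc', hd', hva, hvb, hvc, hvd,
        -Perm.coe_mul]⟩
  obtain ⟨j, hj⟩ := exists_conj_of_odd hv2 hvv (hodd4 _ huv)
  have hk := mem_fixer_pow huv j
  obtain ⟨z, hz⟩ := hfix
  refine ⟨((q * q * v) ^ j) z, fun hmem => ?_, ?_⟩
  · have hzm : z ∈ ({a, b, c, d} : Finset α) := by
      have e := hk.2 _ hmem
      rwa [((q * q * v) ^ j).injective e] at hmem
    simp only [Finset.mem_insert, Finset.mem_singleton] at hzm
    rcases hzm with rfl | rfl | rfl | rfl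
    · exact hac (hz.symm.trans hva)
    · exact hbd (hz.symm.trans hvb)
    · exact hac (hvc.symm.trans hz)
    · exact hbd (hvd.symm.trans hz)
  · have e := congrArg (fun p : Perm α => p (((q * q * v) ^ j) z)) hj
    rw [Perm.mul_apply, Perm.mul_apply ((q * q * v) ^ j), inv_apply_self, hz] at e
    exact e.symm

/-- A prime dividing `(n-4)/2` divides the stabiliser of five points. -/
theorem five_prime_dvd (h7 : 7 ≤ Fintype.card α) (hh : Homog G 5)
    (hA : ∀ s : Finset α, s.card = 5 → AllEven G s) (hN : ∀ s : Finset α, s.card = 5 → NoOdd G s)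
    {r : ℕ} [Fact r.Prime] (hr : r ∣ (Fintype.card α - 4) / 2) {Δ : Finset α} (hΔ : Δ.card = 5) :
    r ∣ Nat.card (fixer G Δ) := by
  classical
  obtain ⟨h4, hodd, hn, hrK⟩ := five_setting h7 hh hA hN
  obtain ⟨S, -, hS⟩ := Finset.exists_subset_card_eq (s := (Finset.univ : Finset α)) (n := 4)
    (by simp only [Finset.card_univ]; omega)
  obtain ⟨a, b, c, d, hab, hac, had, hbc, hbd, hcd, rfl⟩ := Finset.card_eq_four.1 hS
  set T : Finset α := {a, b, c, d} with hT
  set K := fixer G T with hK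
  have hKodd : Odd (Nat.card K) := by
    refine odd_card_of_no_invol fun g hg hg2 => ?_
    have hsub : ({a, b, c} : Finset α) ⊆ T := by
      intro x hx
      simp only [hT, Finset.mem_insert, Finset.mem_singleton] at hx ⊢
      tauto
    have := odd_orderOf (hodd {a, b, c} (Finset.card_eq_three.2 ⟨a, b, c, hab, hac, hbc, rfl⟩))
      (fixer_mono hsub hg)
    have h2 := orderOf_dvd_of_pow_eq_one (n := 2) (x := g) (by rw [pow_two, hg2])
    rcases (Nat.dvd_prime Nat.prime_two).1 h2 with h | h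
    · exact orderOf_eq_one_iff.1 h
    · rw [h] at this; exact absurd this (by decide)
  -- two commuting involutions
  obtain ⟨⟨v₁, hv₁G, hv₁2, h1a, h1b⟩, hfix₁⟩ :=
    exists_fixed_double h4 h7 hn hodd hab hac had hbc hbd hcd
  obtain ⟨⟨u, huG, hu2, hua, huc⟩, hfix₂⟩ :=
    exists_fixed_double h4 h7 hn hodd hac hab had (Ne.symm hbc) hcd hbd
  obtain ⟨-, hfix₃⟩ :=
    exists_fixed_double h4 h7 hn hodd hab had hac hbd hbc (Ne.symm hcd)
  have h1c : v₁ c = a := by rw [← h1a, ← Perm.mul_apply, hv₁2, Perm.one_apply]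
  have h1d : v₁ d = b := by rw [← h1b, ← Perm.mul_apply, hv₁2, Perm.one_apply]
  have hub : u b = a := by rw [← hua, ← Perm.mul_apply, hu2, Perm.one_apply]
  have hud : u d = c := by rw [← huc, ← Perm.mul_apply, hu2, Perm.one_apply]
  have hsqK : (v₁ * u) * (v₁ * u) ∈ K := by
    refine ⟨G.mul_mem (G.mul_mem hv₁G huG) (G.mul_mem hv₁G huG), fun x hx => ?_⟩
    simp only [hT, Finset.mem_insert, Finset.mem_singleton] at hx
    rcases hx with rfl | rfl | rfl | rfl <;>
      simp [Perm.mul_apply, h1a, h1b, h1c, h1d, hua, hub, huc, hud]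
  obtain ⟨i, hw2, hwc⟩ := exists_central hv₁2 hu2 (odd_orderOf hKodd hsqK)
  set w := ((v₁ * u) * (v₁ * u)) ^ i * (v₁ * u) with hw
  have hwG : w ∈ G := G.mul_mem (G.pow_mem hsqK.1 i) (G.mul_mem hv₁G huG)
  have hki := mem_fixer_pow hsqK i
  have hwa : w a = d := by
    rw [hw, Perm.mul_apply, Perm.mul_apply, hua, h1b]; exact hki.2 d (by simp [hT])
  have hwb : w b = c := by
    rw [hw, Perm.mul_apply, Perm.mul_apply, hub, h1a]; exact hki.2 c (by simp [hT])
  have hwc' : w c = b := by rw [← hwb, ← Perm.mul_apply, hw2, Perm.one_apply]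
  have hwd : w d = a := by rw [← hwa, ← Perm.mul_apply, hw2, Perm.one_apply]
  clear_value w
  obtain ⟨v₂, hv₂⟩ : ∃ v₂, v₂ = v₁ * w := ⟨_, rfl⟩
  have hv₂2 : v₂ * v₂ = 1 := by
    calc v₂ * v₂ = v₁ * (w * v₁) * w := by simp only [hv₂, mul_assoc]
      _ = v₁ * (v₁ * w) * w := by rw [hwc.eq]
      _ = 1 := by rw [← mul_assoc, hv₁2, one_mul, hw2]
  have hv₂G : v₂ ∈ G := by rw [hv₂]; exact G.mul_mem hv₁G hwG
  have h2a : v₂ a = b := by rw [hv₂, Perm.mul_apply, hwa, h1d]
  have h2c : v₂ c = d := by rw [hv₂, Perm.mul_apply, hwc', h1b]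
  have hT2 : ({a, c, b, d} : Finset α) = T := by
    ext x; simp only [hT, Finset.mem_insert, Finset.mem_singleton]; tauto
  have hT3 : ({a, b, d, c} : Finset α) = T := by
    ext x; simp only [hT, Finset.mem_insert, Finset.mem_singleton]; tauto
  -- each of the three fixes a point outside `T`
  have hz : ∀ v, v = v₁ ∨ v = v₂ ∨ v = w → v ∈ G ∧ v * v = 1 ∧ T.image v = T ∧
      ∃ z, z ∉ T ∧ v z = z ∧ (∀ x ∈ T, v x ≠ x) := by
    intro v hv
    have himg : ∀ v : Perm α, (∀ x ∈ T, v x ∈ T) → T.image v = T := fun v hv =>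
      Finset.eq_of_subset_of_card_le (fun y hy => by
        obtain ⟨x, hx, rfl⟩ := Finset.mem_image.1 hy
        exact hv x hx) (by rw [Finset.card_image_of_injective _ v.injective])
    rcases hv with hv | hv | hv <;> rw [hv]
    · obtain ⟨z, hz1, hz2⟩ := hfix₁ v₁ hv₁G hv₁2 h1a h1b
      refine ⟨hv₁G, hv₁2, himg _ ?_, z, hz1, hz2, ?_⟩ <;>
      · intro x hx
        simp only [hT, Finset.mem_insert, Finset.mem_singleton] at hx ⊢
        rcases hx with rfl | rfl | rfl | rfl <;>
          simp [h1a, h1b, h1c, h1d, hac, hbd, Ne.symm hac, Ne.symm hbd]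
    · obtain ⟨z, hz1, hz2⟩ := hfix₂ v₂ hv₂G hv₂2 h2a h2c
      rw [hT2] at hz1
      have h2b : v₂ b = a := by rw [← h2a, ← Perm.mul_apply, hv₂2, Perm.one_apply]
      have h2d : v₂ d = c := by rw [← h2c, ← Perm.mul_apply, hv₂2, Perm.one_apply]
      refine ⟨hv₂G, hv₂2, himg _ ?_, z, hz1, hz2, ?_⟩ <;>
      · intro x hx
        simp only [hT, Finset.mem_insert, Finset.mem_singleton] at hx ⊢
        rcases hx with rfl | rfl | rfl | rfl <;>
          simp [h2a, h2b, h2c, h2d, hab, hcd, Ne.symm hab, Ne.symm hcd]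
    · obtain ⟨z, hz1, hz2⟩ := hfix₃ w hwG hw2 hwa hwb
      rw [hT3] at hz1
      refine ⟨hwG, hw2, himg _ ?_, z, hz1, hz2, ?_⟩ <;>
      · intro x hx
        simp only [hT, Finset.mem_insert, Finset.mem_singleton] at hx ⊢
        rcases hx with rfl | rfl | rfl | rfl <;>
          simp [hwa, hwb, hwc', hwd, had, hbc, Ne.symm had, Ne.symm hbc]
  -- conjugation automorphisms of `K`
  have hconjK : ∀ v, v = v₁ ∨ v = v₂ ∨ v = w → ∀ k ∈ K, v * k * v ∈ K := by
    intro v hv k hk
    obtain ⟨hvG, hv2, himg, -⟩ := hz v hv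
    have h := fixer_map_conj hvG T
    rw [himg] at h
    have : MulAut.conj v k ∈ K := h.le ⟨k, hk, rfl⟩
    rwa [MulAut.conj_apply, inv_eq_of_mul_eq_one_right hv2] at this
  let φ : ∀ v, (v = v₁ ∨ v = v₂ ∨ v = w) → MulAut K := fun v hv =>
    { toFun := fun k => ⟨v * k * v, hconjK v hv k k.2⟩
      invFun := fun k => ⟨v * k * v, hconjK v hv k k.2⟩
      left_inv := fun k => Subtype.ext (by
        show v * (v * (k : Perm α) * v) * v = k
        rw [← mul_assoc, ← mul_assoc, (hz v hv).2.1, one_mul, mul_assoc, (hz v hv).2.1, mul_one])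
      right_inv := fun k => Subtype.ext (by
        show v * (v * (k : Perm α) * v) * v = k
        rw [← mul_assoc, ← mul_assoc, (hz v hv).2.1, one_mul, mul_assoc, (hz v hv).2.1, mul_one])
      map_mul' := fun k l => Subtype.ext (by
        show v * ((k : Perm α) * l) * v = (v * k * v) * (v * l * v)
        calc v * ((k : Perm α) * l) * v = v * k * 1 * l * v := by group
          _ = _ := by rw [← (hz v hv).2.1]; simp only [mul_assoc]) }
  set φ₁ := φ v₁ (Or.inl rfl) with hφ₁
  set φ₂ := φ v₂ (Or.inr (Or.inl rfl)) with hφ₂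
  set φ₃ := φ w (Or.inr (Or.inr rfl)) with hφ₃
  have hA1 : ∀ k : K, ((φ₁ k : K) : Perm α) = v₁ * k * v₁ := fun _ => rfl
  have hA2 : ∀ k : K, ((φ₂ k : K) : Perm α) = v₂ * k * v₂ := fun _ => rfl
  have hA3 : ∀ k : K, ((φ₃ k : K) : Perm α) = w * k * w := fun _ => rfl
  have h11 : φ₁ * φ₁ = 1 := MulEquiv.ext fun k => φ₁.left_inv k
  have h22 : φ₂ * φ₂ = 1 := MulEquiv.ext fun k => φ₂.left_inv k
  have hc12 : v₁ * v₂ = v₂ * v₁ := by
    rw [hv₂, mul_assoc, hwc.eq]
  have h123 : ∀ k : K, φ₁ (φ₂ k) = φ₃ k := fun k => Subtype.ext (by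
    rw [hA1, hA2, hA3, hv₂,
      show v₁ * (v₁ * w * (k : Perm α) * (v₁ * w)) * v₁ =
        (v₁ * v₁) * w * k * (v₁ * (w * v₁)) by simp only [mul_assoc],
      hwc.eq, ← mul_assoc v₁ v₁ w, hv₁2, one_mul])
  have hcφ : φ₁ * φ₂ = φ₂ * φ₁ := MulEquiv.ext fun k => Subtype.ext (by
    rw [MulAut.mul_apply, MulAut.mul_apply, hA1, hA2, hA2, hA1,
      show v₁ * (v₂ * (k : Perm α) * v₂) * v₁ = (v₁ * v₂) * k * (v₂ * v₁) by simp only [mul_assoc],
      show v₂ * (v₁ * (k : Perm α) * v₁) * v₂ = (v₂ * v₁) * k * (v₁ * v₂) by simp only [mul_assoc],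
      hc12])
  open scoped Pointwise in
  obtain ⟨P, hP₁, hP₂⟩ := exists_common_fixed (X := Sylow r K)
    (hKodd.of_dvd_nat ((default : Sylow r K).card_dvd_index.trans (Subgroup.index_dvd_card _)))
    (MulAction.toPermHom (MulAut K) (Sylow r K) φ₁) (MulAction.toPermHom (MulAut K) (Sylow r K) φ₂)
    (by rw [← map_mul, h11, map_one]) (by rw [← map_mul, h22, map_one])
    (by rw [← map_mul, ← map_mul, hcφ])
  open scoped Pointwise in
  have hinvP : ∀ φ' : MulAut K, φ' • P = P → ∀ k ∈ (P : Subgroup K), φ' k ∈ (P : Subgroup K) := by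
    intro φ' hφ' k hk
    have : φ' • k ∈ φ' • (P : Subgroup K) := Subgroup.smul_mem_pointwise_smul k φ' _ hk
    have e : φ' • (P : Subgroup K) = P := congrArg Sylow.toSubgroup hφ'
    rw [e] at this
    exact this
  have hP1' := hinvP φ₁ hP₁
  have hP2' := hinvP φ₂ hP₂
  have hP3' : ∀ k ∈ (P : Subgroup K), φ₃ k ∈ (P : Subgroup K) := fun k hk => by
    rw [← h123]; exact hP1' _ (hP2' k hk)
  -- a fixed element
  obtain ⟨v, hv, y, hyP, hy1, hyv⟩ : ∃ v, (v = v₁ ∨ v = v₂ ∨ v = w) ∧ ∃ y : K,
      y ∈ (P : Subgroup K) ∧ y ≠ 1 ∧ Commute v (y : Perm α) := by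
    by_contra hno
    simp only [not_exists, not_and] at hno
    have hinv : ∀ v (hv : v = v₁ ∨ v = v₂ ∨ v = w),
        (∀ k ∈ (P : Subgroup K), φ v hv k ∈ (P : Subgroup K)) →
        ∀ k ∈ (P : Subgroup K), φ v hv k = k⁻¹ := by
      intro v hv hmem k hk
      let f : ↥(P : Subgroup K) → ↥(P : Subgroup K) := fun x =>
        ⟨(x : K)⁻¹ * φ v hv x, mul_mem (inv_mem x.2) (hmem x x.2)⟩
      have hfinj : Function.Injective f := by
        intro x x' hxx
        have h := congrArg Subtype.val hxx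
        change (x : K)⁻¹ * φ v hv x = (x' : K)⁻¹ * φ v hv x' at h
        have h' : φ v hv ((x : K) * (x' : K)⁻¹) = (x : K) * (x' : K)⁻¹ := by
          rw [map_mul, map_inv, mul_inv_eq_iff_eq_mul, mul_assoc, ← h]
          group
        apply Subtype.ext
        by_contra hne
        refine hno v hv _ (mul_mem x.2 (inv_mem x'.2)) (fun e => hne (mul_inv_eq_one.1 e)) ?_
        have h'' : v * (((x : K) * (x' : K)⁻¹ : K) : Perm α) * v =
            (((x : K) * (x' : K)⁻¹ : K) : Perm α) := congrArg Subtype.val h'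
        calc v * (((x : K) * (x' : K)⁻¹ : K) : Perm α)
            = v * (((x : K) * (x' : K)⁻¹ : K) : Perm α) * v * v := by
              rw [mul_assoc _ v v, (hz v hv).2.1, mul_one]
          _ = _ := by rw [h'']
      obtain ⟨x, hx⟩ := (Finite.injective_iff_surjective.1 hfinj) ⟨k, hk⟩
      have hk' : (x : K)⁻¹ * φ v hv x = k := congrArg Subtype.val hx
      have hφφ : φ v hv (φ v hv x) = x := (φ v hv).left_inv x
      rw [← hk', map_mul, map_inv, hφφ]
      group
    have hne := P.ne_bot_of_dvd_card (hrK r hr T hS)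
    obtain ⟨k, hk, hk1⟩ := (Subgroup.ne_bot_iff_exists_ne_one.1 hne : ∃ k : (P : Subgroup K), k ≠ 1)
      |>.elim fun k hk => (⟨k.1, k.2, fun e => hk (Subtype.ext e)⟩ : ∃ k : K, k ∈ (P : Subgroup K) ∧ k ≠ 1)
    have e3 : φ₃ k = k := by
      rw [← h123]
      have e2 : φ₂ k = k⁻¹ := hinv v₂ (Or.inr (Or.inl rfl)) hP2' k hk
      rw [e2, map_inv]
      have e1 : φ₁ k = k⁻¹ := hinv v₁ (Or.inl rfl) hP1' k hk
      rw [e1, inv_inv]
    refine hno w (Or.inr (Or.inr rfl)) k hk hk1 ?_
    have h'' : w * (k : Perm α) * w = k := congrArg Subtype.val e3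
    calc w * (k : Perm α) = w * (k : Perm α) * w * w := by rw [mul_assoc _ w w, hw2, mul_one]
      _ = _ := by rw [h'']
  obtain ⟨hvG, hv2, -, z, hzT, hvz, hvT⟩ := hz v hv
  -- it fixes the extra point
  have hyodd : Odd (orderOf (y : Perm α)) := odd_orderOf hKodd y.2
  have hyz : (y : Perm α) z = z := by
    refine fix_of_sq_fix hyodd ?_
    by_contra hne
    set y₁ := (y : Perm α) z with hy₁
    have hne1 : y₁ ≠ z := fun e => hne (by rw [e, ← hy₁, e])
    have hfixed : ∀ x, v x = x → v ((y : Perm α) x) = (y : Perm α) x := fun x hx => by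
      rw [← Perm.mul_apply, hyv.eq, Perm.mul_apply, hx]
    have hΓ3 : ({z, y₁, (y : Perm α) y₁} : Finset α).card = 3 :=
      Finset.card_eq_three.2 ⟨_, _, _, Ne.symm hne1, Ne.symm hne,
        fun e => hne1 ((y : Perm α).injective e).symm, rfl⟩
    have hvfix : v ∈ fixer G {z, y₁, (y : Perm α) y₁} := ⟨hvG, fun x hx => by
      simp only [Finset.mem_insert, Finset.mem_singleton] at hx
      rcases hx with rfl | rfl | rfl
      · exact hvz
      · exact hfixed z hvz
      · exact hfixed _ (hfixed z hvz)⟩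
    have := odd_orderOf (hodd _ hΓ3) hvfix
    have h2 := orderOf_dvd_of_pow_eq_one (n := 2) (x := v) (by rw [pow_two, hv2])
    rcases (Nat.dvd_prime Nat.prime_two).1 h2 with h | h
    · refine hvT a (by simp [hT]) ?_
      rw [orderOf_eq_one_iff.1 h, Perm.one_apply]
    · rw [h] at this; exact absurd this (by decide)
  have hy5 : (y : Perm α) ∈ fixer G (insert z T) := ⟨y.2.1, fun x hx => by
    rcases Finset.mem_insert.1 hx with rfl | hx
    · exact hyz
    · exact y.2.2 x hx⟩
  rw [card_fixer_eq hh hΔ (show (insert z T).card = 5 by rw [Finset.card_insert_of_notMem hzT, hS])]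
  obtain ⟨j, hj⟩ := IsPGroup.iff_orderOf.1 P.isPGroup' ⟨y, hyP⟩
  rw [Subgroup.orderOf_mk] at hj
  have hj0 : j ≠ 0 := fun e => hy1 (orderOf_eq_one_iff.1 (by rw [hj, e, pow_zero]))
  refine dvd_trans ?_ ((Subgroup.orderOf_mk (y : Perm α) hy5).symm.dvd.trans (orderOf_dvd_natCard _))
  rw [Subgroup.orderOf_coe, hj]
  exact dvd_pow_self r hj0

/-- No group of degree at least seven is transitive on five-element sets and induces exactly the
alternating group on each. -/
theorem five_false.{u} : ∀ {α : Type u} [DecidableEq α] [Fintype α] (G : Subgroup (Perm α)),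
    7 ≤ Fintype.card α → Homog G 5 → (∀ s : Finset α, s.card = 5 → AllEven G s) →
    (∀ s : Finset α, s.card = 5 → NoOdd G s) → False := by
  suffices H : ∀ N, ∀ {α : Type u} [DecidableEq α] [Fintype α] (G : Subgroup (Perm α)),
      Fintype.card α = N → 7 ≤ N → Homog G 5 → (∀ s : Finset α, s.card = 5 → AllEven G s) →
      (∀ s : Finset α, s.card = 5 → NoOdd G s) → False by
    intro α _ _ G h7
    exact H _ G rfl h7
  intro N
  induction N using Nat.strong_induction_on with
  | _ N ih =>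
    intro α _ _ G hcard h7 hh hA hN
    subst hcard
    obtain ⟨-, -, hn, -⟩ := five_setting h7 hh hA hN
    obtain ⟨r, hr, hrh⟩ := Nat.exists_prime_and_dvd (n := (Fintype.card α - 4) / 2) (by omega)
    haveI := Fact.mk hr
    have hr3 : 3 ≤ r := by
      rcases hr.eq_two_or_odd with rfl | h
      · omega
      · have := hr.two_le; omega
    obtain ⟨Δ, -, hΔ⟩ := Finset.exists_subset_card_eq (s := (Finset.univ : Finset α)) (n := 5)
      (by simp only [Finset.card_univ]; omega)
    have hd := five_prime_dvd h7 hh hA hN hrh hΔ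
    obtain ⟨x, hx⟩ := exists_prime_orderOf_dvd_card' (G := fixer G Δ) r hd
    obtain ⟨Q, hxQ, hQ⟩ := IsMaxP.exists_of_le (p := r)
      (Subgroup.zpowers_le.2 x.2 : Subgroup.zpowers (x : Perm α) ≤ fixer G Δ)
      (IsPGroup.of_card (n := 1) (by rw [Nat.card_zpowers, Subgroup.orderOf_coe, hx, pow_one]))
    have hQne : Q ≠ ⊥ := fun e => by
      have h1 : (x : Perm α) ∈ Q := hxQ (Subgroup.mem_zpowers _)
      rw [e, Subgroup.mem_bot] at h1
      have : orderOf x = 1 := by rw [← Subgroup.orderOf_coe, h1, orderOf_one]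
      omega
    set F := fixedSet Q with hF
    have hf5 : 5 ≤ F.card := hΔ ▸ Finset.card_le_card (subset_fixedSet hQ.1)
    have hflt : F.card < Fintype.card α := card_fixedSet_lt hQne
    have hmod := card_fixedSet_modEq (α := α) hQ.2.1
    rw [← hF] at hmod
    have hsum : Fintype.card α = 2 * ((Fintype.card α - 4) / 2) + 4 := by omega
    obtain ⟨cc, hcc⟩ := hrh
    rw [hcc, show 2 * (r * cc) + 4 = 4 + r * (2 * cc) by ring] at hsum
    rw [hsum, Nat.ModEq, Nat.add_mul_mod_self_left] at hmod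
    have hf7 : 7 ≤ F.card := by
      by_contra h
      interval_cases hFc : F.card
      · have h1 : (4 : ℕ) ≡ 5 [MOD r] := hmod
        have := (Nat.modEq_iff_dvd' (by norm_num)).1 h1
        norm_num at this
        omega
      · have h1 : (4 : ℕ) ≡ 6 [MOD r] := hmod
        have := Nat.le_of_dvd (by norm_num) ((Nat.modEq_iff_dvd' (by norm_num)).1 h1)
        omega
    have hmax : ∀ t : Finset α, t.card = 5 → t ⊆ F → IsMaxP r Q (fixer G t) := fun t ht htF =>
      hQ.transport hh hΔ ht (le_fixer_of_subset (hQ.1.trans (fixer_le Δ)) htF)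
    have hmapsub : ∀ u : Finset ↥F, u.map (Function.Embedding.subtype _) ⊆ F := fun u x hx => by
      obtain ⟨y, -, rfl⟩ := Finset.mem_map.1 hx
      exact y.2
    exact ih F.card hflt (normOn G Q F) (Fintype.card_coe F) hf7 (homog_normOn hh hmax)
      (fun s hs => AllEven.normOn (hmax _ (by rw [Finset.card_map, hs]) (hmapsub s))
        (hA _ (by rw [Finset.card_map, hs])))
      (fun s hs => NoOdd.normOn (hN _ (by rw [Finset.card_map, hs])))

end CfsgLib.Homog
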