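import Mathlib
import Cfsg.Agent.Homog.Count

/-!
The parameters of a three-transitive group transitive on sets of four and five elements.
-/

namespace CfsgLib.Homog

open Equiv

variable {α : Type*} [DecidableEq α] [Fintype α] {G : Subgroup (Perm α)}

theorem mem_orbFin_image {g : Perm α} (hg : g ∈ G) {T : Finset α} {x y : α}
    (h : y ∈ orbFin G T x) : g y ∈ orbFin G (T.image g) (g x) := by
  obtain ⟨k, hk, rfl⟩ := mem_orbFin.1 h
  refine mem_orbFin.2 ⟨g * k * g⁻¹, ?_, by simp [Perm.mul_apply, inv_apply_self]⟩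
  exact (fixer_map_conj hg T).le ⟨k, hk, rfl⟩

theorem mem_orbFin_symm {T : Finset α} {x y : α} (h : y ∈ orbFin G T x) : x ∈ orbFin G T y := by
  obtain ⟨k, hk, rfl⟩ := mem_orbFin.1 h
  exact mem_orbFin.2 ⟨k⁻¹, inv_mem hk, inv_apply_self k x⟩

theorem mem_orbFin_trans {T : Finset α} {x y z : α} (h : y ∈ orbFin G T x)
    (h' : z ∈ orbFin G T y) : z ∈ orbFin G T x := by
  obtain ⟨k, hk, rfl⟩ := mem_orbFin.1 h
  obtain ⟨k', hk', rfl⟩ := mem_orbFin.1 h'
  exact mem_orbFin.2 ⟨k' * k, mul_mem hk' hk, rfl⟩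

theorem five_params (hn : 5 ≤ Fintype.card α) (h3 : Trans G 3) (h4 : Homog G 4) (h5 : Homog G 5)
    (hn4 : ¬ Trans G 4) :
    ∃ ρ κ q u : ℕ, ρ ∣ 24 ∧ ρ < 24 ∧ 1 ≤ κ ∧ 1 ≤ q ∧ (Fintype.card α - 3) * ρ = 24 * q ∧
      u ≤ 10 ∧ 10 * (q - 1) = (Fintype.card α - 4) * u ∧
      (∀ s : Finset α, s.card = 4 →
        Nat.card (inducedSub G s) = ρ ∧ Nat.card (fixer G s) = κ) ∧
      (∀ T : Finset α, T.card = 3 → Nat.card (fixer G T) = q * κ ∧
        ∀ x ∉ T, (orbFin G T x).card = q) := by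
  classical
  set n := Fintype.card α with hndef
  obtain ⟨T₀, -, hT₀⟩ := Finset.exists_subset_card_eq (s := (Finset.univ : Finset α)) (n := 3)
    (by simp only [Finset.card_univ]; omega)
  obtain ⟨x₀, hx₀⟩ := Finset.card_pos.1 (show 0 < T₀ᶜ.card by rw [Finset.card_compl]; omega)
  rw [Finset.mem_compl] at hx₀
  set s₀ := insert x₀ T₀ with hs₀def
  have hs₀ : s₀.card = 4 := by rw [hs₀def, Finset.card_insert_of_notMem hx₀, hT₀]
  set ρ := Nat.card (inducedSub G s₀) with hρ
  set κ := Nat.card (fixer G s₀) with hκ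
  have hκ0 : 0 < κ := Nat.card_pos
  set q := (orbFin G T₀ x₀).card with hq
  have hq0 : 0 < q := Finset.card_pos.2 ⟨x₀, self_mem_orbFin T₀ x₀⟩
  have hK : ∀ s : Finset α, s.card = 4 → Nat.card (fixer G s) = κ := fun s hs =>
    card_fixer_eq h4 hs hs₀
  have hL : ∀ s : Finset α, s.card = 4 → Nat.card (inducedSub G s) = ρ := by
    intro s hs
    have e1 := card_eq_choose h4 hs
    rw [card_eq_choose h4 hs₀, hK s hs] at e1
    exact (Nat.eq_of_mul_eq_mul_left (Nat.choose_pos (by omega))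
      (Nat.eq_of_mul_eq_mul_right hκ0 e1)).symm
  have hH : ∀ T : Finset α, T.card = 3 → Nat.card (fixer G T) = q * κ := fun T hT => by
    rw [card_fixer_eq h3.homog hT hT₀, card_fixer_orbFin T₀ x₀]
  have horb : ∀ T : Finset α, T.card = 3 → ∀ x ∉ T, (orbFin G T x).card = q := by
    intro T hT x hx
    have := card_fixer_orbFin (G := G) T x
    rw [hH T hT, hK _ (by rw [Finset.card_insert_of_notMem hx, hT])] at this
    exact (Nat.eq_of_mul_eq_mul_right hκ0 this).symm
  have hρ24 : ρ ∣ 24 := by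
    have := Subgroup.card_subgroup_dvd_card (inducedSub G s₀)
    rw [Nat.card_perm, Nat.card_eq_fintype_card (α := ↥s₀), Fintype.card_coe, hs₀] at this
    exact this
  have hρlt : ρ < 24 := by
    refine lt_of_le_of_ne (Nat.le_of_dvd (by norm_num) hρ24) fun h => ?_
    refine inducedSub_ne_top (by omega) h4 hn4 hs₀ (Subgroup.eq_top_of_card_eq _ ?_)
    rw [← hρ, h, Nat.card_perm, Nat.card_eq_fintype_card, Fintype.card_coe, hs₀]
    rfl
  have heq : (n - 3) * ρ = 24 * q := by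
    have e1 := card_eq_descFactorial h3 hT₀.le
    rw [hT₀, hH T₀ hT₀, card_eq_choose h4 hs₀, ← hρ, ← hκ, ← hndef, ← mul_assoc] at e1
    have e2 : n.choose 4 * ρ = n.descFactorial 3 * q := Nat.eq_of_mul_eq_mul_right hκ0 e1
    have e3 := Nat.descFactorial_eq_factorial_mul_choose n 4
    rw [Nat.descFactorial_succ, show Nat.factorial 4 = 24 from rfl] at e3
    refine Nat.eq_of_mul_eq_mul_left (show 0 < n.descFactorial 3 from
      Nat.pos_of_ne_zero (by rw [Ne, Nat.descFactorial_eq_zero_iff_lt]; omega)) ?_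
    calc n.descFactorial 3 * ((n - 3) * ρ) = (n - 3) * n.descFactorial 3 * ρ := by ring
      _ = 24 * (n.choose 4 * ρ) := by rw [e3, mul_assoc]
      _ = n.descFactorial 3 * (24 * q) := by rw [e2]; ring
  -- pairs in one orbit
  let r : Finset α → Finset α → Prop := fun T S =>
    T ⊆ S ∧ ∃ x y, x ≠ y ∧ S \ T = {x, y} ∧ y ∈ orbFin G T x
  let A := (Finset.univ : Finset α).powersetCard 3
  let B := (Finset.univ : Finset α).powersetCard 5
  have hv : ∀ T ∈ A, 2 * (B.bipartiteAbove r T).card = (n - 3) * (q - 1) := by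
    intro T hT
    rw [Finset.mem_powersetCard_univ] at hT
    set O := (Tᶜ ×ˢ (Finset.univ : Finset α)).filter fun t => t.2 ≠ t.1 ∧ t.2 ∈ orbFin G T t.1 with hO
    have hmem : ∀ t, t ∈ O ↔ t.1 ∉ T ∧ t.2 ≠ t.1 ∧ t.2 ∈ orbFin G T t.1 := fun t => by
      simp [hO]
    have e1 : O.card = (n - 3) * (q - 1) := by
      rw [Finset.card_eq_sum_card_fiberwise (f := Prod.fst) (t := Tᶜ)
        (fun t ht => Finset.mem_coe.2 (Finset.mem_compl.2 ((hmem t).1 (Finset.mem_coe.1 ht)).1))]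
      rw [Finset.sum_const_nat (m := q - 1) fun x hx => ?_, Finset.card_compl, hT]
      rw [Finset.mem_compl] at hx
      rw [← horb T hT x hx, ← Finset.card_erase_of_mem (self_mem_orbFin T x)]
      refine Finset.card_bij (fun t _ => t.2) (fun t ht => ?_) (fun t ht t' ht' e => ?_)
        (fun y hy => ?_)
      · obtain ⟨ht', rfl⟩ := Finset.mem_filter.1 ht
        obtain ⟨-, h1, h2⟩ := (hmem t).1 ht'
        exact Finset.mem_erase.2 ⟨h1, h2⟩
      · exact Prod.ext ((Finset.mem_filter.1 ht).2.trans (Finset.mem_filter.1 ht').2.symm) e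
      · obtain ⟨h1, h2⟩ := Finset.mem_erase.1 hy
        exact ⟨(x, y), Finset.mem_filter.2 ⟨(hmem _).2 ⟨hx, h1, h2⟩, rfl⟩, rfl⟩
    rw [← e1, Finset.card_eq_sum_card_fiberwise (s := O) (f := fun t => T ∪ {t.1, t.2})
      (t := B.bipartiteAbove r T) ?_, Finset.sum_const_nat (m := 2) fun S hS => ?_, mul_comm]
    · simp only [Finset.bipartiteAbove, Finset.mem_filter, B, Finset.mem_powersetCard_univ] at hS
      obtain ⟨hS5, hTS, x, y, hxy, hST, hyx⟩ := hS
      have hx : x ∉ T := (Finset.mem_sdiff.1 (hST.ge (by simp : x ∈ ({x, y} : Finset α)))).2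
      have hy : y ∉ T := (Finset.mem_sdiff.1 (hST.ge (by simp : y ∈ ({x, y} : Finset α)))).2
      have hU : T ∪ {x, y} = S := by rw [← hST, Finset.union_sdiff_of_subset hTS]
      rw [← Finset.card_pair (show (x, y) ≠ (y, x) by simp [hxy])]
      congr 1
      ext ⟨p, p'⟩
      simp only [Finset.mem_filter, hmem, Finset.mem_insert, Finset.mem_singleton, Prod.mk.injEq]
      constructor
      · rintro ⟨⟨hp, hne, hp'⟩, e⟩
        have hp'T : p' ∉ T := notMem_of_mem_orbFin hp hp'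
        have hmemS : ∀ z ∈ ({p, p'} : Finset α), z ∈ ({x, y} : Finset α) := fun z hz => by
          rw [← hST, Finset.mem_sdiff, ← e]
          refine ⟨Finset.mem_union_right _ hz, ?_⟩
          simp only [Finset.mem_insert, Finset.mem_singleton] at hz
          rcases hz with rfl | rfl
          · exact hp
          · exact hp'T
        have k1 := hmemS p (by simp)
        have k2 := hmemS p' (by simp)
        simp only [Finset.mem_insert, Finset.mem_singleton] at k1 k2
        rcases k1 with rfl | rfl <;> rcases k2 with rfl | rfl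
        · exact absurd rfl hne
        · exact Or.inl ⟨rfl, rfl⟩
        · exact Or.inr ⟨rfl, rfl⟩
        · exact absurd rfl hne
      · rintro (⟨rfl, rfl⟩ | ⟨rfl, rfl⟩)
        · exact ⟨⟨hx, hxy.symm, hyx⟩, hU⟩
        · exact ⟨⟨hy, hxy, mem_orbFin_symm hyx⟩, by rw [Finset.pair_comm]; exact hU⟩
    · intro t ht
      obtain ⟨h1, h2, h3⟩ := (hmem t).1 (Finset.mem_coe.1 ht)
      have hd : Disjoint T {t.1, t.2} := by
        simp [h1, notMem_of_mem_orbFin h1 h3]
      refine Finset.mem_coe.2 (Finset.mem_filter.2 ⟨Finset.mem_powersetCard_univ.2 ?_,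
        Finset.subset_union_left, t.1, t.2, h2.symm, Finset.union_sdiff_cancel_left hd, h3⟩)
      rw [Finset.card_union_of_disjoint hd, hT, Finset.card_pair h2.symm]
  obtain ⟨S₀, -, hS₀⟩ := Finset.exists_subset_card_eq (s := (Finset.univ : Finset α)) (n := 5)
    (by simp only [Finset.card_univ]; omega)
  have hmap : ∀ g ∈ G, ∀ S, (A.bipartiteBelow r S).card ≤ (A.bipartiteBelow r (S.image g)).card := by
    intro g hg S
    refine Finset.card_le_card_of_injOn (fun T => T.image g) (fun T hT => ?_)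
      (fun T _ T' _ e => Finset.image_injective g.injective e)
    obtain ⟨hT1, hTS, x, y, hxy, hST, hyx⟩ := Finset.mem_filter.1 (Finset.mem_coe.1 hT)
    refine Finset.mem_coe.2 (Finset.mem_filter.2 ⟨Finset.mem_powersetCard_univ.2 ?_,
      Finset.image_subset_image hTS, g x, g y, g.injective.ne hxy, ?_, mem_orbFin_image hg hyx⟩)
    · rw [Finset.card_image_of_injective _ g.injective, Finset.mem_powersetCard_univ.1 hT1]
    · rw [← Finset.image_sdiff _ _ g.injective, hST, Finset.image_insert, Finset.image_singleton]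
  set u := (A.bipartiteBelow r S₀).card with hu
  have hu10 : u ≤ 10 := by
    refine le_trans (Finset.card_le_card (t := S₀.powersetCard 3) fun T hT => ?_) ?_
    · obtain ⟨hT1, hTS, -⟩ := Finset.mem_filter.1 hT
      exact Finset.mem_powersetCard.2 ⟨hTS, Finset.mem_powersetCard_univ.1 hT1⟩
    · rw [Finset.card_powersetCard, hS₀]; decide
  obtain ⟨v, hvv⟩ : ∃ v, ∀ T ∈ A, (B.bipartiteAbove r T).card = v :=
    ⟨(B.bipartiteAbove r T₀).card, fun T hT => by
      have := hv T hT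
      have := hv T₀ (Finset.mem_powersetCard_univ.2 hT₀)
      omega⟩
  have e := Finset.card_mul_eq_card_mul r hvv (n := u) (fun S hS => by
    obtain ⟨g, hg, he⟩ := h5 S₀ S hS₀ (Finset.mem_powersetCard_univ.1 hS)
    refine le_antisymm ?_ ?_
    · have := hmap g⁻¹ (inv_mem hg) S
      rwa [← he, image_image_inv, he] at this
    · have := hmap g hg S₀
      rwa [he] at this)
  simp only [A, B, Finset.card_powersetCard, Finset.card_univ, ← hndef] at e
  have hv0 := hv T₀ (Finset.mem_powersetCard_univ.2 hT₀)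
  rw [hvv T₀ (Finset.mem_powersetCard_univ.2 hT₀)] at hv0
  have c4 : n.choose 4 * 4 = n.choose 3 * (n - 3) := Nat.choose_succ_right_eq n 3
  have c5 : n.choose 5 * 5 = n.choose 4 * (n - 4) := Nat.choose_succ_right_eq n 4
  have e20 : 20 * v = (n - 3) * (n - 4) * u := Nat.eq_of_mul_eq_mul_left
    (Nat.choose_pos (show 3 ≤ n by omega)) (by
      calc n.choose 3 * (20 * v) = 4 * (5 * (n.choose 3 * v)) := by ring
        _ = 4 * ((n.choose 5 * 5) * u) := by rw [e]; ring
        _ = (n.choose 4 * 4) * (n - 4) * u := by rw [c5]; ring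
        _ = n.choose 3 * ((n - 3) * (n - 4) * u) := by rw [c4]; ring)
  have hfin : 10 * (q - 1) = (n - 4) * u := Nat.eq_of_mul_eq_mul_left
    (show 0 < n - 3 by omega) (by
      calc (n - 3) * (10 * (q - 1)) = 10 * ((n - 3) * (q - 1)) := by ring
        _ = 20 * v := by rw [← hv0]; ring
        _ = (n - 3) * ((n - 4) * u) := by rw [e20]; ring)
  exact ⟨ρ, κ, q, u, hρ24, hρlt, hκ0, hq0, heq, hu10, hfin, fun s hs => ⟨hL s hs, hK s hs⟩,
    fun T hT => ⟨hH T hT, horb T hT⟩⟩

theorem five_arith {n ρ q u : ℕ} (hn : 6 ≤ n) (hd : ρ ∣ 24) (hlt : ρ < 24) (hq : 1 ≤ q)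
    (heq : (n - 3) * ρ = 24 * q) (hu : u ≤ 10) (he : 10 * (q - 1) = (n - 4) * u) :
    (q = 1 ∧ (n = 6 ∨ n = 7 ∨ n = 9 ∨ n = 11 ∨ n = 15 ∨ n = 27)) ∨
      (ρ = 12 ∧ q = 3 ∧ n = 9) ∨ (ρ = 8 ∧ q = 2 ∧ n = 9) ∨ (ρ = 8 ∧ q = 7 ∧ n = 24) ∨
      (ρ = 6 ∧ q = 4 ∧ n = 19) := by
  have hmem : ρ ∈ ({1, 2, 3, 4, 6, 8, 12, 24} : Finset ℕ) := by
    have h1 : 1 ≤ ρ := Nat.pos_of_dvd_of_pos hd (by norm_num)
    clear heq he
    interval_cases ρ <;> first | decide | (exfalso; revert hd; decide)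
  clear hd
  obtain ⟨m, rfl⟩ : ∃ m, n = m + 6 := ⟨n - 6, by omega⟩
  obtain ⟨p, rfl⟩ : ∃ p, q = p + 1 := ⟨q - 1, by omega⟩
  rw [show m + 6 - 3 = m + 3 by omega] at heq
  rw [show m + 6 - 4 = m + 2 by omega, Nat.add_sub_cancel] at he
  simp only [Finset.mem_insert, Finset.mem_singleton] at hmem
  rcases Nat.eq_zero_or_pos u with rfl | hu0
  · simp at he
    rcases hmem with rfl | rfl | rfl | rfl | rfl | rfl | rfl | rfl <;> omega
  · rcases (show u = 1 ∨ u = 2 ∨ u = 3 ∨ u = 4 ∨ 5 ≤ u by omega) with rfl | rfl | rfl | rfl | h5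
    iterate 4
      rcases hmem with rfl | rfl | rfl | rfl | rfl | rfl | rfl | rfl <;> omega
    · have h1 : (m + 2) * 5 ≤ 10 * p := he ▸ Nat.mul_le_mul_left _ h5
      rcases hmem with rfl | rfl | rfl | rfl | rfl | rfl | rfl | rfl <;> omega

end CfsgLib.Homog
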