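import Mathlib
import Cfsg.Agent.Homog.Count

/-!
Large proper subgroups induced on four points.
-/

namespace CfsgLib.Homog

open Equiv

variable {α : Type*} [DecidableEq α] [Fintype α] {G : Subgroup (Perm α)}

theorem subtypePerm_mem_inducedSub {s : Finset α} {σ : Perm α} (hσ : SuppIn s σ)
    (h : Ind G s σ) : σ.subtypePerm (fun x => hσ.mem_iff x) ∈ inducedSub G s := by
  rw [mem_inducedSub]
  obtain ⟨g, hg, hg'⟩ := h
  exact ⟨g, hg, fun x hx => by rw [hg' x hx, Perm.ofSubtype_apply_of_mem _ hx]; rfl⟩

theorem card_perm_four {s : Finset α} (hs : s.card = 4) : Nat.card (Perm ↥s) = 24 := by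
  rw [Nat.card_perm, Nat.card_eq_fintype_card, Fintype.card_coe, hs]
  rfl

theorem noOdd_of_card_twelve {s : Finset α} (hs : s.card = 4)
    (h : Nat.card (inducedSub G s) = 12) : NoOdd G s := by
  intro σ hσ hi
  have h1 := (inducedSub G s).card_mul_index
  rw [h, card_perm_four hs] at h1
  have hA := Perm.eq_alternatingGroup_of_index_eq_two (show (inducedSub G s).index = 2 by omega)
  have h2 := subtypePerm_mem_inducedSub hσ hi
  rw [hA, Perm.mem_alternatingGroup] at h2
  rw [← Perm.sign_ofSubtype] at h2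
  rwa [show Perm.ofSubtype (σ.subtypePerm fun x => hσ.mem_iff x) = σ from Equiv.ext fun x => by
    by_cases hx : x ∈ s
    · exact Perm.ofSubtype_apply_of_mem _ hx
    · rw [hσ x hx]; exact Perm.ofSubtype_apply_of_not_mem _ hx] at h2

/-- If the induced group has order eight, transpositions in it form a perfect matching. -/
theorem partner_of_card_eight {s : Finset α} (hs : s.card = 4)
    (h : Nat.card (inducedSub G s) = 8) {x : α} (hx : x ∈ s) :
    ∃ y ∈ s, y ≠ x ∧ Ind G s (swap x y) ∧ ∀ z ∈ s, z ≠ x → Ind G s (swap x z) → z = y := by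
  classical
  set L := inducedSub G s with hL
  have hswap : ∀ a b : ↥s, (swap a b ∈ L ↔ Ind G s (swap (a : α) b)) := fun a b => by
    rw [hL, mem_inducedSub, Perm.ofSubtype_swap_eq]
  have hadj : ∀ a b c : ↥s, a ≠ b → a ≠ c → b ≠ c → swap a b * swap a c ∉ L := by
    intro a b c hab hac hbc hm
    have h1 : orderOf (swap a b * swap a c) = 3 :=
      (Perm.isThreeCycle_swap_mul_swap_same hab hac hbc).orderOf
    have h2 := orderOf_dvd_natCard (⟨_, hm⟩ : L)
    rw [Subgroup.orderOf_mk, h1, h] at h2
    norm_num at h2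
  have htri : ∀ a b c : ↥s, a ≠ b → a ≠ c → b ≠ c →
      swap a b ∈ L ∨ swap a c ∈ L ∨ swap b c ∈ L := by
    intro a b c hab hac hbc
    have hidx : L.index = 3 := by
      have h1 := L.card_mul_index
      rw [h, card_perm_four hs] at h1
      omega
    let f : Fin 4 → Perm ↥s ⧸ L := ![((1 : Perm ↥s) : Perm ↥s ⧸ L), (swap a b : Perm ↥s),
      (swap a c : Perm ↥s), (swap b c : Perm ↥s)]
    haveI : Finite (Perm ↥s ⧸ L) := inferInstance
    obtain ⟨i, j, hij, he⟩ : ∃ i j, i ≠ j ∧ f i = f j := by
      by_contra hne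
      simp only [not_exists, not_and] at hne
      have := Nat.card_le_card_of_injective f fun i j e => by_contra fun h => hne i j h e
      rw [Nat.card_eq_fintype_card, Fintype.card_fin] at this
      change 4 ≤ L.index at this
      omega
    have sw : ∀ p q : ↥s, (swap p q)⁻¹ = swap p q := fun p q => swap_inv p q
    have e1 : swap b a * swap b c = swap a b * swap b c := by rw [swap_comm b a]
    have e2 : swap c a * swap c b = swap a c * swap b c := by rw [swap_comm c a, swap_comm c b]
    have e3 : swap a c * swap a b ∈ L → False := hadj a c b hac hab hbc.symm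
    have e4 : swap b c * swap b a ∈ L → False := hadj b c a hbc hab.symm hac.symm
    have e5 : swap c b * swap c a ∈ L → False := hadj c b a hbc.symm hac.symm hab.symm
    rw [swap_comm b a] at e4
    rw [swap_comm c b, swap_comm c a] at e5
    fin_cases i <;> fin_cases j <;>
      simp [f, QuotientGroup.eq, sw] at he hij <;>
      first
        | exact Or.inl he
        | exact Or.inr (Or.inl he)
        | exact Or.inr (Or.inr he)
        | exact (hadj a b c hab hac hbc he).elim
        | exact (e3 he).elim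
        | exact (hadj b a c hab.symm hbc hac (by rw [e1]; exact he)).elim
        | exact (e4 he).elim
        | exact (hadj c a b hac.symm hbc.symm hab (by rw [e2]; exact he)).elim
        | exact (e5 he).elim
  set x' : ↥s := ⟨x, hx⟩ with hx'
  have huniq : ∀ a b : ↥s, a ≠ x' → b ≠ x' → swap x' a ∈ L → swap x' b ∈ L → a = b := fun a b ha hb h1 h2 =>
    by_contra fun hab => hadj x' a b (Ne.symm ha) (Ne.symm hb) hab (mul_mem h1 h2)
  obtain ⟨a, b, c, ha, hb, hc, hab, hac, hbc⟩ := Finset.two_lt_card_iff.1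
    (show 2 < ((Finset.univ : Finset ↥s).erase x').card by
      rw [Finset.card_erase_of_mem (Finset.mem_univ x'), Finset.card_univ, Fintype.card_coe, hs]
      norm_num)
  simp only [Finset.mem_erase, Finset.mem_univ, and_true] at ha hb hc
  obtain ⟨y, hy, hyL⟩ : ∃ y, y ≠ x' ∧ swap x' y ∈ L := by
    by_contra hne
    simp only [not_exists, not_and] at hne
    have k1 := ((htri x' a b ha.symm hb.symm hab).resolve_left (hne a ha)).resolve_left (hne b hb)
    have k2 := ((htri x' a c ha.symm hc.symm hac).resolve_left (hne a ha)).resolve_left (hne c hc)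
    exact hadj a b c hab hac hbc (mul_mem k1 k2)
  refine ⟨y, y.2, fun e => hy (Subtype.ext e), (hswap x' y).1 hyL, fun z hz hzx hi => ?_⟩
  exact congrArg Subtype.val (huniq ⟨z, hz⟩ y (fun e => hzx (congrArg Subtype.val e)) hy
    ((hswap x' ⟨z, hz⟩).2 hi) hyL)

/-- If the induced group has order six it fixes exactly one point. -/
theorem apex_of_card_six {s : Finset α} (hs : s.card = 4) (h : Nat.card (inducedSub G s) = 6) :
    ∃ c ∈ s, (∀ σ, SuppIn s σ → Ind G s σ → σ c = c) ∧
      ∀ d ∈ s, (∀ σ, SuppIn s σ → Ind G s σ → σ d = d) → d = c := by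
  classical
  set L := inducedSub G s with hL
  haveI : Fact (Nat.Prime 3) := ⟨by norm_num⟩
  obtain ⟨π, hπ⟩ := exists_prime_orderOf_dvd_card' (G := L) 3 (by rw [h]; norm_num)
  have hπ' : orderOf (π : Perm ↥s) = 3 := by rw [Subgroup.orderOf_coe, hπ]
  have hfix : ((π : Perm ↥s).supportᶜ).card = 1 := by
    have h1 := Perm.card_compl_support_modEq (p := 3) (n := 1) (σ := (π : Perm ↥s))
      (by rw [pow_one, ← hπ', pow_orderOf_eq_one])
    have h2 := Perm.two_le_card_support_of_ne_one (f := (π : Perm ↥s)) fun e => by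
      rw [e, orderOf_one] at hπ'; norm_num at hπ'
    rw [Finset.card_compl] at h1 ⊢
    have h3 := Finset.card_le_univ (π : Perm ↥s).support
    rw [Fintype.card_coe, hs] at h1 h3 ⊢
    unfold Nat.ModEq at h1
    omega
  obtain ⟨c, hc⟩ := Finset.card_eq_one.1 hfix
  have hπc : ∀ d, (π : Perm ↥s) d = d ↔ d = c := fun d => by
    rw [show d = c ↔ d ∈ ({c} : Finset ↥s) from Finset.mem_singleton.symm, ← hc, Finset.mem_compl,
      Perm.notMem_support]
  have hN : (Subgroup.zpowers π).index = 2 := by
    have h1 := (Subgroup.zpowers π).card_mul_index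
    rw [Nat.card_zpowers, hπ, h] at h1
    omega
  haveI := Subgroup.normal_of_index_eq_two hN
  have hall : ∀ l : L, (l : Perm ↥s) c = c := by
    intro l
    have h1 : l⁻¹ * π * l ∈ Subgroup.zpowers π := by
      simpa using (inferInstance : (Subgroup.zpowers π).Normal).conj_mem π (Subgroup.mem_zpowers π) l⁻¹
    obtain ⟨j, hj⟩ := h1
    have h2 : ((π ^ j : L) : Perm ↥s) c = c := by
      rw [Subgroup.coe_zpow]
      have hm : (π : Perm ↥s) ∈ MulAction.stabilizer (Perm ↥s) c := (hπc c).2 rfl
      exact zpow_mem hm j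
    rw [show (π ^ j : L) = l⁻¹ * π * l from hj] at h2
    simp only [Subgroup.coe_mul, Subgroup.coe_inv, Perm.mul_apply, Perm.inv_eq_iff_eq] at h2
    exact (hπc _).1 h2
  refine ⟨c, c.2, fun σ hσ hi => ?_, fun d hd hd' => ?_⟩
  · exact congrArg Subtype.val (hall ⟨_, subtypePerm_mem_inducedSub hσ hi⟩)
  · have := hd' (Perm.ofSubtype (π : Perm ↥s)) (fun x hx => Perm.ofSubtype_apply_of_not_mem _ hx)
      (mem_inducedSub.1 π.2)
    rw [Perm.ofSubtype_apply_of_mem _ hd] at this
    exact congrArg Subtype.val ((hπc ⟨d, hd⟩).1 (Subtype.ext this))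

end CfsgLib.Homog
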