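import Mathlib
import Cfsg.Agent.Homog.Count

/-!
No group of degree seven is sharply three-transitive; a unique subgroup of prime order.
-/

namespace CfsgLib.Homog

open Equiv

variable {α : Type*} [DecidableEq α] [Fintype α] {G : Subgroup (Perm α)}

/-- If `p` exceeds every proper divisor in sight, all elements of order `p` are powers of each
other. -/
theorem mem_zpowers_of_orderOf {N : Type*} [Group N] [Finite N] {p : ℕ} [Fact p.Prime]
    (h1 : ¬ p ^ 2 ∣ Nat.card N) (h2 : ∀ d, p * d ∣ Nat.card N → d % p = 1 → d = 1) {x y : N}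
    (hx : orderOf x = p) (hy : orderOf y = p) : y ∈ Subgroup.zpowers x := by
  obtain ⟨P, hP⟩ := (IsPGroup.of_card (p := p) (n := 1) (G := Subgroup.zpowers x)
    (by rw [Nat.card_zpowers, hx, pow_one])).exists_le_sylow
  obtain ⟨Q, hQ⟩ := (IsPGroup.of_card (p := p) (n := 1) (G := Subgroup.zpowers y)
    (by rw [Nat.card_zpowers, hy, pow_one])).exists_le_sylow
  have hcP : Nat.card (P : Subgroup N) = p := by
    obtain ⟨k, hk⟩ := IsPGroup.iff_card.1 P.isPGroup'
    have h3 := Subgroup.card_dvd_of_le hP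
    rw [Nat.card_zpowers, hx, hk] at h3
    have hk0 : k ≠ 0 := by
      rintro rfl
      rw [pow_zero, Nat.dvd_one] at h3
      exact (Fact.out : p.Prime).ne_one h3
    have hk1 : k = 1 := by
      by_contra hne
      exact h1 ((pow_dvd_pow p (show 2 ≤ k by omega)).trans
        (hk ▸ Subgroup.card_subgroup_dvd_card _))
    rw [hk, hk1, pow_one]
  have hn1 : Nat.card (Sylow p N) = 1 := by
    refine h2 _ ?_ ?_
    · have h5 := P.card_dvd_index
      have h6 := (P : Subgroup N).card_mul_index
      rw [hcP] at h6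
      rw [← h6]
      exact Nat.mul_dvd_mul_left p h5
    · rw [card_sylow_modEq_one p N, Nat.one_mod_eq_one]
      exact (Fact.out : p.Prime).ne_one
  haveI : Subsingleton (Sylow p N) := (Nat.card_eq_one_iff_unique.1 hn1).1
  rw [Subsingleton.elim Q P] at hQ
  rw [Subgroup.eq_of_le_of_card_ge hP (by rw [hcP, Nat.card_zpowers, hx])]
  exact hQ (Subgroup.mem_zpowers y)

theorem sign_of_sq_one {g : Perm α} (h : g * g = 1) (hs : g.support.card = 6) :
    Perm.sign g = -1 := by
  have hall : ∀ m ∈ g.cycleType, m = 2 := fun m hm => by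
    have h1 : m ∣ 2 :=
      (Perm.dvd_of_mem_cycleType hm).trans (orderOf_dvd_of_pow_eq_one (by rw [pow_two, h]))
    have h2 := Perm.two_le_of_mem_cycleType hm
    exact le_antisymm (Nat.le_of_dvd (by norm_num) h1) h2
  have hsum := Perm.sum_cycleType g
  rw [hs, Multiset.eq_replicate_card.2 hall, Multiset.sum_replicate, smul_eq_mul] at hsum
  rw [Perm.sign_of_cycleType, Perm.sum_cycleType, hs, show g.cycleType.card = 3 by omega]
  decide

theorem seven_false (hn : Fintype.card α = 7) (h3 : Trans G 3)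
    (hH : ∀ T : Finset α, T.card = 3 → fixer G T = ⊥) : False := by
  classical
  have hfix : ∀ g ∈ G, g ≠ 1 → g.supportᶜ.card ≤ 2 := fun g hg hg1 => by
    by_contra hle
    obtain ⟨T, hT, hT3⟩ := Finset.exists_subset_card_eq (s := g.supportᶜ) (n := 3) (by omega)
    have : g ∈ fixer G T :=
      ⟨hg, fun x hx => Perm.notMem_support.1 (Finset.mem_compl.1 (hT hx))⟩
    rw [hH T hT3, Subgroup.mem_bot] at this
    exact hg1 this
  obtain ⟨a, b, c, -, -, -, hab, hac, hbc⟩ := Finset.two_lt_card_iff.1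
    (show 2 < (Finset.univ : Finset α).card by rw [Finset.card_univ]; omega)
  obtain ⟨t, ht, ht'⟩ := h3 (swap a b) {a, b, c} Finset.card_le_three
  have ta : t a = b := by rw [ht' a (by simp), swap_apply_left]
  have tb : t b = a := by rw [ht' b (by simp), swap_apply_right]
  have tc : t c = c := by rw [ht' c (by simp), swap_apply_of_ne_of_ne hac.symm hbc.symm]
  have ht2 : t * t = 1 := by
    have : t * t ∈ fixer G {a, b, c} := ⟨G.mul_mem ht ht, fun x hx => by
      simp only [Finset.mem_insert, Finset.mem_singleton] at hx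
      rcases hx with rfl | rfl | rfl <;> simp [Perm.mul_apply, ta, tb, tc]⟩
    rwa [hH _ (Finset.card_eq_three.2 ⟨a, b, c, hab, hac, hbc, rfl⟩), Subgroup.mem_bot] at this
  have ht1 : t ≠ 1 := fun e => hab (by rw [← ta, e, Perm.one_apply])
  have hsupp : t.support.card = 6 := by
    haveI : Fact (Nat.Prime 2) := ⟨Nat.prime_two⟩
    have h1 := Perm.card_compl_support_modEq (p := 2) (n := 1) (σ := t) (by rw [pow_one, pow_two, ht2])
    have h2 := hfix t ht ht1
    rw [Finset.card_compl] at h1 h2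
    have h4 := Finset.card_le_univ t.support
    unfold Nat.ModEq at h1
    omega
  set N := fixer G {c} with hN
  have hNcard : Nat.card N = 30 := by
    have e1 := card_eq_descFactorial h3 (show ({c} : Finset α).card ≤ 3 by simp)
    have e2 := card_eq_descFactorial h3
      (show ({a, b, c} : Finset α).card ≤ 3 from Finset.card_le_three)
    rw [hH _ (Finset.card_eq_three.2 ⟨a, b, c, hab, hac, hbc, rfl⟩), Subgroup.card_bot,
      Finset.card_eq_three.2 ⟨a, b, c, hab, hac, hbc, rfl⟩, e1, Finset.card_singleton, hn] at e2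
    rw [show Nat.descFactorial 7 1 = 7 by decide, show Nat.descFactorial 7 3 = 210 by decide] at e2
    rw [← hN] at e2
    omega
  let φ : N →* ℤˣ := Perm.sign.comp N.subtype
  have hrange : φ.range = ⊤ := by
    rw [eq_top_iff]
    intro u _
    rcases Int.units_eq_one_or u with rfl | rfl
    · exact one_mem _
    · exact ⟨⟨t, ht, fun x hx => by rw [Finset.mem_singleton.1 hx, tc]⟩, sign_of_sq_one ht2 hsupp⟩
  have hker : Nat.card φ.ker = 15 := by
    have h1 := φ.ker.card_mul_index
    rw [Subgroup.index_ker, hrange, Subgroup.card_top, hNcard,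
      show Nat.card ℤˣ = 2 by rw [Nat.card_eq_fintype_card]; rfl] at h1
    omega
  haveI : Fact (Nat.Prime 5) := ⟨by norm_num⟩
  obtain ⟨π₀, hπ₀⟩ := exists_prime_orderOf_dvd_card' (G := φ.ker) 5 (by rw [hker]; norm_num)
  set π : Perm α := ((π₀ : N) : Perm α) with hπ
  have hπo : orderOf π = 5 := by rw [hπ, Subgroup.orderOf_coe, Subgroup.orderOf_coe, hπ₀]
  have hπ1 : π ≠ 1 := fun e => by rw [e, orderOf_one] at hπo; norm_num at hπo
  have hπc : π c = c := (π₀ : N).2.2 c (by simp)
  have hfix2 : π.supportᶜ.card = 2 := by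
    have h1 := Perm.card_compl_support_modEq (p := 5) (n := 1) (σ := π)
      (by rw [pow_one, ← hπo, pow_orderOf_eq_one])
    have h2 := hfix π (π₀ : N).2.1 hπ1
    have h4 := Finset.card_pos.2 ⟨c, Finset.mem_compl.2 (Perm.notMem_support.2 hπc)⟩
    rw [hn] at h1
    unfold Nat.ModEq at h1
    omega
  obtain ⟨e, he⟩ : ∃ e, π.supportᶜ.erase c = {e} := Finset.card_eq_one.1 (by
    rw [Finset.card_erase_of_mem (Finset.mem_compl.2 (Perm.notMem_support.2 hπc)), hfix2])
  have hfixed : ∀ x, π x = x ↔ x = c ∨ x = e := fun x => by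
    rw [← Perm.notMem_support, ← Finset.mem_compl]
    constructor
    · intro hx
      rcases eq_or_ne x c with h | h
      · exact Or.inl h
      · exact Or.inr (Finset.mem_singleton.1 (he ▸ Finset.mem_erase.2 ⟨h, hx⟩))
    · rintro (rfl | rfl)
      · exact Finset.mem_compl.2 (Perm.notMem_support.2 hπc)
      · exact Finset.mem_of_mem_erase (he.ge (Finset.mem_singleton_self _))
  have hec : e ≠ c := Finset.ne_of_mem_erase (he.ge (Finset.mem_singleton_self e))
  obtain ⟨e', he'c, he'e⟩ : ∃ e', e' ≠ c ∧ e' ≠ e := by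
    obtain ⟨x, hx⟩ := Finset.card_pos.1 (show 0 < ({c, e} : Finset α)ᶜ.card by
      rw [Finset.card_compl, Finset.card_pair hec.symm]; omega)
    simp only [Finset.mem_compl, Finset.mem_insert, Finset.mem_singleton, not_or] at hx
    exact ⟨x, hx.1, hx.2⟩
  have : e' ∈ orbFin G {c} e := by
    rw [orbFin_eq_compl h3 (by simp) (by simp [hec])]
    simp [he'c]
  obtain ⟨g, hg, hge⟩ := mem_orbFin.1 this
  have hmem : (⟨g, hg⟩ : N) * (π₀ : N) * (⟨g, hg⟩ : N)⁻¹ ∈ φ.ker :=
    φ.normal_ker.conj_mem _ π₀.2 _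
  have ho : orderOf (⟨_, hmem⟩ : φ.ker) = 5 := by
    rw [Subgroup.orderOf_mk, ← MulAut.conj_apply, MulEquiv.orderOf_eq, Subgroup.orderOf_coe, hπ₀]
  have h15 : ∀ d, 5 * d ∣ Nat.card φ.ker → d % 5 = 1 → d = 1 := by
    intro d hd hd1
    rw [hker, show (15 : ℕ) = 5 * 3 by norm_num] at hd
    have := Nat.le_of_dvd (by norm_num) (Nat.dvd_of_mul_dvd_mul_left (by norm_num) hd)
    omega
  obtain ⟨j, hj⟩ := mem_zpowers_of_orderOf (by rw [hker]; norm_num) h15 hπ₀ ho
  have hj' : π ^ j = g * π * g⁻¹ := congrArg (fun x : φ.ker => ((x : N) : Perm α)) hj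
  have h5 : (π ^ j) e = e := by
    have hm : π ∈ MulAction.stabilizer (Perm α) e := (hfixed e).2 (Or.inr rfl)
    exact zpow_mem hm j
  rw [hj', Perm.mul_apply, Perm.mul_apply, ← Perm.eq_inv_iff_eq] at h5
  rcases (hfixed _).1 h5 with h6 | h6
  · have h7 := congrArg g h6
    rw [apply_inv_self, hg.2 c (by simp)] at h7
    exact hec h7
  · have h7 := congrArg g h6
    rw [apply_inv_self, hge] at h7
    exact he'e h7.symm

end CfsgLib.Homog
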