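import Mathlib
import Cfsg.Agent.Homog.Alternating
import Cfsg.Agent.Homog.Count

/-!
Groups transitive on sets of three and four elements.
-/

namespace CfsgLib.Homog

open Equiv

variable {α : Type*} [DecidableEq α] [Fintype α] {G : Subgroup (Perm α)}

/-- A transitive group preserves no linear order. -/
theorem no_transitive_order {H : Subgroup (Perm α)} {S : Finset α} (hS : 2 ≤ S.card)
    (hHS : ∀ h ∈ H, ∀ x ∈ S, h x ∈ S) (htr : ∀ x ∈ S, ∀ y ∈ S, ∃ h ∈ H, h x = y)
    (R : α → α → Prop) (hinv : ∀ h ∈ H, ∀ x ∈ S, ∀ y ∈ S, R x y → R (h x) (h y))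
    (hasymm : ∀ x ∈ S, ∀ y ∈ S, R x y → ¬ R y x)
    (htot : ∀ x ∈ S, ∀ y ∈ S, x ≠ y → R x y ∨ R y x)
    (htrans : ∀ x ∈ S, ∀ y ∈ S, ∀ z ∈ S, x ≠ z → R x y → R y z → R x z) : False := by
  classical
  obtain ⟨v, hv, hmax⟩ := S.exists_max_image (fun v => (S.filter fun w => R w v).card)
    (Finset.card_pos.1 (by omega))
  have htop : ∀ w ∈ S, w ≠ v → R w v := by
    intro w hw hne
    refine (htot w hw v hv hne).resolve_right fun hvw => ?_
    have hsub : insert v (S.filter fun u => R u v) ⊆ S.filter fun u => R u w := by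
      intro u hu
      rw [Finset.mem_insert, Finset.mem_filter] at hu
      rw [Finset.mem_filter]
      rcases hu with rfl | ⟨hu, huv⟩
      · exact ⟨hv, hvw⟩
      · exact ⟨hu, htrans u hu v hv w hw (fun e => hasymm v hv w hw hvw (e ▸ huv)) huv hvw⟩
    have h1 := Finset.card_le_card hsub
    rw [Finset.card_insert_of_notMem (show v ∉ S.filter fun u => R u v from fun h =>
      hasymm v hv v hv (Finset.mem_filter.1 h).2 (Finset.mem_filter.1 h).2)] at h1
    have h2 := hmax w hw
    omega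
  obtain ⟨x, hx, hxv⟩ := Finset.exists_mem_ne hS v
  obtain ⟨h, hh, hhx⟩ := htr v hv x hx
  have h1 : h⁻¹ v ∈ S := hHS _ (inv_mem hh) v hv
  have h2 : h⁻¹ v ≠ v := fun e => hxv (by
    have := congrArg h e
    rwa [apply_inv_self, hhx, eq_comm] at this)
  have := hinv h hh _ h1 v hv (htop _ h1 h2)
  rw [apply_inv_self, hhx] at this
  exact hasymm v hv x hx this (htop x hx hxv)

theorem inducedSub_eq_top_of_swaps {s : Finset α}
    (h : ∀ a ∈ s, ∀ b ∈ s, a ≠ b → Ind G s (swap a b)) : inducedSub G s = ⊤ := by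
  rw [← top_le_iff, ← Perm.closure_isSwap, Subgroup.closure_le]
  rintro π ⟨a, b, hab, rfl⟩
  rw [SetLike.mem_coe, mem_inducedSub, Perm.ofSubtype_swap_eq]
  exact h _ a.2 _ b.2 (Subtype.coe_injective.ne hab)

/-- A group transitive on sets of two and of three elements, but not two-transitive, has at most
three points. -/
theorem three_case (hn : 4 ≤ Fintype.card α) (h1 : Trans G 1) (h2 : Homog G 2) (h3 : Homog G 3) :
    Trans G 2 := by
  classical
  by_contra hn2
  have hswap : ∀ a b, a ≠ b → ∀ g ∈ G, g a = b → g b ≠ a := by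
    intro a b hab g hg hga hgb
    refine inducedSub_ne_top (by omega) h2 hn2 (Finset.card_pair hab)
      (inducedSub_eq_top_of_swaps fun x hx y hy hxy => ⟨g, hg, ?_⟩)
    simp only [Finset.mem_insert, Finset.mem_singleton] at hx hy ⊢
    rintro z (rfl | rfl) <;> rcases hx with rfl | rfl <;> rcases hy with rfl | rfl <;>
      simp_all [swap_apply_left, swap_apply_right]
  obtain ⟨a₀, -, b₀, -, hab₀⟩ := Finset.one_lt_card.1
    (show 1 < (Finset.univ : Finset α).card by rw [Finset.card_univ]; omega)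
  let R : α → α → Prop := fun x y => ∃ g ∈ G, g a₀ = x ∧ g b₀ = y
  have hasymm : ∀ x y, R x y → ¬ R y x := by
    rintro x y ⟨g, hg, rfl, rfl⟩ ⟨g', hg', e1, e2⟩
    refine hswap a₀ b₀ hab₀ (g⁻¹ * g') (G.mul_mem (G.inv_mem hg) hg') ?_ ?_
    · rw [Perm.mul_apply, e1, inv_apply_self]
    · rw [Perm.mul_apply, e2, inv_apply_self]
  have htot : ∀ x y, x ≠ y → R x y ∨ R y x := by
    intro x y hxy
    obtain ⟨g, hg, he⟩ := h2 {a₀, b₀} {x, y} (Finset.card_pair hab₀) (Finset.card_pair hxy)
    have ha : g a₀ ∈ ({x, y} : Finset α) := he ▸ Finset.mem_image_of_mem g (by simp)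
    have hb : g b₀ ∈ ({x, y} : Finset α) := he ▸ Finset.mem_image_of_mem g (by simp)
    simp only [Finset.mem_insert, Finset.mem_singleton] at ha hb
    rcases ha with ha | ha <;> rcases hb with hb | hb
    · exact absurd (g.injective (ha.trans hb.symm)) hab₀
    · exact Or.inl ⟨g, hg, ha, hb⟩
    · exact Or.inr ⟨g, hg, ha, hb⟩
    · exact absurd (g.injective (ha.trans hb.symm)) hab₀
  have hinv : ∀ h ∈ G, ∀ x y, R x y → R (h x) (h y) := by
    rintro h hh x y ⟨g, hg, rfl, rfl⟩
    exact ⟨h * g, G.mul_mem hh hg, rfl, rfl⟩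
  have hne : ∀ x y, R x y → x ≠ y := fun x y h e => hasymm x y h (e ▸ h : R y x)
  -- a triple with a source or a sink
  obtain ⟨s, p, q, hsp, hsq, hpq, hext⟩ : ∃ s p q, s ≠ p ∧ s ≠ q ∧ p ≠ q ∧
      ((R s p ∧ R s q) ∨ (R p s ∧ R q s)) := by
    obtain ⟨a, -⟩ := Finset.card_pos.1 (show 0 < (Finset.univ : Finset α).card by
      rw [Finset.card_univ]; omega)
    obtain ⟨x, y, z, hx, hy, hz, hxy, hxz, hyz⟩ := Finset.two_lt_card_iff.1
      (show 2 < ((Finset.univ : Finset α).erase a).card by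
        rw [Finset.card_erase_of_mem (Finset.mem_univ a), Finset.card_univ]; omega)
    simp only [Finset.mem_erase, Finset.mem_univ, and_true] at hx hy hz
    rcases htot a x hx.symm with h | h <;> rcases htot a y hy.symm with h' | h' <;>
      rcases htot a z hz.symm with h'' | h''
    · exact ⟨a, x, y, hx.symm, hy.symm, hxy, Or.inl ⟨h, h'⟩⟩
    · exact ⟨a, x, y, hx.symm, hy.symm, hxy, Or.inl ⟨h, h'⟩⟩
    · exact ⟨a, x, z, hx.symm, hz.symm, hxz, Or.inl ⟨h, h''⟩⟩
    · exact ⟨a, y, z, hy.symm, hz.symm, hyz, Or.inr ⟨h', h''⟩⟩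
    · exact ⟨a, y, z, hy.symm, hz.symm, hyz, Or.inl ⟨h', h''⟩⟩
    · exact ⟨a, x, z, hx.symm, hz.symm, hxz, Or.inr ⟨h, h''⟩⟩
    · exact ⟨a, x, y, hx.symm, hy.symm, hxy, Or.inr ⟨h, h'⟩⟩
    · exact ⟨a, x, y, hx.symm, hy.symm, hxy, Or.inr ⟨h, h'⟩⟩
  refine no_transitive_order (H := G) (S := Finset.univ) (by simp only [Finset.card_univ]; omega)
    (fun _ _ _ _ => Finset.mem_univ _) (fun x _ y _ => ?_) R (fun h hh x _ y _ => hinv h hh x y)
    (fun x _ y _ => hasymm x y) (fun x _ y _ => htot x y) (fun x _ y _ z _ hxz hxy hyz => ?_)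
  · obtain ⟨g, hg, hg'⟩ := h1 (swap x y) {x} (by simp)
    exact ⟨g, hg, by rw [hg' x (by simp), swap_apply_left]⟩
  · refine (htot x z hxz).resolve_right fun hzx => ?_
    obtain ⟨g, hg, he⟩ := h3 {s, p, q} {x, y, z}
      (Finset.card_eq_three.2 ⟨s, p, q, hsp, hsq, hpq, rfl⟩)
      (Finset.card_eq_three.2 ⟨x, y, z, hne x y hxy, hxz, hne y z hyz, rfl⟩)
    have hm : ∀ w ∈ ({s, p, q} : Finset α), g w = x ∨ g w = y ∨ g w = z := fun w hw => by
      have : g w ∈ ({x, y, z} : Finset α) := he ▸ Finset.mem_image_of_mem g hw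
      simpa using this
    have hs' := hm s (by simp)
    have hp' := hm p (by simp)
    have hq' := hm q (by simp)
    have hsp' := g.injective.ne hsp
    have hsq' := g.injective.ne hsq
    have hpq' := g.injective.ne hpq
    have hyx := hasymm x y hxy
    have hzy := hasymm y z hyz
    have hxz' := hasymm z x hzx
    rcases hext with ⟨e1, e2⟩ | ⟨e1, e2⟩ <;>
    · have f1 := hinv g hg _ _ e1
      have f2 := hinv g hg _ _ e2
      rcases hs' with hs' | hs' | hs' <;> rcases hp' with hp' | hp' | hp' <;>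
        rcases hq' with hq' | hq' | hq' <;> simp_all

/-- A non-identity element moving at most three points gives the alternating group. -/
theorem alternating_le_of_small_support (h2 : Trans G 2) (hn : 2 ≤ Fintype.card α) {g : Perm α}
    (hg : g ∈ G) (hg1 : g ≠ 1) (hs : g.support.card ≤ 3) : alternatingGroup α ≤ G := by
  haveI : MulAction.IsPreprimitive G α :=
    MulAction.isPreprimitive_of_is_two_pretransitive ((trans_iff hn).2 h2)
  have h0 : 2 ≤ g.support.card := Perm.two_le_card_support_of_ne_one hg1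
  rcases (show g.support.card = 2 ∨ g.support.card = 3 by omega) with h | h
  · rw [Perm.subgroup_eq_top_of_isPreprimitive_of_isSwap_mem inferInstance g
      (Perm.card_support_eq_two.1 h) hg]
    exact le_top
  · exact Equiv.Perm.alternatingGroup_le_of_isPreprimitive_of_isThreeCycle_mem inferInstance
      (card_support_eq_three_iff.1 h) hg

/-- The odd permutations of three points are the transpositions. -/
theorem exists_swap_of_odd {s : Finset α} (hs : s.card = 3) {σ : Perm α} (hσ : SuppIn s σ)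
    (hodd : Perm.sign σ ≠ 1) : ∃ a ∈ s, ∃ b ∈ s, a ≠ b ∧ σ = swap a b := by
  have hsub : σ.support ⊆ s := fun x hx => by_contra fun h => Perm.mem_support.1 hx (hσ x h)
  have h1 : σ ≠ 1 := fun e => hodd (by rw [e, map_one])
  have h0 := Perm.two_le_card_support_of_ne_one h1
  have h3 := Finset.card_le_card hsub
  rcases (show σ.support.card = 2 ∨ σ.support.card = 3 by omega) with h | h
  · obtain ⟨a, b, hab, rfl⟩ := Perm.card_support_eq_two.1 h
    rw [Perm.support_swap hab] at hsub
    exact ⟨a, hsub (by simp), b, hsub (by simp), hab, rfl⟩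
  · exact absurd (card_support_eq_three_iff.1 h).sign hodd

/-- A group transitive on sets of three and of four elements with an orientation of every triple
preserved cannot be two-transitive. -/
theorem oriented_false (hn : 5 ≤ Fintype.card α) (h2 : Trans G 2) (h3 : Homog G 3) (h4 : Homog G 4)
    (hno : ∀ s : Finset α, s.card = 3 → NoOdd G s) : False := by
  classical
  obtain ⟨a₀, b₀, c₀, -, -, -, hab₀, hac₀, hbc₀⟩ := Finset.two_lt_card_iff.1
    (show 2 < (Finset.univ : Finset α).card by rw [Finset.card_univ]; omega)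
  set s₀ : Finset α := {a₀, b₀, c₀} with hs₀
  have hs₀c : s₀.card = 3 := Finset.card_eq_three.2 ⟨_, _, _, hab₀, hac₀, hbc₀, rfl⟩
  let P : α → α → α → Prop := fun a b c => ∃ g ∈ G, ∃ τ, SuppIn s₀ τ ∧ Perm.sign τ = 1 ∧
    g (τ a₀) = a ∧ g (τ b₀) = b ∧ g (τ c₀) = c
  have hinv : ∀ h ∈ G, ∀ a b c, P a b c → P (h a) (h b) (h c) := by
    rintro h hh a b c ⟨g, hg, τ, hτ, hτs, rfl, rfl, rfl⟩
    exact ⟨h * g, G.mul_mem hh hg, τ, hτ, hτs, rfl, rfl, rfl⟩
  have hsw : SuppIn s₀ (swap a₀ b₀) := suppIn_swap (by simp [hs₀]) (by simp [hs₀])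
  have hasymm : ∀ a b c, P a b c → ¬ P b a c := by
    rintro a b c ⟨g, hg, τ, hτ, hτs, ha, hb, hc⟩ ⟨g', hg', τ', hτ', hτs', hb', ha', hc'⟩
    have := hno s₀ hs₀c (τ * swap a₀ b₀ * τ'⁻¹) ((hτ.mul hsw).mul hτ'.inv)
      ⟨g⁻¹ * g', G.mul_mem (G.inv_mem hg) hg', fun x hx => by
        obtain ⟨y, rfl⟩ : ∃ y, τ' y = x := ⟨τ'⁻¹ x, apply_inv_self τ' x⟩
        have hy : y ∈ s₀ := (hτ'.mem_iff y).1 hx
        rw [Perm.mul_apply, Perm.mul_apply, Perm.mul_apply, inv_apply_self, Perm.inv_eq_iff_eq]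
        simp only [hs₀, Finset.mem_insert, Finset.mem_singleton] at hy
        rcases hy with rfl | rfl | rfl
        · rw [swap_apply_left, hb', hb]
        · rw [swap_apply_right, ha', ha]
        · rw [swap_apply_of_ne_of_ne hac₀.symm hbc₀.symm, hc', hc]⟩
    rw [map_mul, map_mul, hτs, Perm.sign_inv, hτs', Perm.sign_swap hab₀] at this
    exact absurd this (by decide)
  have hrot : ∀ a b c, P a b c → P b c a := by
    rintro a b c ⟨g, hg, τ, hτ, hτs, ha, hb, hc⟩
    refine ⟨g, hg, τ * (swap a₀ b₀ * swap b₀ c₀),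
      hτ.mul (hsw.mul (suppIn_swap (by simp [hs₀]) (by simp [hs₀]))), ?_, ?_, ?_, ?_⟩
    · rw [map_mul, map_mul, hτs, Perm.sign_swap hab₀, Perm.sign_swap hbc₀]; decide
    · rw [Perm.mul_apply, Perm.mul_apply, swap_apply_of_ne_of_ne hab₀ hac₀, swap_apply_left, hb]
    · rw [Perm.mul_apply, Perm.mul_apply, swap_apply_left,
        swap_apply_of_ne_of_ne hac₀.symm hbc₀.symm, hc]
    · rw [Perm.mul_apply, Perm.mul_apply, swap_apply_right, swap_apply_right, ha]
  have htot : ∀ a b c, a ≠ b → a ≠ c → b ≠ c → P a b c ∨ P b a c := by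
    intro a b c hab hac hbc
    obtain ⟨g, hg, he⟩ := h3 s₀ {a, b, c} hs₀c (Finset.card_eq_three.2 ⟨_, _, _, hab, hac, hbc, rfl⟩)
    obtain ⟨ρ, hρ, hρ'⟩ := exists_suppIn s₀
      (fun x => if x = a₀ then g⁻¹ a else if x = b₀ then g⁻¹ b else g⁻¹ c)
      (fun x _ => by
        have hm : ∀ y ∈ ({a, b, c} : Finset α), g⁻¹ y ∈ s₀ := fun y hy => by
          rw [← he] at hy
          obtain ⟨z, hz, rfl⟩ := Finset.mem_image.1 hy
          rwa [inv_apply_self]
        split_ifs <;> exact hm _ (by simp))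
      (by
        intro x hx y hy e
        simp only [hs₀, Finset.coe_insert, Finset.coe_singleton, Set.mem_insert_iff,
          Set.mem_singleton_iff] at hx hy
        dsimp only at e
        rcases hx with rfl | rfl | rfl <;> rcases hy with rfl | rfl | rfl <;>
          simp_all [hab.symm, hac.symm, hbc.symm, hab₀.symm, hac₀.symm, hbc₀.symm])
    have ra : g (ρ a₀) = a := by rw [hρ' a₀ (by simp [hs₀]), if_pos rfl, apply_inv_self]
    have rb : g (ρ b₀) = b := by
      rw [hρ' b₀ (by simp [hs₀]), if_neg hab₀.symm, if_pos rfl, apply_inv_self]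
    have rc : g (ρ c₀) = c := by
      rw [hρ' c₀ (by simp [hs₀]), if_neg hac₀.symm, if_neg hbc₀.symm, apply_inv_self]
    rcases Int.units_eq_one_or (Perm.sign ρ) with h | h
    · exact Or.inl ⟨g, hg, ρ, hρ, h, ra, rb, rc⟩
    · refine Or.inr ⟨g, hg, ρ * swap a₀ b₀, hρ.mul hsw, ?_, ?_, ?_, ?_⟩
      · rw [map_mul, h, Perm.sign_swap hab₀]; decide
      · rw [Perm.mul_apply, swap_apply_left, rb]
      · rw [Perm.mul_apply, swap_apply_right, ra]
      · rw [Perm.mul_apply, swap_apply_of_ne_of_ne hac₀.symm hbc₀.symm, rc]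
  let ε : α → α → α → ℤ := fun a b c => if P a b c then 1 else -1
  have hε1 : ∀ a b c, a ≠ b → a ≠ c → b ≠ c → ε b a c = -ε a b c := by
    intro a b c hab hac hbc
    simp only [ε]
    rcases htot a b c hab hac hbc with h | h
    · rw [if_pos h, if_neg (hasymm _ _ _ h)]
    · rw [if_pos h, if_neg (hasymm _ _ _ h)]; norm_num
  have hε2 : ∀ a b c, ε b c a = ε a b c := by
    intro a b c
    simp only [ε]
    exact if_congr ⟨fun h => hrot _ _ _ (hrot _ _ _ h), hrot a b c⟩ rfl rfl
  have hε3 : ∀ a b c, a ≠ b → a ≠ c → b ≠ c → ε a c b = -ε a b c := by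
    intro a b c hab hac hbc
    rw [← hε2 a c b, hε1 b c a hbc hab.symm hac.symm, hε2]
  have hεg : ∀ g ∈ G, ∀ a b c, ε (g a) (g b) (g c) = ε a b c := by
    intro g hg a b c
    simp only [ε]
    refine if_congr ⟨fun h => ?_, hinv g hg a b c⟩ rfl rfl
    have := hinv g⁻¹ (inv_mem hg) _ _ _ h
    rwa [inv_apply_self, inv_apply_self, inv_apply_self] at this
  let δ : (Fin 4 → α) → ℤ := fun x =>
    ε (x 1) (x 2) (x 3) - ε (x 0) (x 2) (x 3) + ε (x 0) (x 1) (x 3) - ε (x 0) (x 1) (x 2)
  have hsym : ∀ π : Perm (Fin 4), ∀ x : Fin 4 → α, Function.Injective x →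
      (δ (x ∘ π)).natAbs = (δ x).natAbs := by
    intro π
    have hπ : π ∈ Submonoid.closure (Set.range fun i : Fin 3 => swap i.castSucc i.succ) := by
      rw [Perm.mclosure_swap_castSucc_succ]; trivial
    induction hπ using Submonoid.closure_induction with
    | mem π hπ =>
      intro x hx
      obtain ⟨i, rfl⟩ := hπ
      have h : ∀ i j k : Fin 4, i ≠ j → i ≠ k → j ≠ k →
          ε (x j) (x i) (x k) = -ε (x i) (x j) (x k) ∧
          ε (x i) (x k) (x j) = -ε (x i) (x j) (x k) := fun i j k hij hik hjk =>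
        ⟨hε1 _ _ _ (hx.ne hij) (hx.ne hik) (hx.ne hjk),
          hε3 _ _ _ (hx.ne hij) (hx.ne hik) (hx.ne hjk)⟩
      have h012 := h 0 1 2 (by decide) (by decide) (by decide)
      have h013 := h 0 1 3 (by decide) (by decide) (by decide)
      have h023 := h 0 2 3 (by decide) (by decide) (by decide)
      have h123 := h 1 2 3 (by decide) (by decide) (by decide)
      fin_cases i <;>
        simp [δ, Function.comp_def, swap_apply_def, h012.1, h012.2, h013.1, h013.2, h023.1,
          h023.2, h123.1, h123.2] <;> omega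
    | one => intro x _; rfl
    | mul π ρ _ _ ihπ ihρ =>
      intro x hx
      rw [show x ∘ ⇑(π * ρ) = (x ∘ π) ∘ ρ from rfl, ihρ _ (hx.comp π.injective), ihπ x hx]
  have hconst : ∀ x y : Fin 4 → α, Function.Injective x → Function.Injective y →
      (δ x).natAbs = (δ y).natAbs := by
    intro x y hx hy
    obtain ⟨g, hg, he⟩ := h4 (Finset.univ.image x) (Finset.univ.image y)
      (by rw [Finset.card_image_of_injective _ hx]; rfl)
      (by rw [Finset.card_image_of_injective _ hy]; rfl)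
    have hm : ∀ i, ∃ j, y j = g (x i) := fun i => by
      have : g (x i) ∈ Finset.univ.image y :=
        he ▸ Finset.mem_image_of_mem g (Finset.mem_image_of_mem x (Finset.mem_univ i))
      obtain ⟨j, -, hj⟩ := Finset.mem_image.1 this
      exact ⟨j, hj⟩
    choose f hf using hm
    have hfi : Function.Injective f := fun i j e => hx (g.injective (by rw [← hf, ← hf, e]))
    have := hsym (Equiv.ofBijective f (Finite.injective_iff_bijective.1 hfi)) y hy
    rw [← this]
    simp only [δ, Function.comp_def, Equiv.ofBijective_apply, hf, hεg g hg]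
  -- five points
  obtain ⟨e⟩ : Nonempty (Fin 5 ↪ α) :=
    Function.Embedding.nonempty_of_card_le (by rw [Fintype.card_fin]; exact hn)
  have he : ∀ i : Fin 5, Function.Injective (e ∘ i.succAbove) := fun i =>
    e.injective.comp Fin.succAbove_right_injective
  have hzero : ∀ x : Fin 4 → α, Function.Injective x → δ x = 0 := by
    intro x hx
    have e0 := hconst _ x (he 0) hx
    have e1 := hconst _ x (he 1) hx
    have e2 := hconst _ x (he 2) hx
    have e3 := hconst _ x (he 3) hx
    have e4 := hconst _ x (he 4) hx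
    have hsum : δ (e ∘ (0 : Fin 5).succAbove) - δ (e ∘ (1 : Fin 5).succAbove) +
        δ (e ∘ (2 : Fin 5).succAbove) - δ (e ∘ (3 : Fin 5).succAbove) +
        δ (e ∘ (4 : Fin 5).succAbove) = 0 := by
      simp [δ, Function.comp_def, Fin.succAbove, Fin.lt_def]
      ring
    omega
  obtain ⟨a, -⟩ := Finset.card_pos.1 (show 0 < (Finset.univ : Finset α).card by
    rw [Finset.card_univ]; omega)
  have hS : ∀ x, x ∈ ({a} : Finset α)ᶜ ↔ x ≠ a := fun x => by simp
  refine no_transitive_order (H := fixer G {a}) (S := {a}ᶜ)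
    (by rw [Finset.card_compl, Finset.card_singleton]; omega) (fun h hh x hx => ?_)
    (fun x hx y hy => ?_) (fun x y => x ≠ y ∧ P a x y)
    (fun h hh x _ y _ hR => ⟨h.injective.ne hR.1, ?_⟩) (fun x hx y hy hR hR' => ?_)
    (fun x hx y hy hxy => ?_) (fun x hx y hy z hz hxz hxy hyz => ⟨hxz, ?_⟩)
  · rw [hS] at hx ⊢
    rw [← hh.2 a (by simp)]
    exact h.injective.ne hx
  · have : y ∈ orbFin G {a} x := by
      rw [orbFin_eq_compl h2 (by simp) (Finset.mem_compl.1 hx)]; exact hy
    exact mem_orbFin.1 this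
  · have := hinv h hh.1 a x y hR.2
    rwa [hh.2 a (by simp)] at this
  · rw [hS] at hx hy
    exact hasymm _ _ _ (hrot _ _ _ hR.2) (hrot _ _ _ hR'.2)
  · rw [hS] at hx hy
    rcases htot a x y hx.symm hy.symm hxy with h | h
    · exact Or.inl ⟨hxy, h⟩
    · exact Or.inr ⟨hxy.symm, hrot _ _ _ h⟩
  · rw [hS] at hx hy hz
    rcases htot a x z hx.symm hz.symm hxz with h | h
    · exact h
    exfalso
    have d := hzero ![a, x, y, z] (by
      intro i j e
      fin_cases i <;> fin_cases j <;> first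
        | rfl
        | (exfalso; simp [hx, hy, hz, hx.symm, hy.symm, hz.symm, hxy.1, hxy.1.symm, hyz.1,
            hyz.1.symm, hxz, hxz.symm] at e))
    have e1 : ε a x y = 1 := if_pos hxy.2
    have e2 : ε a y z = 1 := if_pos hyz.2
    have e3 : ε a x z = -1 := if_neg fun h' => hasymm _ _ _ h' h
    have e4 : ε x y z = 1 ∨ ε x y z = -1 := by
      simp only [ε]; split_ifs <;> simp
    simp [δ, e1, e2, e3] at d
    omega

end CfsgLib.Homog
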