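import Mathlib
import Cfsg.Agent.Homog.Alternating
import Cfsg.Agent.Homog.Small
import Cfsg.Agent.Homog.FourPoints
import Cfsg.Agent.Homog.FiveParam
import Cfsg.Agent.Homog.Seven

/-!
The two parameter sets of degree nine.
-/

namespace CfsgLib.Homog

open Equiv

variable {α : Type*} [DecidableEq α] [Fintype α] {G : Subgroup (Perm α)}

theorem nine_twelve (hn : Fintype.card α = 9) (h3 : Trans G 3) (hn4 : ¬ Trans G 4) {κ : ℕ}
    (hs : ∀ s : Finset α, s.card = 4 →
      Nat.card (inducedSub G s) = 12 ∧ Nat.card (fixer G s) = κ)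
    (hT : ∀ T : Finset α, T.card = 3 → Nat.card (fixer G T) = 3 * κ ∧
      ∀ x ∉ T, (orbFin G T x).card = 3) : Nat.card G = 1512 := by
  classical
  obtain ⟨T, -, hT3⟩ := Finset.exists_subset_card_eq (s := (Finset.univ : Finset α)) (n := 3)
    (by simp only [Finset.card_univ]; omega)
  obtain ⟨x, hx⟩ := Finset.card_pos.1 (show 0 < Tᶜ.card by rw [Finset.card_compl]; omega)
  rw [Finset.mem_compl] at hx
  have h4c : (insert x T).card = 4 := by rw [Finset.card_insert_of_notMem hx, hT3]
  suffices hK : fixer G (insert x T) = ⊥ by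
    have h1 := (hs _ h4c).2
    rw [hK, Subgroup.card_bot] at h1
    rw [card_eq_descFactorial h3 hT3.le, hT3, (hT T hT3).1, hn, ← h1,
      show Nat.descFactorial 9 3 = 504 by decide]
  -- no involutions
  have hodd : Odd (Nat.card (fixer G (insert x T))) := by
    refine odd_card_of_no_invol fun k hk hk2 => ?_
    by_contra hk1
    obtain ⟨p, hp⟩ : ∃ p, k p ≠ p := by
      by_contra h
      simp only [not_exists, not_not] at h
      exact hk1 (Equiv.ext h)
    have hkk : k (k p) = p := by rw [← Perm.mul_apply, hk2, Perm.one_apply]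
    have hpT : p ∉ insert x T := fun h => hp (hk.2 p h)
    have hkpT : k p ∉ insert x T := fun h => hp (k.injective (hk.2 _ h))
    obtain ⟨D, hD, hD2⟩ := Finset.exists_subset_card_eq (s := insert x T) (n := 2) (by omega)
    have hd : Disjoint D {p, k p} := by
      simp only [Finset.disjoint_insert_right, Finset.disjoint_singleton_right]
      exact ⟨fun h => hpT (hD h), fun h => hkpT (hD h)⟩
    have hc : (D ∪ {p, k p}).card = 4 := by
      rw [Finset.card_union_of_disjoint hd, hD2, Finset.card_pair hp.symm]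
    have := noOdd_of_card_twelve hc (hs _ hc).1 (swap p (k p))
      (suppIn_swap (by simp) (by simp)) ⟨k, hk.1, fun z hz => by
        simp only [Finset.mem_union, Finset.mem_insert, Finset.mem_singleton] at hz
        rcases hz with hz | rfl | rfl
        · rw [hk.2 z (hD hz), swap_apply_of_ne_of_ne (ne_of_mem_of_not_mem (hD hz) hpT)
            (ne_of_mem_of_not_mem (hD hz) hkpT)]
        · rw [swap_apply_left]
        · rw [swap_apply_right, hkk]⟩
    rw [Perm.sign_swap hp.symm] at this
    exact absurd this (by decide)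
  rw [Subgroup.eq_bot_iff_forall]
  intro k hk
  by_contra hk1
  refine hn4 (trans_of_alternating_le
    (alternating_le_of_small_support (h3.mono (by norm_num)) (by omega) hk.1 hk1 ?_) (by omega))
  set O := orbFin G T x with hO
  have hO3 : O.card = 3 := (hT T hT3).2 x hx
  have hkO : ∀ y ∈ O, k y ∈ O := fun y hy =>
    mem_orbFin_trans hy (mem_orbFin.2 ⟨k, fixer_mono (Finset.subset_insert x T) hk, rfl⟩)
  have hkx : k x = x := hk.2 x (Finset.mem_insert_self x T)
  have hOx : (O.erase x).card = 2 := by
    rw [Finset.card_erase_of_mem (self_mem_orbFin T x), hO3]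
  have hfixO : ∀ y ∈ O, k y = y := by
    intro y hy
    rcases eq_or_ne y x with rfl | hyx
    · exact hkx
    refine fix_of_sq_fix (odd_orderOf hodd hk) ?_
    have hm : ∀ z ∈ O.erase x, k z ∈ O.erase x := fun z hz => Finset.mem_erase.2
      ⟨fun e => (Finset.mem_erase.1 hz).1 (k.injective (e.trans hkx.symm)),
        hkO z (Finset.mem_of_mem_erase hz)⟩
    obtain ⟨p, p', hpp, he⟩ := Finset.card_eq_two.1 hOx
    have hy' : y ∈ O.erase x := Finset.mem_erase.2 ⟨hyx, hy⟩
    have k1 := hm y hy'
    have k2 := hm _ k1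
    rw [he] at hy' k1 k2
    simp only [Finset.mem_insert, Finset.mem_singleton] at hy' k1 k2
    rcases hy' with rfl | rfl <;> rcases k1 with k1 | k1 <;> rw [k1] at k2 ⊢ <;>
      first
        | exact k1
        | (rcases k2 with k2 | k2
           · first | exact k2 | exact absurd (k.injective (k2.trans k1.symm)) (by tauto)
           · first | exact k2 | exact absurd (k.injective (k2.trans k1.symm)) (by tauto))
  refine le_trans (Finset.card_le_card (t := (T ∪ O)ᶜ) fun y hy => ?_) ?_
  · rw [Finset.mem_compl, Finset.mem_union]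
    rw [Perm.mem_support] at hy
    rintro (h | h)
    · exact hy (hk.2 y (Finset.mem_insert_of_mem h))
    · exact hy (hfixO y h)
  · rw [Finset.card_compl, Finset.card_union_of_disjoint
      (Finset.disjoint_left.2 fun y hy hy' => notMem_of_mem_orbFin hx hy' hy), hT3, hO3, hn]

theorem nine_eight_bound (hn : Fintype.card α = 9) (h3 : Trans G 3) (hn4 : ¬ Trans G 4)
    (hT : ∀ T : Finset α, T.card = 3 → ∀ x ∉ T, (orbFin G T x).card = 2) {T : Finset α}
    (hT3 : T.card = 3) {x : α} (hx : x ∉ T) : Nat.card (fixer G (insert x T)) ≤ 2 := by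
  classical
  have hO2 : (orbFin G T x).card = 2 := hT T hT3 x hx
  have huniq : ∀ k ∈ fixer G (insert x T), ∀ k' ∈ fixer G (insert x T), k ≠ 1 → k' ≠ 1 → k = k' := by
    -- the moved points are the four points outside `T` and the orbit of `x`
    have hmove : ∀ k ∈ fixer G (insert x T), k ≠ 1 → ∀ w, k w = w ↔ w ∈ T ∪ orbFin G T x := by
      intro k hk hk1
      have hfixed : ∀ w ∈ T ∪ orbFin G T x, k w = w := by
        intro w hw
        rcases Finset.mem_union.1 hw with hw | hw
        · exact hk.2 w (Finset.mem_insert_of_mem hw)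
        rcases eq_or_ne w x with rfl | hwx
        · exact hk.2 w (Finset.mem_insert_self _ _)
        have hkw : k w ∈ (orbFin G T x).erase x := Finset.mem_erase.2
          ⟨fun e => hwx (k.injective (e.trans (hk.2 x (Finset.mem_insert_self x T)).symm)),
            mem_orbFin_trans hw (mem_orbFin.2 ⟨k, fixer_mono (Finset.subset_insert x T) hk, rfl⟩)⟩
        obtain ⟨y, hy⟩ := Finset.card_eq_one.1 (show ((orbFin G T x).erase x).card = 1 by
          rw [Finset.card_erase_of_mem (self_mem_orbFin T x), hO2])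
        have hwy : w ∈ (orbFin G T x).erase x := Finset.mem_erase.2 ⟨hwx, hw⟩
        rw [hy, Finset.mem_singleton] at hkw hwy
        rw [hkw, hwy]
      intro w
      refine ⟨fun hw => ?_, hfixed w⟩
      by_contra hwU
      refine hn4 (trans_of_alternating_le
        (alternating_le_of_small_support (h3.mono (by norm_num)) (by omega) hk.1 hk1 ?_) (by omega))
      refine le_trans (Finset.card_le_card (t := (insert w (T ∪ orbFin G T x))ᶜ) fun y hy => ?_) ?_
      · rw [Finset.mem_compl, Finset.mem_insert]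
        rw [Perm.mem_support] at hy
        rintro (rfl | h)
        · exact hy hw
        · exact hy (hfixed y h)
      · rw [Finset.card_compl, Finset.card_insert_of_notMem hwU, Finset.card_union_of_disjoint
          (Finset.disjoint_left.2 fun y hy hy' => notMem_of_mem_orbFin hx hy' hy), hT3, hO2, hn]
    intro k hk k' hk' hk1 hk1'
    refine Equiv.ext fun w => ?_
    by_cases hw : w ∈ T ∪ orbFin G T x
    · rw [(hmove k hk hk1 w).2 hw, (hmove k' hk' hk1' w).2 hw]
    · have hwT : w ∉ T := fun h => hw (Finset.mem_union_left _ h)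
      obtain ⟨y, hy⟩ := Finset.card_eq_one.1 (show ((orbFin G T w).erase w).card = 1 by
        rw [Finset.card_erase_of_mem (self_mem_orbFin T w), hT T hT3 w hwT])
      have key : ∀ k ∈ fixer G (insert x T), k ≠ 1 → k w = y := fun k hk hk1 => by
        rw [← Finset.mem_singleton, ← hy]
        exact Finset.mem_erase.2 ⟨fun e => hw ((hmove k hk hk1 w).1 e),
          mem_orbFin.2 ⟨k, fixer_mono (Finset.subset_insert x T) hk, rfl⟩⟩
      rw [key k hk hk1, key k' hk' hk1']
  have hinj : Function.Injective fun k : fixer G (insert x T) => decide ((k : Perm α) = 1) := by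
    intro k k' e
    simp only [decide_eq_decide] at e
    by_cases h : (k : Perm α) = 1
    · exact Subtype.ext (h.trans (e.1 h).symm)
    · exact Subtype.ext (huniq _ k.2 _ k'.2 h fun h' => h (e.2 h'))
  have := Nat.card_le_card_of_injective _ hinj
  rwa [Nat.card_eq_fintype_card (α := Bool), Fintype.card_bool] at this

theorem nine_eight (hn : Fintype.card α = 9) (h3 : Trans G 3) (hn4 : ¬ Trans G 4) {κ : ℕ}
    (hs : ∀ s : Finset α, s.card = 4 →
      Nat.card (inducedSub G s) = 8 ∧ Nat.card (fixer G s) = κ)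
    (hT : ∀ T : Finset α, T.card = 3 → Nat.card (fixer G T) = 2 * κ ∧
      ∀ x ∉ T, (orbFin G T x).card = 2) : False := by
  classical
  obtain ⟨s, -, hs4⟩ := Finset.exists_subset_card_eq (s := (Finset.univ : Finset α)) (n := 4)
    (by simp only [Finset.card_univ]; omega)
  obtain ⟨a, ha⟩ := Finset.card_pos.1 (show 0 < s.card by omega)
  obtain ⟨b, hb, hba, hi, -⟩ := partner_of_card_eight hs4 (hs s hs4).1 ha
  obtain ⟨c, x, hcx, he⟩ := Finset.card_eq_two.1 (show ((s.erase a).erase b).card = 2 by
    rw [Finset.card_erase_of_mem (Finset.mem_erase.2 ⟨hba, hb⟩), Finset.card_erase_of_mem ha, hs4])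
  obtain ⟨hcb, hca, hc⟩ : c ≠ b ∧ c ≠ a ∧ c ∈ s := by
    simpa using (he.ge (by simp) : c ∈ (s.erase a).erase b)
  obtain ⟨hxb, hxa, hx⟩ : x ≠ b ∧ x ≠ a ∧ x ∈ s := by
    simpa using (he.ge (by simp) : x ∈ (s.erase a).erase b)
  have hT3 : ({a, b, c} : Finset α).card = 3 :=
    Finset.card_eq_three.2 ⟨a, b, c, hba.symm, hca.symm, hcb.symm, rfl⟩
  have hxT : x ∉ ({a, b, c} : Finset α) := by simp [hxa, hxb, hcx.symm]
  have hκ : κ ≤ 2 := by
    rw [← (hs _ (by rw [Finset.card_insert_of_notMem hxT, hT3] :
      (insert x {a, b, c} : Finset α).card = 4)).2]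
    exact nine_eight_bound hn h3 hn4 (fun T hT' => (hT T hT').2) hT3 hxT
  have hκ0 : 1 ≤ κ := by
    rw [← (hs s hs4).2]; exact Nat.card_pos
  set N := fixer G {a, b} with hN
  have hNcard : Nat.card N = 14 * κ := by
    have e1 := card_eq_descFactorial h3
      (show ({a, b} : Finset α).card ≤ 3 from Finset.card_le_two.trans (by norm_num))
    have e2 := card_eq_descFactorial h3 hT3.le
    rw [Finset.card_pair hba.symm, hn, ← hN] at e1
    rw [hT3, (hT _ hT3).1, hn, e1, show Nat.descFactorial 9 2 = 72 by decide,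
      show Nat.descFactorial 9 3 = 504 by decide] at e2
    omega
  haveI : Fact (Nat.Prime 7) := ⟨by norm_num⟩
  obtain ⟨π₀, hπ₀⟩ := exists_prime_orderOf_dvd_card' (G := N) 7 (by
    rw [hNcard]; exact dvd_mul_of_dvd_left (by norm_num) κ)
  set π : Perm α := (π₀ : Perm α) with hπ
  have hπo : orderOf π = 7 := by rw [hπ, Subgroup.orderOf_coe, hπ₀]
  have hπfix : ∀ m : ℕ, (π ^ m) c = c → 7 ∣ m := by
    intro m hm
    by_contra hd
    have hmem : π ^ m ∈ fixer G {a, b, c} := ⟨G.pow_mem π₀.2.1 m, fun y hy => by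
      simp only [Finset.mem_insert, Finset.mem_singleton] at hy
      rcases hy with rfl | rfl | rfl
      · exact (N.pow_mem π₀.2 m).2 _ (by simp)
      · exact (N.pow_mem π₀.2 m).2 _ (by simp)
      · exact hm⟩
    have h1 : orderOf (π ^ m) = 7 := by
      rw [Nat.Coprime.orderOf_pow (by rw [hπo]; exact (Nat.Prime.coprime_iff_not_dvd (by norm_num)).2 hd),
        hπo]
    have h2 := orderOf_dvd_natCard (⟨_, hmem⟩ : fixer G {a, b, c})
    rw [Subgroup.orderOf_mk, h1, (hT _ hT3).1] at h2
    have := Nat.le_of_dvd (by omega) h2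
    omega
  let f : Fin 7 → α := fun i => (π ^ (i : ℕ)) c
  have hf : Function.Injective f := by
    have key : ∀ i j : Fin 7, (i : ℕ) ≤ j → f i = f j → i = j := by
      intro i j hle e
      have h1 : (π ^ ((j : ℕ) - i)) c = c := (π ^ (i : ℕ)).injective (by
        rw [← Perm.mul_apply, ← pow_add, show (i : ℕ) + ((j : ℕ) - i) = j by omega]
        exact e.symm)
      have h2 := hπfix _ h1
      have := j.isLt
      exact Fin.ext (by omega)
    intro i j e
    rcases le_total (i : ℕ) j with h | h
    · exact key i j h e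
    · exact (key j i h e.symm).symm
  have hall : ∀ y, y ≠ a → y ≠ b → ∃ i, f i = y := by
    have hsub : Finset.univ.image f = ({a, b} : Finset α)ᶜ := by
      refine Finset.eq_of_subset_of_card_le (fun y hy => ?_) ?_
      · obtain ⟨i, -, rfl⟩ := Finset.mem_image.1 hy
        rw [Finset.mem_compl]
        intro h
        have e : (π ^ (i : ℕ)) ((π ^ (i : ℕ)) c) = (π ^ (i : ℕ)) c :=
          (N.pow_mem π₀.2 i).2 _ h
        have : f i = c := (π ^ (i : ℕ)).injective e
        rw [this] at h
        simp [hca, hcb] at h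
      · rw [Finset.card_compl, Finset.card_pair hba.symm, hn,
          Finset.card_image_of_injective _ hf, Finset.card_univ, Fintype.card_fin]
    intro y hya hyb
    obtain ⟨i, -, hi⟩ := Finset.mem_image.1 (hsub.ge (by simp [hya, hyb] : y ∈ ({a, b} : Finset α)ᶜ))
    exact ⟨i, hi⟩
  obtain ⟨g, hg, hg'⟩ := hi
  have ga : g a = b := by rw [hg' a ha, swap_apply_left]
  have gb : g b = a := by rw [hg' b hb, swap_apply_right]
  have gc : g c = c := by rw [hg' c hc, swap_apply_of_ne_of_ne hca hcb]
  have gx : g x = x := by rw [hg' x hx, swap_apply_of_ne_of_ne hxa hxb]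
  have hconj : g * π * g⁻¹ ∈ N := by
    have := (fixer_map_conj hg {a, b}).le ⟨π, π₀.2, rfl⟩
    rwa [show ({a, b} : Finset α).image g = {a, b} by simp [ga, gb, Finset.pair_comm]] at this
  have hnd : ∀ d, 7 * d ∣ Nat.card N → d % 7 = 1 → d = 1 := fun d hd hd1 => by
    rw [hNcard, show 14 * κ = 7 * (2 * κ) by ring] at hd
    have := Nat.le_of_dvd (by omega) (Nat.dvd_of_mul_dvd_mul_left (by norm_num) hd)
    omega
  have hsq : ¬ 7 ^ 2 ∣ Nat.card N := fun h => by
    have := Nat.le_of_dvd (by omega) h
    omega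
  obtain ⟨m, hm⟩ := (mem_powers_iff_mem_zpowers (x := π₀) (y := (⟨_, hconj⟩ : N))).2
    (mem_zpowers_of_orderOf hsq hnd hπ₀
      (by rw [Subgroup.orderOf_mk, ← MulAut.conj_apply, MulEquiv.orderOf_eq, hπo]))
  have hm' : π ^ m = g * π * g⁻¹ := congrArg (fun z : N => (z : Perm α)) hm
  have hpow : ∀ i : ℕ, g * π ^ i * g⁻¹ = π ^ (m * i) := fun i => by
    rw [pow_mul, hm', ← MulAut.conj_apply, ← MulAut.conj_apply, map_pow]
  obtain ⟨i, hi'⟩ := hall x hxa hxb
  have hgc : g⁻¹ c = c := by rw [Perm.inv_eq_iff_eq, gc]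
  have hfx : (π ^ (m * (i : ℕ))) c = (π ^ (i : ℕ)) c := by
    rw [← hpow, Perm.mul_apply, Perm.mul_apply, hgc]
    exact (congrArg g hi').trans (gx.trans hi'.symm)
  have hcomm : Commute g π := by
    have hi0 : (i : ℕ) % 7 ≠ 0 := by
      intro h
      have hlt := i.isLt
      have hf0 : f i = c := by
        show (π ^ (i : ℕ)) c = c
        rw [show (i : ℕ) = 0 by omega, pow_zero, Perm.one_apply]
      exact hcx (hf0.symm.trans hi')
    have hm1 : π ^ m = π := by
      rw [← pow_mod_orderOf, hπo]
      have hm7 : m % 7 = 1 := by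
        rcases le_total (m * (i : ℕ)) i with h | h
        · have h1 : (π ^ ((i : ℕ) - m * i)) c = c := (π ^ (m * (i : ℕ))).injective (by
            rw [← Perm.mul_apply, ← pow_add, show m * (i : ℕ) + ((i : ℕ) - m * i) = i by omega]
            exact hfx.symm)
          have h2 := hπfix _ h1
          have hi7 := i.isLt
          rcases Nat.eq_zero_or_pos m with rfl | hm0
          · simp at h2; omega
          · have h3 : (i : ℕ) ≤ m * i := Nat.le_mul_of_pos_left _ hm0
            have h4 : m * (i : ℕ) = 1 * i := by omega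
            rw [Nat.eq_of_mul_eq_mul_right (by omega) h4]
        · have h1 : (π ^ (m * i - (i : ℕ))) c = c := (π ^ (i : ℕ)).injective (by
            rw [← Perm.mul_apply, ← pow_add, show (i : ℕ) + (m * (i : ℕ) - i) = m * i by omega]
            exact hfx)
          have h2 := hπfix _ h1
          rcases Nat.eq_zero_or_pos m with rfl | hm0
          · simp at h; omega
          · rw [show m * (i : ℕ) - i = (m - 1) * i by rw [Nat.sub_mul, one_mul]] at h2
            have h3 : 7 ∣ m - 1 := ((Nat.Prime.dvd_mul (by norm_num)).1 h2).resolve_right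
              fun h => hi0 (Nat.mod_eq_zero_of_dvd h |> id)
            omega
      rw [hm7, pow_one]
    rw [hm1] at hm'
    show g * π = π * g
    conv_rhs => rw [hm', inv_mul_cancel_right]
  refine hn4 (trans_of_alternating_le
    (alternating_le_of_small_support (h3.mono (by norm_num)) (by omega) hg
      (fun e => hba (by rw [← ga, e, Perm.one_apply])) ?_) (by omega))
  refine le_trans (Finset.card_le_card (t := ({a, b} : Finset α)) fun y hy => ?_)
    (Finset.card_le_two.trans (by norm_num))
  by_contra hy'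
  simp only [Finset.mem_insert, Finset.mem_singleton, not_or] at hy'
  obtain ⟨j, hj⟩ := hall y hy'.1 hy'.2
  refine Perm.mem_support.1 hy ?_
  rw [← hj]
  show g ((π ^ (j : ℕ)) c) = (π ^ (j : ℕ)) c
  rw [← Perm.mul_apply, (hcomm.pow_right j).eq, Perm.mul_apply, gc]

end CfsgLib.Homog
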