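import Mathlib

/-!
There is no strongly regular graph with 22 vertices of valency 7.
-/

namespace CfsgLib.Homog

open Matrix

theorem trace_idempotent_natCast {V : Type*} [Fintype V] [DecidableEq V] {E : Matrix V V ℝ}
    (hE : E * E = E) : ∃ f : ℕ, E.trace = f := by
  have hf : IsIdempotentElem (Matrix.toLin' E) := by
    show Matrix.toLin' E * Matrix.toLin' E = Matrix.toLin' E
    rw [Module.End.mul_eq_comp, ← Matrix.toLin'_mul, hE]
  refine ⟨Module.finrank ℝ (LinearMap.range (Matrix.toLin' E)), ?_⟩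
  rw [← Matrix.trace_toLin'_eq]
  exact (LinearMap.IsIdempotentElem.isProj_range _ hf).trace

theorem srg22_false {V : Type*} [Fintype V] [DecidableEq V] (hV : Fintype.card V = 22)
    (adj : V → V → Prop) [DecidableRel adj] (hsymm : ∀ x y, adj x y → adj y x)
    (hirr : ∀ x, ¬ adj x x) (hdeg : ∀ x, (Finset.univ.filter fun y => adj x y).card = 7) {l m : ℕ}
    (hl : ∀ x y, adj x y → (Finset.univ.filter fun z => adj x z ∧ adj z y).card = l)
    (hm : ∀ x y, x ≠ y → ¬ adj x y →
      (Finset.univ.filter fun z => adj x z ∧ adj z y).card = m) : False := by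
  classical
  let A : Matrix V V ℝ := Matrix.of fun i j => if adj i j then 1 else 0
  let J : Matrix V V ℝ := Matrix.of fun _ _ => 1
  have hAA : A * A = (7 - m : ℝ) • (1 : Matrix V V ℝ) + ((l : ℝ) - m) • A + (m : ℝ) • J := by
    ext i j
    have hsum : (A * A) i j = ((Finset.univ.filter fun z => adj i z ∧ adj z j).card : ℝ) := by
      simp only [Matrix.mul_apply, A, Matrix.of_apply]
      rw [Finset.card_filter]
      push_cast
      refine Finset.sum_congr rfl fun z _ => ?_
      by_cases h1 : adj i z <;> by_cases h2 : adj z j <;> simp [h1, h2]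
    rw [hsum]
    rcases eq_or_ne i j with rfl | hij
    · have : (Finset.univ.filter fun z => adj i z ∧ adj z i) =
          Finset.univ.filter fun z => adj i z := by
        ext z
        simpa using hsymm i z
      rw [this, hdeg]
      simp [A, J, hirr]
    · by_cases h : adj i j
      · rw [hl i j h]; simp [A, J, h, hij]
      · rw [hm i j hij h]; simp [A, J, h, hij]
  have hAJ : A * J = (7 : ℝ) • J := by
    ext i j
    simp [Matrix.mul_apply, A, J, Finset.sum_ite, hdeg]
  have hJA : J * A = (7 : ℝ) • J := by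
    ext i j
    have : (Finset.univ.filter fun x => adj x j) = Finset.univ.filter fun x => adj j x := by
      ext x
      simp only [Finset.mem_filter, Finset.mem_univ, true_and]
      exact ⟨hsymm x j, hsymm j x⟩
    simp [Matrix.mul_apply, A, J, Finset.sum_ite, this, hdeg]
  have hJJ : J * J = (22 : ℝ) • J := by
    ext i j
    simp [Matrix.mul_apply, J, hV]
  have hlm : 7 * l + 14 * m = 42 := by
    obtain ⟨i⟩ : Nonempty V := Fintype.card_pos_iff.1 (by omega)
    have h := congrArg (fun M : Matrix V V ℝ => (M * J) i i) hAA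
    simp only [Matrix.add_mul, Matrix.smul_mul, Matrix.mul_assoc, hAJ, hJJ, Matrix.one_mul,
      Matrix.mul_smul, Matrix.add_apply, Matrix.smul_apply, smul_eq_mul] at h
    simp only [J, Matrix.of_apply] at h
    have h' : (7 * l + 14 * m : ℝ) = 42 := by linarith
    exact_mod_cast h'
  set e : ℝ := (l : ℝ) - m with he
  set d : ℝ := Real.sqrt (e ^ 2 + 4 * (7 - m)) with hd
  have hm7 : (m : ℝ) ≤ 3 := by exact_mod_cast (show m ≤ 3 by omega)
  have hd2 : d * d = e ^ 2 + 4 * (7 - m) := Real.mul_self_sqrt (by nlinarith)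
  have hd0 : d ≠ 0 := by
    intro h
    rw [h] at hd2
    nlinarith
  set s : ℝ := (e - d) / 2 with hs
  set c : ℝ := (7 - s) / 22 with hc
  set M : Matrix V V ℝ := A - s • (1 : Matrix V V ℝ) - c • J with hM
  have hlm' : (7 * l + 14 * m : ℝ) = 42 := by exact_mod_cast hlm
  have k0 : e - 2 * s = d := by rw [hs]; ring
  have k1 : 7 - (m : ℝ) + s ^ 2 = -(d * s) := by rw [hs]; linear_combination (-1 / 4 : ℝ) * hd2
  have k2 : (m : ℝ) - 14 * c + 2 * s * c + 22 * c ^ 2 = -(d * c) := by
    rw [hc, hs]; linear_combination (1 / 88 : ℝ) * hd2 + (1 / 22 : ℝ) * hlm'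
  have hMM : M * M = d • M := by
    rw [hM]
    simp only [Matrix.sub_mul, Matrix.mul_sub, Matrix.smul_mul, Matrix.mul_smul, Matrix.one_mul,
      Matrix.mul_one, hAA, hAJ, hJA, hJJ]
    ext i j
    simp only [Matrix.sub_apply, Matrix.add_apply, Matrix.smul_apply, smul_eq_mul]
    linear_combination (1 : Matrix V V ℝ) i j * k1 + A i j * k0 + J i j * k2
  obtain ⟨f, hf⟩ := trace_idempotent_natCast (E := d⁻¹ • M) (by
    rw [Matrix.smul_mul, Matrix.mul_smul, hMM, smul_smul, smul_smul]
    congr 1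
    field_simp)
  have htA : A.trace = 0 := by simp [Matrix.trace, A, hirr]
  have htJ : J.trace = 22 := by simp [Matrix.trace, J, hV]
  rw [Matrix.trace_smul, hM, Matrix.trace_sub, Matrix.trace_sub, Matrix.trace_smul,
    Matrix.trace_smul, Matrix.trace_one, htA, htJ, hV, smul_eq_mul, smul_eq_mul, smul_eq_mul] at hf
  have h1 : (2 * (f : ℝ) - 21) * d = -(21 * e + 14) := by
    rw [← hf, hc, hs]
    field_simp
    push_cast
    ring
  have h2 : ((2 * (f : ℝ) - 21) ^ 2) * (e ^ 2 + 4 * (7 - m)) = (21 * e + 14) ^ 2 := by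
    rw [← hd2]
    linear_combination ((2 * (f : ℝ) - 21) * d - (21 * e + 14)) * h1
  have h3 : ((2 * (f : ℤ) - 21) ^ 2) * (((l : ℤ) - m) ^ 2 + 4 * (7 - (m : ℤ))) =
      (21 * ((l : ℤ) - m) + 14) ^ 2 := by
    rw [he] at h2
    exact_mod_cast h2
  generalize (2 * (f : ℤ) - 21) ^ 2 = w at h3
  obtain ⟨rfl, rfl⟩ | ⟨rfl, rfl⟩ | ⟨rfl, rfl⟩ | ⟨rfl, rfl⟩ :
      (m = 0 ∧ l = 6) ∨ (m = 1 ∧ l = 4) ∨ (m = 2 ∧ l = 2) ∨ (m = 3 ∧ l = 0) := by omega
  all_goals
    norm_num at h3
    omega

end CfsgLib.Homog
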