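import Mathlib
import Cfsg.Agent.Homog.FourPoints
import Cfsg.Agent.Homog.FiveParam
import Cfsg.Agent.Homog.Srg

/-!
The parameter sets of degrees nineteen and twenty-four.
-/

namespace CfsgLib.Homog

open Equiv

variable {α : Type*} [DecidableEq α] [Fintype α] {G : Subgroup (Perm α)}

theorem twenty_four_false (hn : Fintype.card α = 24) (h3 : Trans G 3)
    (hs : ∀ s : Finset α, s.card = 4 → Nat.card (inducedSub G s) = 8)
    (hT : ∀ T : Finset α, T.card = 3 → ∀ x ∉ T, (orbFin G T x).card = 7) : False := by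
  classical
  let M : Finset α → α → α → Prop := fun s x y => Ind G s (swap x y)
  have hMsymm : ∀ s x y, M s x y → M s y x := fun s x y h => by
    show Ind G s (swap y x); rw [swap_comm]; exact h
  have hMimg : ∀ g ∈ G, ∀ s x y, M s x y → M (s.image g) (g x) (g y) := fun g hg s x y h => by
    show Ind G (s.image g) (swap (g x) (g y))
    rw [swap_apply_apply]
    exact h.conj hg
  -- the three classes of the points outside a triple
  let P : Finset α → α → Finset α := fun T p => Tᶜ.filter fun y => M (insert y T) y p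
  have hP : ∀ {T p y}, y ∈ P T p ↔ y ∉ T ∧ M (insert y T) y p := fun {T p y} => by simp [P]
  have hpart : ∀ T : Finset α, T.card = 3 → ∀ y ∉ T, ∃ p ∈ T, y ∈ P T p ∧
      ∀ p' ∈ T, y ∈ P T p' → p' = p := by
    intro T hT3 y hy
    have hc : (insert y T).card = 4 := by rw [Finset.card_insert_of_notMem hy, hT3]
    obtain ⟨p, hp, hpy, hM, hu⟩ :=
      partner_of_card_eight hc (hs _ hc) (Finset.mem_insert_self y T)
    refine ⟨p, (Finset.mem_insert.1 hp).resolve_left hpy, hP.2 ⟨hy, hM⟩, fun p' hp' h => ?_⟩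
    exact hu p' (Finset.mem_insert_of_mem hp') (ne_of_mem_of_not_mem hp' hy) (hP.1 h).2
  have hPimg : ∀ g ∈ G, ∀ T p, (P T p).image g ⊆ P (T.image g) (g p) := by
    intro g hg T p y hy
    obtain ⟨z, hz, rfl⟩ := Finset.mem_image.1 hy
    obtain ⟨h1, h2⟩ := hP.1 hz
    refine hP.2 ⟨fun h => h1 ?_, ?_⟩
    · obtain ⟨w, hw, e⟩ := Finset.mem_image.1 h
      exact g.injective e ▸ hw
    · rw [← Finset.image_insert]
      exact hMimg g hg _ _ _ h2
  have hequal : ∀ T : Finset α, T.card = 3 → ∀ p ∈ T, ∀ p' ∈ T, (P T p).card ≤ (P T p').card := by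
    intro T hT3 p hp p' hp'
    obtain ⟨g, hg, hg'⟩ := h3 (swap p p') T hT3.le
    have him : T.image g = T := by
      rw [Finset.image_congr (g := swap p p') (fun x hx => hg' x hx)]
      exact (suppIn_swap hp hp').image_eq
    have := Finset.card_le_card (hPimg g hg T p)
    rwa [him, hg' p hp, swap_apply_left, Finset.card_image_of_injective _ g.injective] at this
  have hseven : ∀ T : Finset α, T.card = 3 → ∀ p ∈ T, (P T p).card = 7 := by
    intro T hT3 p hp
    have hsum : Tᶜ.card = ∑ p' ∈ T, (P T p').card := by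
      rw [← Finset.card_biUnion]
      · congr 1
        ext y
        simp only [Finset.mem_compl, Finset.mem_biUnion]
        refine ⟨fun hy => ?_, fun ⟨p', _, hy⟩ => (hP.1 hy).1⟩
        obtain ⟨q, hq, hy', -⟩ := hpart T hT3 y hy
        exact ⟨q, hq, hy'⟩
      · intro p₁ h₁ p₂ h₂ hne
        rw [Function.onFun, Finset.disjoint_left]
        intro y hy1 hy2
        obtain ⟨q, -, -, hu⟩ := hpart T hT3 y (hP.1 hy1).1
        exact hne ((hu p₁ h₁ hy1).trans (hu p₂ h₂ hy2).symm)
    rw [Finset.sum_const_nat (m := (P T p).card) fun p' hp' =>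
      le_antisymm (hequal T hT3 p' hp' p hp) (hequal T hT3 p hp p' hp'), Finset.card_compl, hT3,
      hn] at hsum
    omega
  have horbit : ∀ T : Finset α, T.card = 3 → ∀ p ∈ T, ∀ y ∈ P T p, ∀ y' ∈ P T p,
      y' ∈ orbFin G T y := by
    intro T hT3 p hp y hy y' hy'
    have hsub : orbFin G T y ⊆ P T p := by
      intro z hz
      obtain ⟨h, hh, rfl⟩ := mem_orbFin.1 hz
      have him : T.image h = T := by
        rw [Finset.image_congr (g := (id : α → α)) (fun x hx => hh.2 x hx), Finset.image_id]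
      have := hPimg h hh.1 T p (Finset.mem_image_of_mem h hy)
      rwa [him, hh.2 p hp] at this
    rw [Finset.eq_of_subset_of_card_le hsub (by rw [hseven T hT3 p hp, hT T hT3 y (hP.1 hy).1])]
    exact hy'
  obtain ⟨a, -, b, -, hab⟩ := Finset.one_lt_card.1
    (show 1 < (Finset.univ : Finset α).card by rw [Finset.card_univ]; omega)
  let V := {x : α // x ≠ a ∧ x ≠ b}
  let adj : V → V → Prop := fun x y => x ≠ y ∧ M {a, b, (x : α), (y : α)} x y
  have hset : ∀ x y : α, ({a, b, x, y} : Finset α) = insert y {a, b, x} := fun x y => by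
    ext z; simp only [Finset.mem_insert, Finset.mem_singleton]; tauto
  have hT3 : ∀ x : V, ({a, b, (x : α)} : Finset α).card = 3 := fun x =>
    Finset.card_eq_three.2 ⟨a, b, x, hab, x.2.1.symm, x.2.2.symm, rfl⟩
  have hmemT : ∀ x y : V, x ≠ y → (y : α) ∉ ({a, b, (x : α)} : Finset α) := fun x y h => by
    simp [y.2.1, y.2.2, Subtype.coe_injective.ne h.symm]
  have hadjP : ∀ x y : V, adj x y ↔ (y : α) ∈ P {a, b, (x : α)} x := by
    intro x y
    rw [hP]
    constructor
    · rintro ⟨hne, h⟩
      rw [hset] at h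
      exact ⟨hmemT x y hne, hMsymm _ _ _ h⟩
    · rintro ⟨hy, h⟩
      refine ⟨fun e => hy (by rw [e]; simp), ?_⟩
      rw [hset]
      exact hMsymm _ _ _ h
  -- invariance
  have hmove : ∀ g ∈ G, ({a, b} : Finset α).image g = {a, b} → ∃ f : V ≃ V,
      (∀ x : V, (f x : α) = g x) ∧ ∀ x y, adj x y → adj (f x) (f y) := by
    intro g hg him
    have hp : ∀ x, (g x ≠ a ∧ g x ≠ b) ↔ (x ≠ a ∧ x ≠ b) := fun x => by
      have h1 : g x ∈ ({a, b} : Finset α) ↔ x ∈ ({a, b} : Finset α) := by
        constructor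
        · intro h
          rw [← him] at h
          obtain ⟨z, hz, e⟩ := Finset.mem_image.1 h
          exact g.injective e ▸ hz
        · exact fun h => him ▸ Finset.mem_image_of_mem g h
      simp only [Finset.mem_insert, Finset.mem_singleton] at h1
      tauto
    refine ⟨g.subtypePerm hp, fun _ => rfl, fun x y hxy => ⟨fun e => hxy.1 ?_, ?_⟩⟩
    · exact (g.subtypePerm hp).injective e
    · have h := hMimg g hg _ _ _ hxy.2
      rwa [show ({a, b, (x : α), (y : α)} : Finset α).image g = {a, b, g x, g y} by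
        rw [show ({a, b, (x : α), (y : α)} : Finset α) = {a, b} ∪ {(x : α), (y : α)} by
            ext z; simp only [Finset.mem_insert, Finset.mem_singleton, Finset.mem_union]; tauto,
          Finset.image_union, him]
        ext z
        simp only [Finset.image_insert, Finset.image_singleton, Finset.mem_insert,
          Finset.mem_singleton, Finset.mem_union]
        tauto] at h
  have hcount : ∀ (f : V ≃ V), (∀ x y, adj x y → adj (f x) (f y)) → ∀ x y,
      (Finset.univ.filter fun z => adj x z ∧ adj z y).card ≤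
        (Finset.univ.filter fun z => adj (f x) z ∧ adj z (f y)).card := by
    intro f hf x y
    refine Finset.card_le_card_of_injOn f (fun z hz => ?_) f.injective.injOn
    simp only [Finset.coe_filter, Finset.mem_univ, true_and, Set.mem_setOf_eq] at hz ⊢
    exact ⟨hf _ _ hz.1, hf _ _ hz.2⟩
  -- the first point can be moved anywhere
  have htrans : ∀ x x' : V, ∃ g ∈ G, g a = a ∧ g b = b ∧ g (x : α) = x' := by
    intro x x'
    have h : (x' : α) ∈ orbFin G {a, b} x := by
      rw [orbFin_eq_compl h3 (Finset.card_le_two.trans_lt (by norm_num)) (by simp [x.2.1, x.2.2])]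
      simp [x'.2.1, x'.2.2]
    obtain ⟨g, hg, he⟩ := mem_orbFin.1 h
    exact ⟨g, hg.1, hg.2 a (by simp), hg.2 b (by simp), he⟩
  -- the second point can be moved within its class
  have hcls : ∀ x y y' : V, x ≠ y → x ≠ y' → (adj x y ↔ adj x y') →
      (Finset.univ.filter fun z => adj x z ∧ adj z y).card ≤
        (Finset.univ.filter fun z => adj x z ∧ adj z y').card := by
    intro x y y' hxy hxy' hiff
    set T : Finset α := {a, b, (x : α)} with hTdef
    obtain ⟨p, hp, hyp, hpu⟩ := hpart T (hT3 x) y (hmemT x y hxy)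
    obtain ⟨p', hp', hyp', hpu'⟩ := hpart T (hT3 x) y' (hmemT x y' hxy')
    obtain ⟨σ, hσ, hσp, hσx, hσab⟩ : ∃ σ : Perm α, SuppIn T σ ∧ σ p = p' ∧ σ x = x ∧
        ({a, b} : Finset α).image σ = {a, b} := by
      have hx : ∀ q ∈ T, ((x : α) = q ↔ ¬(q = a ∨ q = b)) := by
        intro q hq
        simp only [hTdef, Finset.mem_insert, Finset.mem_singleton] at hq
        rcases hq with rfl | rfl | rfl
        · simp [x.2.1]
        · simp [x.2.2]
        · simp [x.2.1, x.2.2]
      by_cases h : adj x y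
      · have e1 := hpu x (by simp [hTdef]) ((hadjP x y).1 h)
        have e2 := hpu' x (by simp [hTdef]) ((hadjP x y').1 (hiff.1 h))
        exact ⟨1, SuppIn.one T, by rw [← e1, ← e2]; rfl, rfl, by simp⟩
      · have n1 : ((x : α) ≠ p) := fun e => h ((hadjP x y).2 (e ▸ hyp : (y : α) ∈ P T (x : α)))
        have n2 : ((x : α) ≠ p') := fun e =>
          h (hiff.2 ((hadjP x y').2 (e ▸ hyp' : (y' : α) ∈ P T (x : α))))
        have m1 := not_not.1 (mt (hx p hp).2 n1)
        have m2 := not_not.1 (mt (hx p' hp').2 n2)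
        refine ⟨swap p p', suppIn_swap hp hp', swap_apply_left p p',
          swap_apply_of_ne_of_ne n1 n2, ?_⟩
        exact (suppIn_swap (s := ({a, b} : Finset α)) (by simpa using m1) (by simpa using m2)).image_eq
    obtain ⟨g, hg, hg'⟩ := h3 σ T (hT3 x).le
    have himT : T.image g = T := by
      rw [Finset.image_congr (g := σ) (fun z hz => hg' z hz)]; exact hσ.image_eq
    have hgy : g y ∈ P T p' := by
      have := hPimg g hg T p (Finset.mem_image_of_mem g hyp)
      rwa [himT, hg' p hp, hσp] at this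
    obtain ⟨k, hk, hk'⟩ := mem_orbFin.1 (horbit T (hT3 x) p' hp' _ hgy _ hyp')
    have him : ({a, b} : Finset α).image ⇑(k * g) = {a, b} := by
      rw [Finset.image_congr (g := σ) (fun z hz => ?_)]
      · exact hσab
      · have hzT : z ∈ T := by
          simp only [Finset.mem_coe, Finset.mem_insert, Finset.mem_singleton] at hz
          rcases hz with rfl | rfl <;> simp [hTdef]
        rw [Perm.mul_apply, hg' z hzT, hk.2 _ ((hσ.mem_iff z).2 hzT)]
    obtain ⟨f, hf, hfadj⟩ := hmove (k * g) (G.mul_mem hk.1 hg) him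
    have ex : f x = x := Subtype.ext (by
      rw [hf, Perm.mul_apply, hg' _ (by simp [hTdef]), hσx, hk.2 _ (by simp [hTdef])])
    have ey : f y = y' := Subtype.ext (by rw [hf, Perm.mul_apply, hk'])
    have := hcount f hfadj x y
    rwa [ex, ey] at this
  have hgen : ∀ x y x' y' : V, x ≠ y → x' ≠ y' → (adj x y ↔ adj x' y') →
      (Finset.univ.filter fun z => adj x z ∧ adj z y).card ≤
        (Finset.univ.filter fun z => adj x' z ∧ adj z y').card := by
    intro x y x' y' hxy hxy' hiff
    obtain ⟨g, hg, hga, hgb, hgx⟩ := htrans x x'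
    obtain ⟨f, hf, hfadj⟩ := hmove g hg (by simp [hga, hgb])
    obtain ⟨f', hf', hf'adj⟩ := hmove g⁻¹ (inv_mem hg) (by
      have ha : g⁻¹ a = a := by rw [Perm.inv_eq_iff_eq, hga]
      have hb : g⁻¹ b = b := by rw [Perm.inv_eq_iff_eq, hgb]
      rw [Finset.image_insert, Finset.image_singleton, ha, hb])
    have hff : ∀ z, f' (f z) = z := fun z => Subtype.ext (by rw [hf', hf, inv_apply_self])
    have ex : f x = x' := Subtype.ext (by rw [hf, hgx])
    have hiff' : adj x' (f y) ↔ adj x' y' := by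
      rw [← hiff, ← ex]
      exact ⟨fun h => by simpa [hff] using hf'adj _ _ h, hfadj x y⟩
    have h1 := hcount f hfadj x y
    rw [ex] at h1
    exact h1.trans (hcls x' (f y) y' (ex ▸ f.injective.ne hxy) hxy' hiff')
  have hV : Fintype.card V = 22 := by
    rw [Fintype.card_subtype]
    rw [show (Finset.univ.filter fun x => x ≠ a ∧ x ≠ b) = ({a, b} : Finset α)ᶜ by
      ext z; simp, Finset.card_compl, Finset.card_pair hab, hn]
  have hdeg : ∀ x, (Finset.univ.filter fun y => adj x y).card = 7 := by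
    intro x
    rw [← hseven _ (hT3 x) x (by simp)]
    refine Finset.card_bij (fun y _ => (y : α))
      (fun y hy => (hadjP x y).1 (Finset.mem_filter.1 hy).2) (fun y _ y' _ e => Subtype.ext e)
      (fun y hy => ?_)
    have hy1 := (hP.1 hy).1
    simp only [Finset.mem_insert, Finset.mem_singleton, not_or] at hy1
    exact ⟨⟨y, hy1.1, hy1.2.1⟩, Finset.mem_filter.2 ⟨Finset.mem_univ _,
      (hadjP x ⟨y, hy1.1, hy1.2.1⟩).2 hy⟩, rfl⟩
  obtain ⟨l, hl⟩ : ∃ l, ∀ x y, adj x y →
      (Finset.univ.filter fun z => adj x z ∧ adj z y).card = l := by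
    by_cases h : ∃ x y, adj x y
    · obtain ⟨x₀, y₀, h₀⟩ := h
      exact ⟨_, fun x y hxy => le_antisymm
        (hgen x y x₀ y₀ hxy.1 h₀.1 (iff_of_true hxy h₀))
        (hgen x₀ y₀ x y h₀.1 hxy.1 (iff_of_true h₀ hxy))⟩
    · exact ⟨0, fun x y hxy => absurd ⟨x, y, hxy⟩ h⟩
  obtain ⟨m, hm⟩ : ∃ m, ∀ x y, x ≠ y → ¬ adj x y →
      (Finset.univ.filter fun z => adj x z ∧ adj z y).card = m := by
    by_cases h : ∃ x y, x ≠ y ∧ ¬ adj x y
    · obtain ⟨x₀, y₀, h₀, h₀'⟩ := h
      exact ⟨_, fun x y hxy hxy' => le_antisymm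
        (hgen x y x₀ y₀ hxy h₀ (iff_of_false hxy' h₀'))
        (hgen x₀ y₀ x y h₀ hxy (iff_of_false h₀' hxy'))⟩
    · exact ⟨0, fun x y hxy hxy' => absurd ⟨x, y, hxy, hxy'⟩ h⟩
  exact srg22_false hV adj (fun x y h => ⟨h.1.symm, by
    rw [show ({a, b, (y : α), (x : α)} : Finset α) = {a, b, (x : α), (y : α)} by
      ext z; simp only [Finset.mem_insert, Finset.mem_singleton]; tauto]
    exact hMsymm _ _ _ h.2⟩) (fun x h => h.1 rfl) hdeg hl hm

theorem nineteen_false (hn : Fintype.card α = 19) (h3 : Trans G 3) (h5 : Homog G 5)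
    (hs : ∀ s : Finset α, s.card = 4 → Nat.card (inducedSub G s) = 6) : False := by
  classical
  let A : Finset α → α → Prop := fun s c =>
    c ∈ s ∧ ∀ σ, SuppIn s σ → Ind G s σ → σ c = c
  obtain ⟨q, u, e1, e2, -⟩ := apex_count (G := G) (m := 3) (A := A) (by omega) h3.homog h5
    (fun s c h => h.1)
    (fun s hs4 => by
      obtain ⟨c, hc, hc1, hc2⟩ := apex_of_card_six hs4 (hs s hs4)
      exact ⟨c, ⟨hc, hc1⟩, fun d hd => hc2 d hd.1 hd.2⟩)
    (fun g hg s c hc => by
      refine ⟨Finset.mem_image_of_mem g hc.1, fun σ hσ hi => ?_⟩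
      have h1 := hσ.conj g⁻¹
      have h2 := hi.conj (inv_mem hg)
      rw [image_image_inv, inv_inv] at h1 h2
      have h3 := hc.2 _ h1 h2
      rw [Perm.mul_apply, Perm.mul_apply, Perm.inv_eq_iff_eq] at h3
      exact h3)
  rw [hn] at e1 e2
  norm_num [Nat.choose_eq_descFactorial_div_factorial, Nat.descFactorial, Nat.factorial] at e1 e2
  obtain rfl : q = 4 := by omega
  norm_num [Nat.descFactorial] at e2
  omega

end CfsgLib.Homog
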