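import Mathlib
import Cfsg.Agent.Homog.Nine
import Cfsg.Agent.Homog.TwentyFour

/-!
Three-transitive groups transitive on sets of four and five elements.
-/

namespace CfsgLib.Homog

open Equiv

variable {α : Type*} [DecidableEq α] [Fintype α] {G : Subgroup (Perm α)}

theorem five_case (hn : 6 ≤ Fintype.card α) (h3 : Trans G 3) (h4 : Homog G 4) (h5 : Homog G 5) :
    Trans G 4 ∨ (Fintype.card α = 6 ∧ Nat.card G = 120) ∨
      (Fintype.card α = 9 ∧ (Nat.card G = 504 ∨ Nat.card G = 1512)) := by
  classical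
  by_cases hn4 : Trans G 4
  · exact Or.inl hn4
  right
  obtain ⟨ρ, κ, q, u, hρ, hρlt, hκ, hq, heq, hu, he, hs, hT⟩ := five_params (by omega) h3 h4 h5 hn4
  rcases five_arith hn hρ hρlt hq heq hu he with ⟨rfl, hcases⟩ | ⟨rfl, rfl, h⟩ | ⟨rfl, rfl, h⟩ |
      ⟨rfl, rfl, h⟩ | ⟨rfl, rfl, h⟩
  · have hH : ∀ T : Finset α, T.card = 3 → fixer G T = ⊥ := by
      intro T hT'
      rw [Subgroup.eq_bot_iff_forall]
      intro g hg
      refine Equiv.ext fun x => ?_
      by_cases hx : x ∈ T
      · exact hg.2 x hx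
      · obtain ⟨y, hy⟩ := Finset.card_eq_one.1 ((hT T hT').2 x hx)
        have h1 : g x ∈ orbFin G T x := mem_orbFin.2 ⟨g, hg, rfl⟩
        have h2 := self_mem_orbFin (G := G) T x
        rw [hy, Finset.mem_singleton] at h1 h2
        rw [h1, ← h2, Perm.one_apply]
    obtain ⟨T, -, hT3⟩ := Finset.exists_subset_card_eq (s := (Finset.univ : Finset α)) (n := 3)
      (by simp only [Finset.card_univ]; omega)
    have hG : Nat.card G = (Fintype.card α).descFactorial 3 := by
      rw [card_eq_descFactorial h3 hT3.le, hT3, hH T hT3, Subgroup.card_bot, mul_one]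
    have hdvd := choose_dvd_card (m := 5) (by omega) h5
    rw [hG, Nat.choose_eq_descFactorial_div_factorial] at hdvd
    rcases hcases with h | h | h | h | h | h <;> rw [h] at hdvd hG
    · exact Or.inl ⟨h, by rw [hG]; decide⟩
    · exact absurd h fun h => seven_false h h3 hH
    · exact Or.inr ⟨h, Or.inl (by rw [hG]; decide)⟩
    all_goals
      norm_num [Nat.descFactorial, Nat.factorial] at hdvd
  · exact Or.inr ⟨h, Or.inr (nine_twelve h h3 hn4 hs hT)⟩
  · exact (nine_eight h h3 hn4 hs hT).elim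
  · exact (twenty_four_false h h3 (fun s hs' => (hs s hs').1) fun T hT' => (hT T hT').2).elim
  · exact (nineteen_false h h3 h5 fun s hs' => (hs s hs').1).elim

end CfsgLib.Homog
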