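import Mathlib
import Cfsg.Agent.Homog.Small

/-!
Two-transitive groups transitive on sets of three and four elements.
-/

namespace CfsgLib.Homog

open Equiv

variable {α : Type*} [DecidableEq α] [Fintype α] {G : Subgroup (Perm α)}

theorem choose_two_cast (n : ℕ) : (n.choose 2 : ℤ) * 2 = n * ((n : ℤ) - 1) := by
  rcases n with _ | n
  · simp
  have h1 := Nat.descFactorial_eq_factorial_mul_choose (n + 1) 2
  simp [Nat.descFactorial_succ] at h1
  push_cast
  have h2 := congrArg (Nat.cast : ℕ → ℤ) h1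
  push_cast at h2
  linarith

/-- The equations of `apex_count` for `m = 2` leave one solution. -/
theorem four_arith {n q u : ℕ} (hn : 5 ≤ n) (h1 : n.choose 2 * q = n.choose 3)
    (h2 : n.choose 2 * q.choose 2 = n.choose 4 * u) : n = 5 := by
  have hp : 0 < n.choose 2 := Nat.choose_pos (by omega)
  have e3 : n.choose 3 * 3 = n.choose 2 * (n - 2) := Nat.choose_succ_right_eq n 2
  have e4 : n.choose 4 * 4 = n.choose 3 * (n - 3) := Nat.choose_succ_right_eq n 3
  rw [← h1, mul_assoc] at e3 e4
  have hq : q * 3 = n - 2 := Nat.eq_of_mul_eq_mul_left hp e3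
  have hu : q.choose 2 * 4 = q * (n - 3) * u := Nat.eq_of_mul_eq_mul_left hp (by
    rw [← mul_assoc, h2, mul_right_comm, e4]; ring)
  rcases Nat.lt_or_ge q 2 with hq2 | hq2
  · omega
  exfalso
  have e2 := choose_two_cast q
  have hu' : (q.choose 2 : ℤ) * 4 = q * ((3 * q : ℤ) - 1) * u := by
    have : n - 3 = 3 * q - 1 := by omega
    rw [this] at hu
    have h3 : 1 ≤ 3 * q := by omega
    exact_mod_cast hu
  have hu0 : 1 ≤ u := by
    rcases Nat.eq_zero_or_pos u with rfl | h
    · have := Nat.choose_pos hq2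
      simp at hu
      omega
    · exact h
  have hqp : (2 : ℤ) ≤ q := by exact_mod_cast hq2
  have hup : (1 : ℤ) ≤ u := by exact_mod_cast hu0
  have h2' : 2 * ((q : ℤ) - 1) = (3 * q - 1) * u := mul_left_cancel₀ (a := (q : ℤ)) (by omega) (by
    linear_combination hu' - 2 * e2)
  nlinarith

theorem four_case (hn : 5 ≤ Fintype.card α) (h2 : Trans G 2) (h3 : Homog G 3) (h4 : Homog G 4) :
    Trans G 3 ∨ (Fintype.card α = 5 ∧ Nat.card G = 20) := by
  classical
  by_contra hcon
  simp only [not_or, not_and] at hcon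
  obtain ⟨hn3, hcard⟩ := hcon
  by_cases hno : ∀ s : Finset α, s.card = 3 → NoOdd G s
  · exact oriented_false hn h2 h3 h4 hno
  simp only [NoOdd, not_forall] at hno
  obtain ⟨s₀, hs₀, σ, hσ, hσi, hσodd⟩ := hno
  obtain ⟨a₀, ha₀, b₀, hb₀, hab₀, rfl⟩ := exists_swap_of_odd hs₀ hσ hσodd
  let A : Finset α → α → Prop := fun s c =>
    c ∈ s ∧ ∃ a b, a ≠ b ∧ c ≠ a ∧ c ≠ b ∧ s = {c, a, b} ∧ Ind G s (swap a b)
  have hinv : ∀ g ∈ G, ∀ s c, A s c → A (s.image g) (g c) := by
    rintro g hg s c ⟨hc, a, b, hab, hca, hcb, rfl, hi⟩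
    refine ⟨Finset.mem_image_of_mem g hc, g a, g b, g.injective.ne hab, g.injective.ne hca,
      g.injective.ne hcb, by simp [Finset.image_insert], ?_⟩
    rw [swap_apply_apply]
    exact hi.conj hg
  have huniq : ∀ s : Finset α, s.card = 2 + 1 → ∃ c, A s c ∧ ∀ d, A s d → d = c := by
    intro s hs
    obtain ⟨c₀, hc₀⟩ : ∃ c, A s₀ c := by
      obtain ⟨c, hc⟩ := Finset.card_pos.1 (show 0 < ((s₀.erase a₀).erase b₀).card by
        rw [Finset.card_erase_of_mem (Finset.mem_erase.2 ⟨hab₀.symm, hb₀⟩),
          Finset.card_erase_of_mem ha₀, hs₀]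
        norm_num)
      simp only [Finset.mem_erase] at hc
      refine ⟨c, hc.2.2, a₀, b₀, hab₀, hc.2.1, hc.1, (Finset.eq_of_subset_of_card_le ?_ ?_).symm,
        hσi⟩
      · simp [Finset.insert_subset_iff, hc.2.2, ha₀, hb₀]
      · rw [hs₀, Finset.card_eq_three.2 ⟨c, a₀, b₀, hc.2.1, hc.1, hab₀, rfl⟩]
    obtain ⟨g, hg, rfl⟩ := h3 s₀ s hs₀ hs
    refine ⟨g c₀, hinv g hg _ _ hc₀, fun d hd => ?_⟩
    obtain ⟨hc, a, b, hab, hca, hcb, he, hi⟩ := hinv g hg _ _ hc₀
    obtain ⟨hd', a', b', hab', hda, hdb, he', hi'⟩ := hd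
    generalize g c₀ = c at hc hca hcb he
    generalize s₀.image g = s at hc he hi hd' he' hi' hs
    by_contra hdc
    obtain ⟨e, hce, hde, hse⟩ : ∃ e, c ≠ e ∧ d ≠ e ∧ s = {c, d, e} := by
      rw [he] at hd'
      simp only [Finset.mem_insert, Finset.mem_singleton] at hd'
      rcases hd' with rfl | rfl | rfl
      · exact absurd rfl hdc
      · exact ⟨b, hcb, hab, he⟩
      · exact ⟨a, hca, hab.symm, by rw [he, Finset.pair_comm]⟩
    have key : ∀ x p r y z : α, x ≠ p → x ≠ r → p ≠ r → x ≠ y → x ≠ z → y ≠ z →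
        s = {x, p, r} → s = {x, y, z} → Ind G s (swap p r) → Ind G s (swap y z) := by
      intro x p r y z hxp hxr hpr hxy hxz hyz h h' hi
      have e1 : s.erase x = {p, r} := by
        rw [h, Finset.erase_insert (by simp [hxp, hxr])]
      have hy : y ∈ s.erase x := by rw [h', Finset.erase_insert (by simp [hxy, hxz])]; simp
      have hz : z ∈ s.erase x := by rw [h', Finset.erase_insert (by simp [hxy, hxz])]; simp
      rw [e1] at hy hz
      simp only [Finset.mem_insert, Finset.mem_singleton] at hy hz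
      rcases hy with rfl | rfl <;> rcases hz with rfl | rfl
      · exact absurd rfl hyz
      · exact hi
      · rwa [swap_comm]
      · exact absurd rfl hyz
    have hde' := key c a b d e hca hcb hab (Ne.symm hdc) hce hde he hse hi
    have hce' := key d a' b' c e hda hdb hab' hdc hde hce he' (by rw [hse, Finset.insert_comm]) hi'
    have hcd' : Ind G s (swap c d) := by
      have hd1 : d ∈ s := by rw [hse]; simp
      have he1 : e ∈ s := by rw [hse]; simp
      have hc1 : c ∈ s := by rw [hse]; simp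
      have := (hde'.mul hce' (suppIn_swap hc1 he1)).mul hde' (suppIn_swap hd1 he1)
      have e1 : swap d e * swap c e * swap d e = swap c d := by
        conv_lhs => rw [show swap d e * swap c e * swap d e =
          swap d e * swap c e * (swap d e)⁻¹ by rw [swap_inv]]
        rw [← swap_apply_apply, swap_apply_of_ne_of_ne (Ne.symm hdc) hce, swap_apply_right]
      rwa [e1] at this
    refine inducedSub_ne_top (by omega) h3 hn3 hs (inducedSub_eq_top_of_swaps fun x hx y hy hxy => ?_)
    rw [hse] at hx hy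
    simp only [Finset.mem_insert, Finset.mem_singleton] at hx hy
    rcases hx with rfl | rfl | rfl <;> rcases hy with rfl | rfl | rfl <;>
      first
        | exact absurd rfl hxy
        | assumption
        | (rw [swap_comm]; assumption)
  obtain ⟨q, u, e1, e2, -⟩ := apex_count (m := 2) (by omega) h2.homog h4 (fun s c h => h.1) huniq hinv
  have hn5 := four_arith hn e1 e2
  refine hcard hn5 ?_
  obtain ⟨t, -, ht⟩ := Finset.exists_subset_card_eq (s := (Finset.univ : Finset α)) (n := 2)
    (by simp only [Finset.card_univ]; omega)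
  rw [card_eq_descFactorial h2 ht.le, ht, hn5]
  suffices fixer G t = ⊥ by rw [this, Subgroup.card_bot]; rfl
  rw [Subgroup.eq_bot_iff_forall]
  intro g hg
  by_contra hg1
  have hs3 : g.support.card ≤ 3 := by
    refine le_trans (Finset.card_le_card (t := tᶜ) fun x hx => ?_) (by
      rw [Finset.card_compl, ht, hn5])
    exact Finset.mem_compl.2 fun h => Perm.mem_support.1 hx (hg.2 x h)
  exact hn3 (trans_of_alternating_le
    (alternating_le_of_small_support h2 (by omega) hg.1 hg1 hs3) (by omega))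

end CfsgLib.Homog
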