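import Mathlib
import Cfsg.Agent.Homog.Basic

/-!
Homogeneity descends by one.
-/

namespace CfsgLib.Homog

open Equiv

theorem not_dvd_choose {p a r : ℕ} (hp : p.Prime) (ha : 0 < a) (hr : ¬ p ∣ r) :
    ¬ p ^ 1 ∣ Nat.choose (p ^ a * r + (p ^ a - 1)) (p ^ a * r - 1) := by
  set q := p ^ a with hqd
  set k := q * r with hkd
  have hq : 0 < q := pow_pos hp.pos a
  have hr0 : 0 < r := Nat.pos_of_ne_zero fun h => hr (h ▸ dvd_zero p)
  have hk : q ≤ k := Nat.le_mul_of_pos_right q hr0
  rw [show k + (q - 1) = (k - 1) + q by omega, Nat.choose_symm_add]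
  have hA : ¬ p ∣ Nat.choose (k + (q - 1)) (q - 1) := by
    intro h
    have := (Nat.Prime.emultiplicity_choose' (p := p) (n := k) (k := q - 1)
      (b := k + q) hp (Nat.log_lt_self p (by omega) |>.trans_le (by omega)))
    have hne : Finset.filter (fun i => p ^ i ≤ (q - 1) % p ^ i + k % p ^ i)
        (Finset.Ico 1 (k + q)) = ∅ := by
      rw [Finset.filter_eq_empty_iff]
      intro i hi hle
      rcases le_or_gt i a with hia | hia
      · have hdvd : p ^ i ∣ k := dvd_mul_of_dvd_left (pow_dvd_pow p hia) r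
        rw [Nat.mod_eq_zero_of_dvd hdvd] at hle
        · have := Nat.mod_lt (q - 1) (pow_pos hp.pos i)
          omega
      · obtain ⟨c, hc⟩ : q ∣ p ^ i := pow_dvd_pow p hia.le
        have hq1 : (q - 1) % p ^ i = q - 1 := Nat.mod_eq_of_lt (by
          have : q ≤ p ^ i := Nat.le_of_dvd (pow_pos hp.pos i) ⟨c, hc⟩
          omega)
        have hkm : k % p ^ i = q * (r % c) := by rw [hc, hkd, Nat.mul_mod_mul_left]
        rw [hq1, hkm] at hle
        have hc0 : 0 < c := Nat.pos_of_ne_zero fun h => by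
          rw [h, mul_zero] at hc
          exact (pow_pos hp.pos i).ne' hc
        have : q * (r % c + 1) ≤ q * c := Nat.mul_le_mul_left q (Nat.mod_lt r hc0)
        rw [← hc, Nat.mul_succ] at this
        omega
    rw [hne, Finset.card_empty] at this
    exact (emultiplicity_ne_zero.2 h) (by simpa using this)
  intro h
  rw [pow_one] at h
  have hid := Nat.choose_succ_right_eq ((k - 1) + q) (q - 1)
  rw [show q - 1 + 1 = q by omega, show (k - 1) + q - (q - 1) = k by omega] at hid
  rw [show k + (q - 1) = (k - 1) + q by omega] at hA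
  have h2 : ((k - 1) + q).choose q = ((k - 1) + q).choose (q - 1) * r := by
    apply Nat.eq_of_mul_eq_mul_right hq
    rw [hid, hkd]; ring
  rw [h2] at h
  exact (hp.dvd_mul.1 h).elim hA hr

variable {α : Type*} [DecidableEq α] [Fintype α] {G : Subgroup (Perm α)}

theorem Homog.pred {k : ℕ} (hk : 1 ≤ k) (hkn : k ≤ Fintype.card α) (hh : Homog G k)
    (hq : ∀ q : ℕ, IsPrimePow q → q ∣ k → k + q - 1 ≤ Fintype.card α) : Homog G (k - 1) := by
  classical
  intro s₀ t₀ hs ht
  let O : Finset α → Prop := fun t => ∃ g ∈ G, s₀.image g = t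
  have hinv : ∀ g ∈ G, ∀ t, O t → O (t.image g) := by
    rintro g hg _ ⟨h, hh', rfl⟩
    refine ⟨g * h, G.mul_mem hg hh', ?_⟩
    rw [Finset.image_image]; rfl
  let cnt : Finset α → ℕ := fun s => ((s.powersetCard (k - 1)).filter O).card
  -- the count is constant
  have hconst : ∀ s t : Finset α, s.card = k → t.card = k → cnt s ≤ cnt t := by
    intro s t hs' ht'
    obtain ⟨g, hg, rfl⟩ := hh s t hs' ht'
    refine Finset.card_le_card_of_injOn (fun u => u.image g) (fun u hu => ?_)
      (fun u _ v _ h => Finset.image_injective g.injective h)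
    obtain ⟨hu1, hu2⟩ := Finset.mem_filter.1 hu
    obtain ⟨hu1, hu3⟩ := Finset.mem_powersetCard.1 hu1
    exact Finset.mem_filter.2 ⟨Finset.mem_powersetCard.2 ⟨Finset.image_subset_image hu1,
      by rw [Finset.card_image_of_injective _ g.injective, hu3]⟩, hinv g hg u hu2⟩
  obtain ⟨S, -, hS⟩ := Finset.exists_subset_card_eq (s := (Finset.univ : Finset α)) (n := k)
    (by simpa using hkn)
  set c := cnt S with hc
  have hc' : ∀ s : Finset α, s.card = k → cnt s = c := fun s h =>
    le_antisymm (hconst s S h hS) (hconst S s hS h)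
  -- counting inside a set of size `m`
  have key : ∀ m, k ≤ m → m ≤ Fintype.card α → k ∣ c * Nat.choose m (k - 1) := by
    intro m hkm hm
    obtain ⟨M, -, hM⟩ := Finset.exists_subset_card_eq (s := (Finset.univ : Finset α)) (n := m)
      (by simpa using hm)
    set A := (M.powersetCard (k - 1)).filter O with hA
    have h1 : ∑ s ∈ M.powersetCard k, (A.filter fun u => u ⊆ s).card = M.card.choose k * c := by
      rw [Finset.sum_const_nat (m := c) fun s hs' => ?_, Finset.card_powersetCard]
      obtain ⟨hsM, hsk⟩ := Finset.mem_powersetCard.1 hs'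
      rw [← hc' s hsk]
      apply congrArg Finset.card
      ext u
      simp only [hA, Finset.mem_filter, Finset.mem_powersetCard]
      constructor
      · rintro ⟨⟨⟨-, h2⟩, h3⟩, h4⟩; exact ⟨⟨h4, h2⟩, h3⟩
      · rintro ⟨⟨h4, h2⟩, h3⟩; exact ⟨⟨⟨h4.trans hsM, h2⟩, h3⟩, h4⟩
    have h2 : ∀ u ∈ A, ((M.powersetCard k).filter fun s => u ⊆ s).card = m - (k - 1) := by
      intro u hu
      obtain ⟨huM, huk⟩ := Finset.mem_powersetCard.1 (Finset.mem_filter.1 hu).1
      rw [← hM, ← huk, ← Finset.card_sdiff_of_subset huM]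
      refine (Finset.card_bij (fun x _ => insert x u) ?_ ?_ ?_).symm
      · intro x hx
        obtain ⟨hx1, hx2⟩ := Finset.mem_sdiff.1 hx
        exact Finset.mem_filter.2 ⟨Finset.mem_powersetCard.2 ⟨Finset.insert_subset hx1 huM,
          by rw [Finset.card_insert_of_notMem hx2]; omega⟩, Finset.subset_insert _ _⟩
      · intro x hx y _ h
        have : x ∈ insert y u := h ▸ Finset.mem_insert_self x u
        exact (Finset.mem_insert.1 this).resolve_right (Finset.mem_sdiff.1 hx).2
      · intro s hs'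
        obtain ⟨hs1, hus⟩ := Finset.mem_filter.1 hs'
        obtain ⟨hsM, hsk⟩ := Finset.mem_powersetCard.1 hs1
        have : (s \ u).card = 1 := by rw [Finset.card_sdiff_of_subset hus]; omega
        obtain ⟨x, hx⟩ := Finset.card_eq_one.1 this
        have hxm : x ∈ s \ u := hx ▸ Finset.mem_singleton_self x
        obtain ⟨hxs, hxu⟩ := Finset.mem_sdiff.1 hxm
        exact ⟨x, Finset.mem_sdiff.2 ⟨hsM hxs, hxu⟩, Finset.eq_of_subset_of_card_le
          (Finset.insert_subset hxs hus) (by rw [Finset.card_insert_of_notMem hxu]; omega)⟩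
    have h3 : (M.powersetCard k).sum (fun s => (A.filter fun u => u ⊆ s).card) =
        A.sum (fun u => ((M.powersetCard k).filter fun s => u ⊆ s).card) := by
      simp only [Finset.card_eq_sum_ones, Finset.sum_filter]
      exact Finset.sum_comm
    rw [Finset.sum_const_nat h2, h1, hM] at h3
    refine ⟨A.card, ?_⟩
    have hid := Nat.choose_succ_right_eq m (k - 1)
    rw [show k - 1 + 1 = k by omega] at hid
    apply Nat.eq_of_mul_eq_mul_right (show 0 < m - (k - 1) by omega)
    calc c * m.choose (k - 1) * (m - (k - 1)) = c * (m.choose (k - 1) * (m - (k - 1))) := by ring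
      _ = (m.choose k * c) * k := by rw [← hid]; ring
      _ = k * A.card * (m - (k - 1)) := by rw [h3]; ring
  -- `k` divides the count
  have hdvd : k ∣ c := by
    rw [Nat.dvd_iff_prime_pow_dvd_dvd]
    intro p i hp hpi
    rcases Nat.eq_zero_or_pos i with rfl | hi
    · simp
    obtain ⟨a, r, hr, hka⟩ := Nat.exists_eq_pow_mul_and_not_dvd (show k ≠ 0 by omega) p hp.ne_one
    have hia : i ≤ a := by
      by_contra h
      refine hr (Nat.dvd_of_mul_dvd_mul_left (pow_pos hp.pos a) ?_)
      rw [← hka, ← pow_succ]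
      exact (pow_dvd_pow p (by omega)).trans hpi
    have hqk : p ^ a ∣ k := ⟨r, hka⟩
    have hm := hq (p ^ a) (hp.isPrimePow.pow (by omega)) hqk
    have hpos : 1 ≤ p ^ a := Nat.one_le_pow _ _ hp.pos
    have h := key (k + p ^ a - 1) (by omega) hm
    rw [show k + p ^ a - 1 = k + (p ^ a - 1) by omega] at h
    have hnd := not_dvd_choose hp (show 0 < a by omega) hr
    rw [← hka, pow_one] at hnd
    exact (pow_dvd_pow p hia).trans
      ((Nat.Coprime.pow_left a (hp.coprime_iff_not_dvd.2 hnd)).dvd_of_dvd_mul_right (hqk.trans h))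
  -- every set of size `k - 1` lies in the orbit
  have hcard : ∀ s : Finset α, s.card = k → (s.powersetCard (k - 1)).card = k := by
    intro s hs'
    rw [Finset.card_powersetCard, hs']
    exact (Nat.choose_symm (show 1 ≤ k by omega)).trans (Nat.choose_one_right k)
  obtain ⟨S₀, hsS₀, hS₀⟩ := Finset.exists_superset_card_eq (show s₀.card ≤ k by omega) hkn
  have hcpos : 0 < c := by
    rw [← hc' S₀ hS₀]
    exact Finset.card_pos.2 ⟨s₀, Finset.mem_filter.2 ⟨Finset.mem_powersetCard.2 ⟨hsS₀, hs⟩,
      1, G.one_mem, by simp⟩⟩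
  obtain ⟨T, htT, hT⟩ := Finset.exists_superset_card_eq (show t₀.card ≤ k by omega) hkn
  have hfull : (T.powersetCard (k - 1)).filter O = T.powersetCard (k - 1) := by
    refine Finset.eq_of_subset_of_card_le (Finset.filter_subset _ _) ?_
    rw [hcard T hT]
    calc k ≤ c := Nat.le_of_dvd hcpos hdvd
      _ = _ := (hc' T hT).symm
  have : t₀ ∈ (T.powersetCard (k - 1)).filter O := by
    rw [hfull]; exact Finset.mem_powersetCard.2 ⟨htT, ht⟩
  exact (Finset.mem_filter.1 this).2

theorem Homog.pred_of_le {k : ℕ} (hk : 1 ≤ k) (hkn : 2 * k ≤ Fintype.card α + 1)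
    (hh : Homog G k) : Homog G (k - 1) :=
  hh.pred hk (by omega) fun q _ hqk => by have := Nat.le_of_dvd (by omega) hqk; omega

end CfsgLib.Homog
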