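import Mathlib
import Cfsg.Agent.Homog.Pred
import Cfsg.Agent.Homog.Four
import Cfsg.Agent.Homog.FiveCases
import Cfsg.Agent.Homog.Five
import Cfsg.Agent.Homog.Extend

/-!
The theorem of Livingstone and Wagner.
-/

namespace CfsgLib.Homog

open Equiv

variable {α : Type*} [DecidableEq α] [Fintype α] {G : Subgroup (Perm α)}

theorem homog_classification {k : ℕ} (hk : 3 ≤ k) (hkn : k ≤ Fintype.card α)
    (ht : Trans G (k - 2)) (hh1 : Homog G (k - 1)) (hh : Homog G k) :
    Trans G (k - 1) ∨ (k = Fintype.card α ∧ G = alternatingGroup α) ∨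
      (Fintype.card α = 5 ∧ k = 4 ∧ Nat.card G = 20) ∨
      (Fintype.card α = 6 ∧ k = 5 ∧ Nat.card G = 120) ∨
      (Fintype.card α = 9 ∧ k = 5 ∧ (Nat.card G = 504 ∨ Nat.card G = 1512)) := by
  classical
  by_cases hn1 : Trans G (k - 1)
  · exact Or.inl hn1
  right
  rcases Nat.lt_or_ge k (Fintype.card α) with hlt | hge
  · rcases (show k = 3 ∨ k = 4 ∨ k = 5 ∨ 6 ≤ k by omega) with rfl | rfl | rfl | hk6
    · exact absurd (three_case hlt ht hh1 hh) hn1
    · rcases four_case hlt ht hh1 hh with h | ⟨h, h'⟩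
      · exact absurd h hn1
      · exact Or.inr (Or.inl ⟨h, rfl, h'⟩)
    · rcases five_case hlt ht hh1 hh with h | ⟨h, h'⟩ | ⟨h, h'⟩
      · exact absurd h hn1
      · exact Or.inr (Or.inr (Or.inl ⟨h, rfl, h'⟩))
      · exact Or.inr (Or.inr (Or.inr ⟨h, rfl, h'⟩))
    · exfalso
      obtain ⟨Δ, hΔ, hA⟩ := exists_allEven G (show 4 ≤ k - 2 by omega) (by omega) ht
      have hΔ' : Δ.card = k - 1 := by omega
      have hAll : ∀ s : Finset α, s.card = k - 1 → AllEven G s := fun s hs =>
        hA.of_homog hh1 hΔ' hs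
      have hNo : ∀ s : Finset α, s.card = k - 1 → NoOdd G s := fun s hs =>
        by_contra fun h => hn1 (trans_of_all (by omega) hh1 hs (all_of_even_of_odd (hAll s hs) h))
      rcases (show k = 6 ∨ 7 ≤ k by omega) with rfl | hk7
      · exact five_false G (by omega) hh1 hAll hNo
      · exact hn1 (trans_of_alternating_le (alternating_le_of_noOdd (k := k - 1) (by omega)
          (by omega) (ht.mono (by omega)) hNo) (by omega))
  · left
    refine ⟨le_antisymm hkn hge, ?_⟩
    have hA := alternating_le_of_trans ht (by omega)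
    refine le_antisymm (fun g hg => ?_) hA
    rw [Perm.mem_alternatingGroup]
    by_contra hodd
    refine hn1 fun σ s _ => ⟨σ, ?_, fun _ _ => rfl⟩
    rcases Int.units_eq_one_or (Perm.sign σ) with h | h
    · exact hA (Perm.mem_alternatingGroup.2 h)
    · have h1 : σ * g⁻¹ ∈ G := hA (Perm.mem_alternatingGroup.2 (by
        rw [map_mul, h, Perm.sign_inv, (Int.units_eq_one_or _).resolve_left hodd]; decide))
      simpa [mul_assoc] using G.mul_mem h1 hg

theorem trans_pred_of_homog {k : ℕ} (hk : 2 ≤ k) (hkn : 2 * k ≤ Fintype.card α)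
    (hh : Homog G k) : Trans G (k - 1) := by
  induction k with
  | zero => omega
  | succ k ih =>
    have hh1 : Homog G k := hh.pred_of_le (by omega) (by omega)
    rcases Nat.lt_or_ge k 2 with h | h
    · obtain rfl : k = 1 := by omega
      intro σ s hs
      rcases s.eq_empty_or_nonempty with rfl | ⟨x, hx⟩
      · exact ⟨1, G.one_mem, by simp⟩
      · obtain rfl : s = {x} := (Finset.eq_singleton_iff_unique_mem).2 ⟨hx, fun y hy =>
          Finset.card_le_one.1 hs y hy x hx⟩
        obtain ⟨g, hg, he⟩ := hh1 {x} {σ x} rfl rfl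
        refine ⟨g, hg, fun y hy => ?_⟩
        rw [Finset.mem_singleton.1 hy]
        simpa using he
    · rcases homog_classification (k := k + 1) (by omega) (by omega)
        (ih h (by omega) hh1) hh1 hh with h' | ⟨h', -⟩ | ⟨h', h'', -⟩ | ⟨h', h'', -⟩ | ⟨h', h'', -⟩
      · exact h'
      all_goals omega

theorem trans_of_homog {k : ℕ} (hk : 5 ≤ k) (hkn : 2 * k ≤ Fintype.card α) (hh : Homog G k) :
    Trans G k := by
  classical
  have ht := trans_pred_of_homog (by omega) hkn hh
  obtain ⟨Δ, hΔ, hA⟩ := exists_allEven G (show 4 ≤ k - 1 by omega) (by omega) ht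
  have hΔ' : Δ.card = k := by omega
  by_contra hn
  have hAll : ∀ s : Finset α, s.card = k → AllEven G s := fun s hs => hA.of_homog hh hΔ' hs
  have hNo : ∀ s : Finset α, s.card = k → NoOdd G s := fun s hs =>
    by_contra fun h => hn (trans_of_all (by omega) hh hs (all_of_even_of_odd (hAll s hs) h))
  rcases (show k = 5 ∨ 6 ≤ k by omega) with rfl | hk6
  · exact five_false G (by omega) hh hAll hNo
  · exact hn (trans_of_alternating_le (alternating_le_of_noOdd hk6 (by omega)
      (ht.mono (by omega)) hNo) (by omega))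

end CfsgLib.Homog
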